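import Mathlib
import Cfsg.Prelude.Def_Solvable

set_option autoImplicit false

namespace Cfsg.Agent.Helper94

open scoped commutatorElement

variable {G : Type*} [Group G]

/-- Descent along the derived series of a normal solvable subgroup `C`: if every normal subgroup `A ≤ C` of `G`
with `⁅A, A⁆ ≤ Z` satisfies `A ≤ Z`, then `C ≤ Z`. -/
theorem derived_descent (C Z : Subgroup G) [hC : C.Normal] [hs : Group.IsSolvable C]
    (hstep : ∀ A : Subgroup G, A.Normal → A ≤ C → ⁅A, A⁆ ≤ Z → A ≤ Z) : C ≤ Z := by
  obtain ⟨N, hN⟩ := (Group.isSolvable_def C).mp hs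
  have key : ∀ k n : ℕ, n + k = N → (derivedSeries C n).map C.subtype ≤ Z := by
    intro k
    induction k with
    | zero =>
      intro n hn
      rw [add_zero] at hn
      rw [hn, hN, Subgroup.map_bot]
      exact bot_le
    | succ k ih =>
      intro n hn
      have h1 := ih (n + 1) (by omega)
      apply hstep
      · exact ConjAct.normal_of_characteristic_of_normal
      · exact Subgroup.map_subtype_le _
      · rw [← Subgroup.map_commutator, ← derivedSeries_succ]
        exact h1
  have h0 := key N 0 (by omega)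
  rw [derivedSeries_zero, ← MonoidHom.range_eq_map, Subgroup.range_subtype] at h0
  exact h0

/-- A subgroup all of whose commutators are central in it is nilpotent. -/
theorem isNilpotent_of_commutators_central (A : Subgroup G)
    (h : ∀ x ∈ A, ∀ y ∈ A, ∀ z ∈ A, ⁅x, y⁆ * z = z * ⁅x, y⁆) : Group.IsNilpotent A := by
  rw [Subgroup.nilpotent_iff_finite_descending_central_series]
  refine ⟨2, fun n => if n = 0 then ⊤ else if n = 1 then Subgroup.center A else ⊥, ⟨by simp, ?_⟩, by simp⟩
  intro x n hx g
  rcases n with _ | _ | n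
  · simp only [zero_add, one_ne_zero, if_false, if_true]
    rw [Subgroup.mem_center_iff]
    intro z
    apply Subtype.ext
    have := h x x.2 g g.2 z z.2
    simp only [Subgroup.coe_mul, commutatorElement_def, Subgroup.coe_inv] at this ⊢
    exact this.symm
  · simp only [zero_add, one_ne_zero, if_false, if_true] at hx
    have h2 : (1 : ℕ) + 1 ≠ 0 := by omega
    have h3 : (1 : ℕ) + 1 ≠ 1 := by omega
    simp only [zero_add, h2, h3, if_false, Subgroup.mem_bot]
    rw [commutatorElement_eq_one_iff_mul_comm]
    exact (Subgroup.mem_center_iff.mp hx g).symm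
  · have h2 : n + 1 + 1 ≠ 0 := by omega
    have h3 : n + 1 + 1 ≠ 1 := by omega
    simp only [h2, h3, if_false, Subgroup.mem_bot] at hx
    subst hx
    have h4 : n + 1 + 1 + 1 ≠ 0 := by omega
    have h5 : n + 1 + 1 + 1 ≠ 1 := by omega
    simp only [h4, h5, if_false, Subgroup.mem_bot]
    exact commutatorElement_one_left g

/-- The Fitting subgroup is normal. -/
instance fittingSubgroup_normal : (Cfsg.fittingSubgroup G).Normal :=
  Subgroup.sSup_normal _ (fun _ hH => hH.1)

instance pCore_normal (p : ℕ) : (Cfsg.pCore p G).Normal :=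
  Subgroup.sSup_normal _ (fun _ hH => hH.1)

instance pPrimeCore_normal (p : ℕ) : (Cfsg.pPrimeCore p G).Normal :=
  Subgroup.sSup_normal _ (fun _ hH => hH.1)

/-- A normal subgroup `A ≤ C_G(T)` with `⁅A, A⁆ ≤ T` has central commutators. -/
theorem commutators_central_of_le_centralizer (A T : Subgroup G)
    (hAC : A ≤ Subgroup.centralizer (T : Set G)) (hAA : ⁅A, A⁆ ≤ T) :
    ∀ x ∈ A, ∀ y ∈ A, ∀ z ∈ A, ⁅x, y⁆ * z = z * ⁅x, y⁆ := by
  intro x hx y hy z hz
  have h1 : ⁅x, y⁆ ∈ T := hAA (Subgroup.commutator_mem_commutator hx hy)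
  exact hAC hz _ h1

/-- In a solvable group the centralizer of the Fitting subgroup lies in the Fitting subgroup. -/
theorem centralizer_fitting_le [Group.IsSolvable G] :
    Subgroup.centralizer (Cfsg.fittingSubgroup G : Set G) ≤ Cfsg.fittingSubgroup G := by
  have h := derived_descent (Subgroup.centralizer (Cfsg.fittingSubgroup G : Set G))
    (Subgroup.centralizer (Cfsg.fittingSubgroup G : Set G) ⊓ Cfsg.fittingSubgroup G) ?_
  · exact h.trans inf_le_right
  · intro A hAn hAC hAA
    refine le_inf hAC ?_
    apply le_sSup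
    refine ⟨hAn, isNilpotent_of_commutators_central A ?_⟩
    exact commutators_central_of_le_centralizer A _ hAC (hAA.trans inf_le_right)

/-- If `O_{p'}(G) = 1`, every nilpotent normal subgroup of the finite group `G` is a `p`-group. -/
theorem isPGroup_of_nilpotent_normal [Finite G] (p : ℕ) [Fact p.Prime] (h : Cfsg.pPrimeCore p G = ⊥)
    (A : Subgroup G) [hAn : A.Normal] (hA : Group.IsNilpotent A) : IsPGroup p A := by
  have hq : ∀ {q : ℕ}, q.Prime → q ∣ Nat.card A → q = p := by
    intro q hq hdvd
    by_contra hne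
    have : Fact q.Prime := Fact.mk hq
    obtain ⟨Q⟩ := (inferInstance : Nonempty (Sylow q A))
    have hQn : (Q : Subgroup A).Normal := inferInstance
    have hQc : (Q : Subgroup A).Characteristic := Q.characteristic_of_normal hQn
    have hn : ((Q : Subgroup A).map A.subtype).Normal := ConjAct.normal_of_characteristic_of_normal
    have hcard : Nat.card ((Q : Subgroup A).map A.subtype) = Nat.card (Q : Subgroup A) :=
      Subgroup.card_map_of_injective A.subtype_injective
    have hcop : (Nat.card ((Q : Subgroup A).map A.subtype)).Coprime p := by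
      rw [hcard, Q.card_eq_multiplicity]
      apply Nat.Coprime.pow_left
      exact (Nat.coprime_primes hq Fact.out).mpr hne
    have hle : (Q : Subgroup A).map A.subtype ≤ Cfsg.pPrimeCore p G := le_sSup ⟨hn, hcop⟩
    rw [h, le_bot_iff] at hle
    have hbot : (Q : Subgroup A) = ⊥ := (Subgroup.map_eq_bot_iff_of_injective _ A.subtype_injective).mp hle
    exact Q.ne_bot_of_dvd_card hdvd hbot
  have hpos : Nat.card A ≠ 0 := Nat.card_pos.ne'
  exact IsPGroup.of_card (Nat.eq_prime_pow_of_unique_prime_dvd hpos hq)

/-- In a finite solvable group with `O_{p'}(G) = 1`, the centralizer of `O_p(G)` lies in `O_p(G)`. -/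
theorem centralizer_pCore_le [Finite G] [Group.IsSolvable G] (p : ℕ) [Fact p.Prime]
    (h : Cfsg.pPrimeCore p G = ⊥) :
    Subgroup.centralizer (Cfsg.pCore p G : Set G) ≤ Cfsg.pCore p G := by
  have h' := derived_descent (Subgroup.centralizer (Cfsg.pCore p G : Set G))
    (Subgroup.centralizer (Cfsg.pCore p G : Set G) ⊓ Cfsg.pCore p G) ?_
  · exact h'.trans inf_le_right
  · intro A hAn hAC hAA
    refine le_inf hAC ?_
    apply le_sSup
    refine ⟨hAn, isPGroup_of_nilpotent_normal p h A (isNilpotent_of_commutators_central A ?_)⟩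
    exact commutators_central_of_le_centralizer A _ hAC (hAA.trans inf_le_right)

end Cfsg.Agent.Helper94
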