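import Mathlib

/-!
# SR server (helper2, S2281): piece K9a `sq_span` (squares span a finite field additively)
-/

set_option autoImplicit false

namespace Cfsg.Agent.Helper94.SR

open Matrix

/-- (K9a) squares span a finite field additively -/
theorem sq_span {F : Type*} [Field F] [Finite F] (S : AddSubgroup F) (hS : ∀ a : F, a ^ 2 ∈ S) :
    S = ⊤ := by
  rw [eq_top_iff]
  intro x _
  by_cases h2 : (2 : F) = 0
  · haveI : CharP F 2 := CharTwo.of_one_ne_zero_of_two_eq_zero one_ne_zero h2
    have hF : ringChar F = 2 := ringChar.eq F 2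
    obtain ⟨a, ha⟩ := FiniteField.isSquare_of_char_two hF x
    rw [ha, ← pow_two]
    exact hS a
  · have hx : x = ((x + 1) / 2) ^ 2 - ((x - 1) / 2) ^ 2 := by
      field_simp
      ring
    rw [hx]
    exact S.sub_mem (hS _) (hS _)

end Cfsg.Agent.Helper94.SR
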