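import Mathlib
import Cfsg.Prelude.Def_GeometricClasses
import Cfsg.Agent.Lib.Helper43.OrthConj

set_option autoImplicit false

/-! (P1) of helper13's OSS server (S2721): transport of `Helper43.OrthConj.orth_conj_iff`
(stated for `Fin n`) to an arbitrary index type. -/

namespace Cfsg.Agent.Helper94.OSS

open Matrix QuadraticMap

variable {F : Type*} [Field F] {ι : Type} [Fintype ι] [DecidableEq ι]

theorem h94_mem_iso_iff (Q : (ι → F) → F) (g : GL ι F) :
    g ∈ Cfsg.isometryGroup F Q ↔ ∀ u, Q ((g : Matrix ι ι F) *ᵥ u) = Q u := by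
  unfold Cfsg.isometryGroup Cfsg.preserving
  constructor
  · intro h u
    exact h u u
  · intro h u _
    exact h u

section transport

variable {κ : Type} [Fintype κ] [DecidableEq κ] (e : ι ≃ κ)

/-- the group isomorphism `GL ι F ≃* GL κ F` induced by reindexing -/
noncomputable def h94_Psi : GL ι F ≃* GL κ F :=
  Units.mapEquiv (Matrix.reindexAlgEquiv F F e).toMulEquiv

theorem h94_Psi_coe (g : GL ι F) :
    ((h94_Psi (F := F) e g : GL κ F) : Matrix κ κ F) =
      (g : Matrix ι ι F).submatrix e.symm e.symm := rfl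

theorem h94_comp_mulVec (M : Matrix ι ι F) (v : κ → F) :
    ((M.submatrix e.symm e.symm) *ᵥ v) ∘ e = M *ᵥ (v ∘ e) := by
  rw [Matrix.submatrix_mulVec_equiv]
  funext i
  simp

/-- the transported quadratic form -/
noncomputable def h94_Q' (Q : QuadraticForm F (ι → F)) : QuadraticForm F (κ → F) :=
  Q.comp (LinearEquiv.funCongrLeft F F e).toLinearMap

theorem h94_Q'_apply (Q : QuadraticForm F (ι → F)) (v : κ → F) :
    h94_Q' e Q v = Q (v ∘ e) := rfl

theorem h94_mem_iso_Psi (Q : QuadraticForm F (ι → F)) (g : GL ι F) :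
    h94_Psi (F := F) e g ∈ Cfsg.isometryGroup F ⇑(h94_Q' e Q) ↔ g ∈ Cfsg.isometryGroup F ⇑Q := by
  rw [h94_mem_iso_iff, h94_mem_iso_iff]
  constructor
  · intro h u
    have h1 := h (u ∘ e.symm)
    rw [h94_Q'_apply, h94_Q'_apply, h94_Psi_coe, h94_comp_mulVec] at h1
    have h2 : (u ∘ e.symm) ∘ e = u := by
      funext i; simp
    rw [h2] at h1
    exact h1
  · intro h u
    rw [h94_Q'_apply, h94_Q'_apply, h94_Psi_coe, h94_comp_mulVec]
    exact h _

theorem h94_polar_Q' (Q : QuadraticForm F (ι → F)) (u v : κ → F) :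
    polar (h94_Q' e Q) u v = polar Q (u ∘ e) (v ∘ e) := by
  unfold polar
  rw [h94_Q'_apply, h94_Q'_apply, h94_Q'_apply]
  rfl

theorem h94_nondeg_Q' (Q : QuadraticForm F (ι → F)) (hQ : (polarBilin Q).Nondegenerate) :
    (polarBilin (h94_Q' e Q)).Nondegenerate := by
  constructor
  · intro x hx
    have h1 : x ∘ e = 0 := by
      apply hQ.1 (x ∘ e)
      intro y
      have h2 := hx (y ∘ e.symm)
      have h3 : polar (h94_Q' e Q) x (y ∘ e.symm) = 0 := h2
      rw [h94_polar_Q'] at h3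
      have h4 : (y ∘ e.symm) ∘ e = y := by
        funext i; simp
      rw [h4] at h3
      exact h3
    funext j
    have := congrFun h1 (e.symm j)
    simpa using this
  · intro x hx
    have h1 : x ∘ e = 0 := by
      apply hQ.2 (x ∘ e)
      intro y
      have h2 := hx (y ∘ e.symm)
      have h3 : polar (h94_Q' e Q) (y ∘ e.symm) x = 0 := h2
      rw [h94_polar_Q'] at h3
      have h4 : (y ∘ e.symm) ∘ e = y := by
        funext i; simp
      rw [h4] at h3
      exact h3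
    funext j
    have := congrFun h1 (e.symm j)
    simpa using this

end transport

/-- conjugating an isometry by a similarity gives an isometry -/
theorem h94_conj_mem_iso (Q : QuadraticForm F (ι → F)) (t h : GL ι F)
    (ht : t ∈ Cfsg.isometryGroup F ⇑Q)
    (hh : h ∈ Cfsg.Geo.quadSimilarityGroup (F := F) ⇑Q) :
    h⁻¹ * t * h ∈ Cfsg.isometryGroup F ⇑Q := by
  rw [h94_mem_iso_iff] at ht ⊢
  obtain ⟨c, hc⟩ := hh
  intro u
  have hinv : ∀ w, Q (((h⁻¹ : GL ι F) : Matrix ι ι F) *ᵥ w) = ((c⁻¹ : Fˣ) : F) * Q w := by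
    intro w
    have h1 := hc (((h⁻¹ : GL ι F) : Matrix ι ι F) *ᵥ w)
    rw [Matrix.mulVec_mulVec, ← Units.val_mul, mul_inv_cancel, Units.val_one,
      Matrix.one_mulVec] at h1
    rw [h1, ← mul_assoc, Units.val_inv_eq_inv_val, inv_mul_cancel₀ c.ne_zero, one_mul]
  rw [Units.val_mul, Units.val_mul, ← Matrix.mulVec_mulVec, ← Matrix.mulVec_mulVec, hinv, ht, hc,
    ← mul_assoc, Units.val_inv_eq_inv_val, inv_mul_cancel₀ c.ne_zero, one_mul]

/-- (P1) transport of S2590 to an arbitrary index type, in the form needed. -/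
theorem exists_iso_commuting [Fintype F] {p : ℕ} [Fact p.Prime] [CharP F p]
    (Q : QuadraticForm F (ι → F)) (hQ : (polarBilin Q).Nondegenerate)
    (t h : GL ι F) (ht : t ∈ Cfsg.isometryGroup F ⇑Q)
    (hh : h ∈ Cfsg.Geo.quadSimilarityGroup (F := F) ⇑Q)
    (hodd : Odd (orderOf t)) (hcop : (orderOf t).Coprime p) :
    ∃ k : GL ι F, k ∈ Cfsg.isometryGroup F ⇑Q ∧ (h * k) * t = t * (h * k) := by
  classical
  set n := Fintype.card ι with hn
  let e : ι ≃ Fin n := Fintype.equivFin ι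
  set Q' := h94_Q' e Q with hQ'
  have hQ'nd : (polarBilin Q').Nondegenerate := h94_nondeg_Q' e Q hQ
  set Ψ : GL ι F ≃* GL (Fin n) F := h94_Psi (F := F) e with hΨ
  have ht' : h⁻¹ * t * h ∈ Cfsg.isometryGroup F ⇑Q := h94_conj_mem_iso Q t h ht hh
  let A : ↥(Cfsg.isometryGroup F ⇑Q') := ⟨Ψ t, (h94_mem_iso_Psi e Q t).2 ht⟩
  let B : ↥(Cfsg.isometryGroup F ⇑Q') := ⟨Ψ (h⁻¹ * t * h), (h94_mem_iso_Psi e Q _).2 ht'⟩
  have hordA : orderOf A = orderOf t := by
    have h1 : orderOf A = orderOf (A : GL (Fin n) F) := (Subgroup.orderOf_coe A).symm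
    rw [h1]
    exact MulEquiv.orderOf_eq Ψ t
  have hconjM : IsConj ((A : GL (Fin n) F) : Matrix (Fin n) (Fin n) F)
      ((B : GL (Fin n) F) : Matrix (Fin n) (Fin n) F) := by
    refine ⟨Ψ h⁻¹, ?_⟩
    show ((Ψ h⁻¹ : GL (Fin n) F) : Matrix (Fin n) (Fin n) F) * ((Ψ t : GL (Fin n) F) : Matrix _ _ F)
      = ((Ψ (h⁻¹ * t * h) : GL (Fin n) F) : Matrix _ _ F) * ((Ψ h⁻¹ : GL (Fin n) F) : Matrix _ _ F)
    rw [← Units.val_mul, ← Units.val_mul, ← map_mul, ← map_mul]
    congr 2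
    group
  have hconj : IsConj A B :=
    (Cfsg.Agent.Helper43.OrthConj.orth_conj_iff Q' hQ'nd A B (by rw [hordA]; exact hodd)
      (by rw [hordA]; exact hcop)).2 hconjM
  obtain ⟨kk, hkk⟩ := isConj_iff.1 hconj
  refine ⟨Ψ.symm (kk : GL (Fin n) F), ?_, ?_⟩
  · rw [← h94_mem_iso_Psi e Q]
    show Ψ (Ψ.symm (kk : GL (Fin n) F)) ∈ _
    rw [MulEquiv.apply_symm_apply]
    exact kk.2
  · have h1 : (kk : GL (Fin n) F) * Ψ t * (kk : GL (Fin n) F)⁻¹ = Ψ (h⁻¹ * t * h) := by
      have := congrArg (fun x : ↥(Cfsg.isometryGroup F ⇑Q') => (x : GL (Fin n) F)) hkk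
      simp only [Subgroup.coe_mul, Subgroup.coe_inv] at this
      exact this
    have h2 : Ψ.symm (kk : GL (Fin n) F) * t * (Ψ.symm (kk : GL (Fin n) F))⁻¹ = h⁻¹ * t * h := by
      apply Ψ.injective
      rw [map_mul, map_mul, map_inv, MulEquiv.apply_symm_apply]
      exact h1
    set k := Ψ.symm (kk : GL (Fin n) F) with hk
    calc h * k * t = h * (k * t * k⁻¹) * k := by group
      _ = h * (h⁻¹ * t * h) * k := by rw [h2]
      _ = t * (h * k) := by group

end Cfsg.Agent.Helper94.OSS
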