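import Mathlib
import Cfsg.Prelude.Def_TwoFusion
import Cfsg.Prelude.Def_CaseTheorems
import Cfsg.Prelude.Def_Transfer
import Cfsg.Agent.S1181
import Cfsg.Agent.S2972
import Cfsg.Agent.Lib.Helper22.Radical
import Cfsg.Agent.Lib.Helper54.Solv
import Cfsg.Agent.Lib.Helper53.NormalComplement
import Cfsg.Agent.Lib.Helper53.UniqueInvol4

/-!
# Glauberman's Z*-theorem: the group-theoretic reductions

`zstar_of_core`: the Z*-theorem for isolated involutions follows from the Brauer–Suzuki theorem
(`BSHyp`) and the character-theoretic core statement (no second involution commuting with `t` in a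
minimal situation).
-/

set_option autoImplicit false

universe u

namespace Cfsg.Agent.Helper94.ZStar

open Cfsg Subgroup

/-- The Z*-theorem (isolated involution form) for all groups in `Type u` of order `< n`. -/
def ZBelow (n : ℕ) : Prop :=
  ∀ (H : Type u) [Group H] [Finite H], Nat.card H < n → ∀ z : H, Cfsg.IsIsolatedInvolution z →
    ∀ g : H, z * g * z⁻¹ * g⁻¹ ∈ Cfsg.oddCore H

/-- The Brauer–Suzuki theorem (statement of S0201) for all groups in `Type u`. -/
def BSHyp : Prop :=
  ∀ (G : Type u) [Group G] [Finite G] (S : Sylow 2 G) (n : ℕ)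
    (_ : (S : Subgroup G) ≃* QuaternionGroup (2 ^ (n + 1)))
    (_ : ∀ N : Subgroup G, N.Normal → Odd (Nat.card N) → N = ⊥),
    Nat.card (Subgroup.center G) = 2

section basics

variable {G : Type u} [Group G] [Finite G]

theorem odd_normal_eq_bot (hO : Cfsg.oddCore G = ⊥) (N : Subgroup G) (hN : N.Normal)
    (hodd : Odd (Nat.card N)) : N = ⊥ := by
  have h1 : N ≤ Cfsg.pPrimeCore 2 G :=
    Cfsg.Agent.Helper22.le_pPrimeCore hN (Nat.Coprime.symm (Nat.coprime_two_left.mpr hodd))
  rw [show Cfsg.pPrimeCore 2 G = ⊥ from hO] at h1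
  exact le_bot_iff.mp h1

theorem odd_card_oddCore : Odd (Nat.card (Cfsg.oddCore G)) := by
  have := Cfsg.Agent.Helper22.card_pPrimeCore_coprime (G := G) 2
  exact Nat.coprime_two_left.mp this.symm

theorem involution_not_mem_odd (N : Subgroup G) (hodd : Odd (Nat.card N)) (z : G)
    (hz : orderOf z = 2) : z ∉ N := by
  intro hzN
  have h1 : orderOf (⟨z, hzN⟩ : N) ∣ Nat.card N := orderOf_dvd_natCard _
  rw [Subgroup.orderOf_mk, hz] at h1
  exact (Nat.not_even_iff_odd.mpr hodd) (even_iff_two_dvd.mpr h1)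

/-- A group with trivial odd core and a normal `2`-complement is a `2`-group. -/
theorem isPGroup_of_hasNormalPComplement (hO : Cfsg.oddCore G = ⊥)
    (h : Cfsg.HasNormalPComplement 2 G) : IsPGroup 2 G := by
  haveI : Fact (Nat.Prime 2) := ⟨Nat.prime_two⟩
  obtain ⟨P, K, hKn, hc⟩ := h
  have h1 : (P : Subgroup G).index = Nat.card K := hc.index_eq_card
  have h2 : ¬ 2 ∣ (P : Subgroup G).index := P.not_dvd_index
  have hKodd : Odd (Nat.card K) := by
    rw [← h1]; exact Nat.not_even_iff_odd.mp (fun h => h2 (even_iff_two_dvd.mp h))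
  have hK : K = ⊥ := odd_normal_eq_bot hO K hKn hKodd
  have h3 : (P : Subgroup G).index = 1 := by rw [h1, hK]; simp
  have h4 : (P : Subgroup G) = ⊤ := Subgroup.index_eq_one.mp h3
  have h5 : IsPGroup 2 (⊤ : Subgroup G) := h4 ▸ P.isPGroup'
  exact IsPGroup.of_equiv h5 Subgroup.topEquiv

end basics

section steps

variable {G : Type u} [Group G] [Finite G]

/-- Step 1: if the odd core is nontrivial, pass to the quotient. -/
theorem step_core (IH : ZBelow.{u} (Nat.card G)) (hO : Cfsg.oddCore G ≠ ⊥) (z : G)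
    (hz : Cfsg.IsIsolatedInvolution z) (g : G) : z * g * z⁻¹ * g⁻¹ ∈ Cfsg.oddCore G := by
  have hzN : z ∉ Cfsg.oddCore G := involution_not_mem_odd _ odd_card_oddCore z hz.1
  have hiso := (Cfsg.Agent.S1181.result z hz (Cfsg.oddCore G) hzN).2
  have hcard : Nat.card (G ⧸ Cfsg.oddCore G) < Nat.card G := by
    have h1 := Subgroup.card_eq_card_quotient_mul_card_subgroup (Cfsg.oddCore G)
    have h2 : 1 < Nat.card (Cfsg.oddCore G) := by
      rw [Subgroup.one_lt_card_iff_ne_bot]; exact hO
    have h3 : 0 < Nat.card (G ⧸ Cfsg.oddCore G) := Nat.card_pos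
    nlinarith
  have h := IH (G ⧸ Cfsg.oddCore G) hcard _ hiso (QuotientGroup.mk g)
  rw [show Cfsg.oddCore (G ⧸ Cfsg.oddCore G) = ⊥ from
    Cfsg.Agent.Helper54.pPrimeCore_quotient_eq_bot 2] at h
  rw [Subgroup.mem_bot] at h
  rw [← QuotientGroup.eq_one_iff]
  simpa using h

/-- Step 2: with trivial odd core, if there is a central involution then every isolated involution
is central. -/
theorem step_central (IH : ZBelow.{u} (Nat.card G)) (hO : Cfsg.oddCore G = ⊥) (z' : G)
    (hz' : orderOf z' = 2) (hc : z' ∈ Subgroup.center G) (z : G)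
    (hz : Cfsg.IsIsolatedInvolution z) : z ∈ Subgroup.center G := by
  haveI : Fact (Nat.Prime 2) := ⟨Nat.prime_two⟩
  obtain ⟨N, hNdef⟩ : ∃ N : Subgroup G, N = zpowers z' := ⟨_, rfl⟩
  have hNc : N ≤ center G := by rw [hNdef]; exact zpowers_le.mpr hc
  haveI hNn : N.Normal := ⟨fun n hn g => by
    have := (Subgroup.mem_center_iff.mp (hNc hn)) g
    rw [this, mul_inv_cancel_right]; exact hn⟩
  have hNcard : Nat.card N = 2 := by rw [hNdef, Nat.card_zpowers, hz']
  by_cases hzN : z ∈ N
  · exact hNc hzN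
  have hiso := (Cfsg.Agent.S1181.result z hz N hzN).2
  have hcard : Nat.card (G ⧸ N) < Nat.card G := by
    have h1 := Subgroup.card_eq_card_quotient_mul_card_subgroup N
    have h3 : 0 < Nat.card (G ⧸ N) := Nat.card_pos
    nlinarith
  have hIH := IH (G ⧸ N) hcard _ hiso
  -- the preimage of the odd core of the quotient
  obtain ⟨M, hMdef⟩ : ∃ M : Subgroup G, M = (Cfsg.oddCore (G ⧸ N)).comap (QuotientGroup.mk' N) :=
    ⟨_, rfl⟩
  haveI hMn : M.Normal := by rw [hMdef]; infer_instance
  have hNM : N ≤ M := by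
    intro n hn
    rw [hMdef, Subgroup.mem_comap]
    have : (QuotientGroup.mk' N) n = 1 := (QuotientGroup.eq_one_iff n).mpr hn
    rw [this]; exact one_mem _
  have hrel : N.relIndex M = Nat.card (Cfsg.oddCore (G ⧸ N)) := by
    have h1 : N = (⊥ : Subgroup (G ⧸ N)).comap (QuotientGroup.mk' N) := by
      rw [MonoidHom.comap_bot, QuotientGroup.ker_mk']
    have h2 : M.map (QuotientGroup.mk' N) = Cfsg.oddCore (G ⧸ N) := by
      rw [hMdef]
      exact Subgroup.map_comap_eq_self_of_surjective (QuotientGroup.mk'_surjective N) _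
    conv_lhs => rw [h1]
    rw [Subgroup.relIndex_comap, h2, Subgroup.relIndex_bot_left]
  have hOodd : Odd (Nat.card (Cfsg.oddCore (G ⧸ N))) := odd_card_oddCore
  have hMO : Cfsg.oddCore M = ⊥ := Cfsg.Agent.S2972.pPrimeCore_eq_bot_of_normal hO M
  have hcyc : IsCyclic (N.subgroupOf M) := by
    have e : N.subgroupOf M ≃* N := Subgroup.subgroupOfEquivOfLe hNM
    haveI : IsCyclic N := by rw [hNdef]; infer_instance
    exact isCyclic_of_surjective e.symm.toMonoidHom e.symm.surjective
  have hp2 : IsPGroup 2 (N.subgroupOf M) := by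
    have e : N.subgroupOf M ≃* N := Subgroup.subgroupOfEquivOfLe hNM
    have : IsPGroup 2 N := IsPGroup.of_card (n := 1) (by rw [hNcard]; norm_num)
    exact IsPGroup.of_equiv this e.symm
  have hodd : ¬ 2 ∣ (N.subgroupOf M).index := by
    change ¬ 2 ∣ N.relIndex M
    rw [hrel]
    exact fun h => (Nat.not_even_iff_odd.mpr hOodd) (even_iff_two_dvd.mpr h)
  have hcomp : Cfsg.HasNormalPComplement 2 M :=
    Cfsg.Agent.Helper53.hasNormalPComplement_of_cyclic _ hcyc hp2 hodd
  have hMp : IsPGroup 2 M := isPGroup_of_hasNormalPComplement hMO hcomp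
  have hObot : Cfsg.oddCore (G ⧸ N) = ⊥ := by
    have h2 : M.map (QuotientGroup.mk' N) = Cfsg.oddCore (G ⧸ N) := by
      rw [hMdef]
      exact Subgroup.map_comap_eq_self_of_surjective (QuotientGroup.mk'_surjective N) _
    have h3 : IsPGroup 2 (M.map (QuotientGroup.mk' N)) := hMp.map _
    rw [h2] at h3
    rcases h3.card_eq_or_dvd with h4 | h4
    · exact Subgroup.card_eq_one.mp h4
    · exact absurd (even_iff_two_dvd.mpr h4) (Nat.not_even_iff_odd.mpr hOodd)
  rw [Subgroup.mem_center_iff]
  intro g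
  -- the commutator lies in `N`
  have h1 := hIH (QuotientGroup.mk g)
  rw [hObot, Subgroup.mem_bot] at h1
  have h2 : z * g * z⁻¹ * g⁻¹ ∈ N := by
    rw [← QuotientGroup.eq_one_iff]
    simpa using h1
  obtain ⟨c, hcdef⟩ : ∃ c : G, c = z * g * z⁻¹ * g⁻¹ := ⟨_, rfl⟩
  rw [← hcdef] at h2
  have hcc : ∀ x : G, x * c = c * x := Subgroup.mem_center_iff.mp (hNc h2)
  have h3 : g * z * g⁻¹ = c⁻¹ * z := by
    have hz2 : z⁻¹ = z := by
      have : z ^ 2 = 1 := by rw [← hz.1]; exact pow_orderOf_eq_one z
      rw [inv_eq_iff_mul_eq_one, ← pow_two]; exact this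
    rw [hcdef, hz2]; group
    rw [show (z : G) ^ (-1 : ℤ) = z by rw [zpow_neg_one, hz2]]
  have h4 : Commute z (g * z * g⁻¹) := by
    rw [h3]
    change z * (c⁻¹ * z) = c⁻¹ * z * z
    have := hcc z
    have h5 : z * c⁻¹ = c⁻¹ * z := by
      have h6 := congrArg (fun y => c⁻¹ * y * c⁻¹) this
      simp only [mul_assoc, mul_inv_cancel, mul_one, inv_mul_cancel_left] at h6
      exact h6.symm
    rw [← mul_assoc, h5]
  have h5 := hz.2 g h4
  rw [h3] at h5
  have h6 : c = 1 := by
    have := mul_right_cancel (h5.trans (one_mul z).symm)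
    exact inv_eq_one.mp this
  rw [hcdef] at h6
  have h7 : z * g = g * z := by
    have := congrArg (fun y => y * g * z) h6
    simpa [mul_assoc] using this
  exact h7.symm

theorem no_central_of_two_dvd (hZ : ∀ z : G, orderOf z = 2 → z ∉ Subgroup.center G)
    (h : 2 ∣ Nat.card (Subgroup.center G)) : False := by
  haveI : Fact (Nat.Prime 2) := ⟨Nat.prime_two⟩
  obtain ⟨w, hw⟩ := exists_prime_orderOf_dvd_card' 2 h
  have h1 : orderOf (w : G) = 2 := by rw [Subgroup.orderOf_coe]; exact hw
  exact hZ _ h1 w.2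

/-- Step 3: trivial odd core, no central involution, and no second involution commuting with `t`:
contradiction (the Sylow `2`-subgroup is cyclic or generalized quaternion). -/
theorem step_final (bs : BSHyp.{u}) (hO : Cfsg.oddCore G = ⊥)
    (hZ : ∀ z : G, orderOf z = 2 → z ∉ Subgroup.center G) (t : G)
    (ht : Cfsg.IsIsolatedInvolution t)
    (hcore : ∀ s : G, orderOf s = 2 → Commute s t → s ≠ t → False) : False := by
  haveI : Fact (Nat.Prime 2) := ⟨Nat.prime_two⟩
  have ht1 : t ≠ 1 := by
    intro h; have := ht.1; rw [h, orderOf_one] at this; norm_num at this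
  have htp : IsPGroup 2 (zpowers t) :=
    IsPGroup.of_card (n := 1) (by rw [Nat.card_zpowers, ht.1]; norm_num)
  obtain ⟨P, hP⟩ := htp.exists_le_sylow
  have htP : t ∈ (P : Subgroup G) := hP (mem_zpowers t)
  haveI hPnt : Nontrivial (P : Subgroup G) :=
    ⟨⟨⟨t, htP⟩, 1, fun h => ht1 (by simpa using congrArg Subtype.val h)⟩⟩
  -- `t` is central in `P`
  have htc : (⟨t, htP⟩ : (P : Subgroup G)) ∈ center (P : Subgroup G) := by
    haveI := (P.isPGroup').center_nontrivial
    have h2 : 2 ∣ Nat.card (center (P : Subgroup G)) := by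
      obtain ⟨k, hk⟩ := (P.isPGroup'.to_subgroup (center (P : Subgroup G))).exists_card_eq
      have hk0 : k ≠ 0 := by
        intro h0
        rw [h0, pow_zero] at hk
        have h1 : 1 < Nat.card (center (P : Subgroup G)) := Finite.one_lt_card
        omega
      rw [hk]; exact dvd_pow_self 2 hk0
    obtain ⟨w, hw⟩ := exists_prime_orderOf_dvd_card' 2 h2
    have hw1 : orderOf ((w : (P : Subgroup G)) : G) = 2 := by
      rw [Subgroup.orderOf_coe, Subgroup.orderOf_coe]; exact hw
    have hwc : Commute ((w : (P : Subgroup G)) : G) t := by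
      have := (Subgroup.mem_center_iff.mp w.2) ⟨t, htP⟩
      have h3 := congrArg Subtype.val this
      simp only [Subgroup.coe_mul] at h3
      exact h3.symm
    have hwt : ((w : (P : Subgroup G)) : G) = t := by
      by_contra hne
      exact hcore _ hw1 hwc hne
    have : (w : (P : Subgroup G)) = ⟨t, htP⟩ := Subtype.ext hwt
    rw [← this]; exact w.2
  have huniq : ∀ x : (P : Subgroup G), orderOf x = 2 → x = ⟨t, htP⟩ := by
    intro x hx
    have hx1 : orderOf (x : G) = 2 := by rw [Subgroup.orderOf_coe]; exact hx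
    have hxc : Commute (x : G) t := by
      have := (Subgroup.mem_center_iff.mp htc) x
      have h3 := congrArg Subtype.val this
      simp only [Subgroup.coe_mul] at h3
      exact h3
    have : (x : G) = t := by
      by_contra hne
      exact hcore _ hx1 hxc hne
    exact Subtype.ext this
  have hstruct := Cfsg.Agent.Helper53.isCyclic_or_quaternion_of_unique_invol
    (G := (P : Subgroup G)) P.isPGroup' (fun x y hx hy => (huniq x hx).trans (huniq y hy).symm)
  have hO' : ∀ N : Subgroup G, N.Normal → Odd (Nat.card N) → N = ⊥ :=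
    fun N hN hodd => odd_normal_eq_bot hO N hN hodd
  rcases hstruct with hcyc | ⟨n, hn, ⟨e⟩⟩
  · have hcomp : Cfsg.HasNormalPComplement 2 G :=
      Cfsg.Agent.Helper53.hasNormalPComplement_of_cyclic (P : Subgroup G) hcyc P.isPGroup'
        P.not_dvd_index
    have hG2 : IsPGroup 2 G := isPGroup_of_hasNormalPComplement hO hcomp
    haveI : Nontrivial G := ⟨⟨t, 1, ht1⟩⟩
    haveI := hG2.center_nontrivial
    obtain ⟨k, hk⟩ := (hG2.to_subgroup (center G)).exists_card_eq
    have hk0 : k ≠ 0 := by
      intro h0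
      rw [h0, pow_zero] at hk
      have h1 : 1 < Nat.card (center G) := Finite.one_lt_card
      omega
    exact no_central_of_two_dvd hZ (by rw [hk]; exact dvd_pow_self 2 hk0)
  · obtain ⟨m, rfl⟩ : ∃ m, n = m + 1 := ⟨n - 1, by omega⟩
    have := bs G P m e hO'
    exact no_central_of_two_dvd hZ (by rw [this])

end steps

/-- **Glauberman's Z*-theorem from its core.** Given the Brauer–Suzuki theorem and the
character-theoretic core (in a group with trivial odd core and no central involution, all of whose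
smaller groups satisfy the Z*-theorem, no involution other than `t` commutes with the isolated
involution `t`), the Z*-theorem holds for every finite group in `Type u`. -/
theorem zstar_of_core (bs : BSHyp.{u})
    (core : ∀ (G : Type u) [Group G] [Finite G], ZBelow.{u} (Nat.card G) → Cfsg.oddCore G = ⊥ →
      (∀ z : G, orderOf z = 2 → z ∉ Subgroup.center G) → ∀ t : G, Cfsg.IsIsolatedInvolution t →
      ∀ s : G, orderOf s = 2 → Commute s t → s ≠ t → False) :
    ∀ (G : Type u) [Group G] [Finite G] (z : G), Cfsg.IsIsolatedInvolution z →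
      ∀ g : G, z * g * z⁻¹ * g⁻¹ ∈ Cfsg.oddCore G := by
  have key : ∀ n : ℕ, ZBelow.{u} n := by
    intro n
    induction n with
    | zero => intro H _ _ h; exact absurd h (Nat.not_lt_zero _)
    | succ n ih =>
      intro H _ _ hcard z hz g
      by_cases hlt : Nat.card H < n
      · exact ih H hlt z hz g
      have hn : Nat.card H = n := by omega
      have IH : ZBelow.{u} (Nat.card H) := hn ▸ ih
      by_cases hO : Cfsg.oddCore H = ⊥
      · by_cases hZ : ∃ z' : H, orderOf z' = 2 ∧ z' ∈ Subgroup.center H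
        · obtain ⟨z', hz', hc⟩ := hZ
          have hzc := step_central IH hO z' hz' hc z hz
          have : z * g * z⁻¹ * g⁻¹ = 1 := by
            have := (Subgroup.mem_center_iff.mp hzc) g
            rw [← this, mul_inv_cancel_right, mul_inv_cancel]
          rw [this]; exact one_mem _
        · exfalso
          have hZ' : ∀ z : H, orderOf z = 2 → z ∉ Subgroup.center H :=
            fun z' hz' hc => hZ ⟨z', hz', hc⟩
          exact step_final bs hO hZ' z hz (core H IH hO hZ' z hz)
      · exact step_core IH hO z hz g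
  intro G _ _ z hz g
  exact key (Nat.card G + 1) G (Nat.lt_succ_self _) z hz g

theorem orderOf_conj_eq' {G : Type*} [Group G] (g u : G) : orderOf (g * u * g⁻¹) = orderOf u := by
  have := orderOf_injective (MulAut.conj g).toMonoidHom (MulAut.conj g).injective u
  simpa using this

/-- An involution of a Sylow `2`-subgroup `P` whose only `G`-conjugate in `P` is itself is an
isolated involution. -/
theorem isIsolatedInvolution_of_sylow {G : Type*} [Group G] [Finite G] (P : Sylow 2 G) (u : G)
    (hu : orderOf u = 2) (huP : u ∈ P) (hiso : ∀ g : G, g * u * g⁻¹ ∈ P → g * u * g⁻¹ = u) :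
    Cfsg.IsIsolatedInvolution u := by
  refine ⟨hu, fun g hc => ?_⟩
  haveI : Fact (Nat.Prime 2) := ⟨Nat.prime_two⟩
  obtain ⟨v, hv⟩ : ∃ v : G, v = g * u * g⁻¹ := ⟨_, rfl⟩
  rw [← hv] at hc ⊢
  have hvo : orderOf v = 2 := by rw [hv, orderOf_conj_eq', hu]
  have h1 : IsPGroup 2 (zpowers u) :=
    IsPGroup.of_card (n := 1) (by rw [Nat.card_zpowers, hu]; norm_num)
  have h2 : IsPGroup 2 (zpowers v) :=
    IsPGroup.of_card (n := 1) (by rw [Nat.card_zpowers, hvo]; norm_num)
  have h3 : zpowers u ≤ normalizer (zpowers v : Set G) := by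
    rw [zpowers_le]
    rw [Subgroup.mem_normalizer_iff]
    intro x
    have hux : ∀ y ∈ zpowers v, u * y * u⁻¹ = y := by
      intro y hy
      obtain ⟨k, rfl⟩ := Subgroup.mem_zpowers_iff.mp hy
      have : Commute u (v ^ k) := hc.zpow_right k
      rw [this.eq, mul_inv_cancel_right]
    constructor
    · intro hx; rw [hux x hx]; exact hx
    · intro hx
      have := hux _ hx
      have h4 : u * x * u⁻¹ = x := mul_left_cancel (mul_right_cancel this)
      rw [← h4]; exact hx
  have h4 : IsPGroup 2 (zpowers u ⊔ zpowers v : Subgroup G) := h1.to_sup_of_normal_right' h2 h3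
  obtain ⟨Q, hQ⟩ := h4.exists_le_sylow
  obtain ⟨h, hh⟩ := MulAction.exists_smul_eq G P Q
  have huQ : u ∈ (Q : Subgroup G) := hQ (le_sup_left (a := zpowers u) (mem_zpowers u))
  have hvQ : v ∈ (Q : Subgroup G) := hQ (le_sup_right (b := zpowers v) (mem_zpowers v))
  have hmem : ∀ x : G, x ∈ (Q : Subgroup G) → h⁻¹ * x * h ∈ (P : Subgroup G) := by
    intro x hx
    rw [← hh, Sylow.coe_subgroup_smul, Subgroup.mem_pointwise_smul_iff_inv_smul_mem] at hx
    simpa [MulAut.smul_def] using hx
  have e1 : h⁻¹ * u * h = u := by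
    have h6 : h⁻¹ * u * h⁻¹⁻¹ ∈ P := by rw [inv_inv]; exact hmem u huQ
    have := hiso h⁻¹ h6
    rw [inv_inv] at this; exact this
  have e2 : h⁻¹ * v * h = u := by
    have h5 : (h⁻¹ * g) * u * (h⁻¹ * g)⁻¹ = h⁻¹ * v * h := by rw [hv]; group
    have := hiso (h⁻¹ * g) (by rw [h5]; exact hmem v hvQ)
    rw [h5] at this; exact this
  have : h⁻¹ * v * h = h⁻¹ * u * h := by rw [e1, e2]
  have := congrArg (fun y => h * y * h⁻¹) this
  simpa [mul_assoc] using this

/-- The statement of S0215 (Glauberman's Z*-theorem) from Brauer–Suzuki and the core. -/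
theorem s0215_of_core (bs : BSHyp.{u})
    (core : ∀ (G : Type u) [Group G] [Finite G], ZBelow.{u} (Nat.card G) → Cfsg.oddCore G = ⊥ →
      (∀ z : G, orderOf z = 2 → z ∉ Subgroup.center G) → ∀ t : G, Cfsg.IsIsolatedInvolution t →
      ∀ s : G, orderOf s = 2 → Commute s t → s ≠ t → False)
    {G : Type u} [Group G] [Finite G] (P : Sylow 2 G) (x : G) (hx : orderOf x = 2)
    (hxP : x ∈ P) (hiso : ∀ g : G, g * x * g⁻¹ ∈ P → g * x * g⁻¹ = x) :
    ∃ N : Subgroup G, N.Normal ∧ Odd (Nat.card N) ∧ ∀ g : G, (x * g * x⁻¹ * g⁻¹) ∈ N :=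
  ⟨Cfsg.oddCore G, inferInstance, odd_card_oddCore,
    zstar_of_core bs core G x (isIsolatedInvolution_of_sylow P x hx hxP hiso)⟩

end Cfsg.Agent.Helper94.ZStar
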