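import Mathlib

/-!
Pure arithmetic core of helper46's Brauer–Suzuki (Q8) argument: `core_arith`.
-/

set_option autoImplicit false

namespace Cfsg.Agent.Helper94.CoreArith

open Finset

variable {ι : Type*} [Fintype ι] [DecidableEq ι]

/-- bilinear expansion of a dot product of two combinations of four vectors. -/
lemma dot_expand (x1 x2 x3 x4 : ι → ℤ) (l1 l2 l3 l4 m1 m2 m3 m4 : ℤ) :
    ∑ i, (l1 * x1 i + l2 * x2 i + l3 * x3 i + l4 * x4 i) *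
        (m1 * x1 i + m2 * x2 i + m3 * x3 i + m4 * x4 i) =
      l1 * m1 * ∑ i, x1 i ^ 2 + l2 * m2 * ∑ i, x2 i ^ 2 + l3 * m3 * ∑ i, x3 i ^ 2 +
        l4 * m4 * ∑ i, x4 i ^ 2 +
        (l1 * m2 + l2 * m1) * ∑ i, x1 i * x2 i + (l1 * m3 + l3 * m1) * ∑ i, x1 i * x3 i +
        (l1 * m4 + l4 * m1) * ∑ i, x1 i * x4 i + (l2 * m3 + l3 * m2) * ∑ i, x2 i * x3 i +
        (l2 * m4 + l4 * m2) * ∑ i, x2 i * x4 i + (l3 * m4 + l4 * m3) * ∑ i, x3 i * x4 i := by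
  have pt : ∀ i, (l1 * x1 i + l2 * x2 i + l3 * x3 i + l4 * x4 i) *
        (m1 * x1 i + m2 * x2 i + m3 * x3 i + m4 * x4 i) =
      l1 * m1 * x1 i ^ 2 + l2 * m2 * x2 i ^ 2 + l3 * m3 * x3 i ^ 2 +
        l4 * m4 * x4 i ^ 2 +
        (l1 * m2 + l2 * m1) * (x1 i * x2 i) + (l1 * m3 + l3 * m1) * (x1 i * x3 i) +
        (l1 * m4 + l4 * m1) * (x1 i * x4 i) + (l2 * m3 + l3 * m2) * (x2 i * x3 i) +
        (l2 * m4 + l4 * m2) * (x2 i * x4 i) + (l3 * m4 + l4 * m3) * (x3 i * x4 i) := fun i => by ring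
  rw [Finset.sum_congr rfl (fun i _ => pt i)]
  simp only [Finset.sum_add_distrib, ← Finset.mul_sum]

/-- linear expansion against a fixed vector. -/
lemma lin_expand (x1 x2 x3 x4 e : ι → ℤ) (l1 l2 l3 l4 : ℤ) :
    ∑ i, (l1 * x1 i + l2 * x2 i + l3 * x3 i + l4 * x4 i) * e i =
      l1 * ∑ i, x1 i * e i + l2 * ∑ i, x2 i * e i + l3 * ∑ i, x3 i * e i +
        l4 * ∑ i, x4 i * e i := by
  have pt : ∀ i, (l1 * x1 i + l2 * x2 i + l3 * x3 i + l4 * x4 i) * e i =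
      l1 * (x1 i * e i) + l2 * (x2 i * e i) + l3 * (x3 i * e i) + l4 * (x4 i * e i) :=
    fun i => by ring
  rw [Finset.sum_congr rfl (fun i _ => pt i)]
  simp only [Finset.sum_add_distrib, ← Finset.mul_sum]

/-- linear expansion against a fixed rational weight. -/
lemma linq_expand (x1 x2 x3 x4 : ι → ℤ) (e : ι → ℚ) (l1 l2 l3 l4 : ℚ) :
    ∑ i, (l1 * (x1 i : ℚ) + l2 * (x2 i : ℚ) + l3 * (x3 i : ℚ) + l4 * (x4 i : ℚ)) * e i =
      l1 * ∑ i, (x1 i : ℚ) * e i + l2 * ∑ i, (x2 i : ℚ) * e i + l3 * ∑ i, (x3 i : ℚ) * e i +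
        l4 * ∑ i, (x4 i : ℚ) * e i := by
  have pt : ∀ i, (l1 * (x1 i : ℚ) + l2 * (x2 i : ℚ) + l3 * (x3 i : ℚ) + l4 * (x4 i : ℚ)) * e i =
      l1 * ((x1 i : ℚ) * e i) + l2 * ((x2 i : ℚ) * e i) + l3 * ((x3 i : ℚ) * e i) +
        l4 * ((x4 i : ℚ) * e i) :=
    fun i => by ring
  rw [Finset.sum_congr rfl (fun i _ => pt i)]
  simp only [Finset.sum_add_distrib, ← Finset.mul_sum]

lemma sum_sub_le (v : ι → ℤ) (s : Finset ι) : ∑ i ∈ s, v i ^ 2 ≤ ∑ i, v i ^ 2 :=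
  Finset.sum_le_sum_of_subset_of_nonneg (Finset.subset_univ s) (fun j _ _ => sq_nonneg (v j))

lemma eq_zero_of_sum_eq (v : ι → ℤ) (s : Finset ι) (h : ∑ i ∈ s, v i ^ 2 = ∑ i, v i ^ 2)
    (k : ι) (hk : k ∉ s) : v k = 0 := by
  have h1 : ∑ i ∈ s, v i ^ 2 + ∑ i ∈ Finset.univ \ s, v i ^ 2 = ∑ i, v i ^ 2 := by
    rw [add_comm]
    exact Finset.sum_sdiff (Finset.subset_univ s)
  have h2 : ∑ i ∈ Finset.univ \ s, v i ^ 2 = 0 := by linarith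
  have h3 := (Finset.sum_eq_zero_iff_of_nonneg (fun j _ => sq_nonneg (v j))).1 h2 k
    (by simp [hk])
  exact pow_eq_zero_iff (two_ne_zero) |>.1 h3

/-- sum over a vector supported in `s`. -/
lemma sum_supp (v u : ι → ℤ) (s : Finset ι) (h : ∀ k, k ∉ s → v k = 0) :
    ∑ i, v i * u i = ∑ i ∈ s, v i * u i := by
  symm
  apply Finset.sum_subset (Finset.subset_univ s)
  intro k _ hk
  rw [h k hk, zero_mul]

lemma sumq_supp (v : ι → ℤ) (u : ι → ℚ) (s : Finset ι) (h : ∀ k, k ∉ s → v k = 0) :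
    ∑ i, (v i : ℚ) * u i = ∑ i ∈ s, (v i : ℚ) * u i := by
  symm
  apply Finset.sum_subset (Finset.subset_univ s)
  intro k _ hk
  rw [h k hk, Int.cast_zero, zero_mul]

lemma abs_le_one_of_sq_le {x : ℤ} (h : x ^ 2 ≤ 3) : x = -1 ∨ x = 0 ∨ x = 1 := by
  have h1 : x ≤ 1 := by nlinarith
  have h2 : -1 ≤ x := by nlinarith
  omega


lemma sum_three (f : ι → ℤ) (o χ ξ : ι) (h1 : o ≠ χ) (h2 : o ≠ ξ) (h3 : χ ≠ ξ) :
    ∑ i ∈ ({o, χ, ξ} : Finset ι), f i = f o + f χ + f ξ := by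
  rw [Finset.sum_insert (by simp [h1, h2]), Finset.sum_insert (by simp [h3]),
    Finset.sum_singleton]
  ring

lemma sumq_three (f : ι → ℚ) (o χ ξ : ι) (h1 : o ≠ χ) (h2 : o ≠ ξ) (h3 : χ ≠ ξ) :
    ∑ i ∈ ({o, χ, ξ} : Finset ι), f i = f o + f χ + f ξ := by
  rw [Finset.sum_insert (by simp [h1, h2]), Finset.sum_insert (by simp [h3]),
    Finset.sum_singleton]
  ring

/-- a vector of norm 4 with an entry `±2` vanishes elsewhere. -/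
lemma zero_of_big (v : ι → ℤ) (hv : ∑ i, v i ^ 2 = 4) (k : ι) (hk : v k ^ 2 = 4) (j : ι)
    (hj : j ≠ k) : v j = 0 := by
  apply eq_zero_of_sum_eq v {k}
  · rw [Finset.sum_singleton, hk, hv]
  · simpa using hj


lemma pm_cases {α x y : ℤ} (β : ℤ) (hα : α = 1 ∨ α = -1) (hβ : β = 1 ∨ β = -1)
    (hx : x = -1 ∨ x = 0 ∨ x = 1) (hy : y = -1 ∨ y = 0 ∨ y = 1) (h : α * x + β * y = 1) :
    (x = α ∧ y = 0) ∨ (x = 0 ∧ y = β) := by
  rcases hα with rfl | rfl <;> rcases hβ with rfl | rfl <;> rcases hx with rfl | rfl | rfl <;>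
    rcases hy with rfl | rfl | rfl <;> simp_all

lemma pm_cases0 {α x y : ℤ} (β : ℤ) (hα : α = 1 ∨ α = -1) (hβ : β = 1 ∨ β = -1)
    (hx : x = -1 ∨ x = 0 ∨ x = 1) (hy : y = -1 ∨ y = 0 ∨ y = 1) (h : α * x + β * y = 0) :
    (x = 0 ∧ y = 0) ∨ (x = α ∧ y = -β) ∨ (x = -α ∧ y = β) := by
  rcases hα with rfl | rfl <;> rcases hβ with rfl | rfl <;> rcases hx with rfl | rfl | rfl <;>
    rcases hy with rfl | rfl | rfl <;> simp_all

lemma fin1 (x f : ℚ) (hx : 0 < x) (h : (1 : ℚ) + 1 * ((1 * f) ^ 2 / x) +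
    (-1) * (((-1) * (1 + f)) ^ 2 / (x + 1)) = 0) : x = f := by
  have hne1 : x ≠ 0 := ne_of_gt hx
  have hne2 : x + 1 ≠ 0 := by positivity
  field_simp at h
  have e2 : (x - f) ^ 2 = 0 := by nlinarith
  have := pow_eq_zero_iff (two_ne_zero) |>.1 e2
  linarith

lemma fin2 (y f : ℚ) (hy : 0 < y) (hf : 1 ≤ f) (h : (1 : ℚ) + (-1) * (((-1) * f) ^ 2 / (y + 1)) +
    1 * ((1 * (1 + f)) ^ 2 / y) = 0) : False := by
  have hne1 : y ≠ 0 := ne_of_gt hy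
  have hne2 : y + 1 ≠ 0 := by positivity
  field_simp at h
  have e2 : (y + 1 + f) ^ 2 = 0 := by nlinarith
  have := pow_eq_zero_iff (two_ne_zero) |>.1 e2
  linarith

lemma sq_le_three_of {x y z : ℤ} (h : x ^ 2 + y ^ 2 + z ^ 2 ≤ 3) :
    (y = -1 ∨ y = 0 ∨ y = 1) ∧ (z = -1 ∨ z = 0 ∨ z = 1) := by
  have hx := sq_nonneg x
  have hy := sq_nonneg y
  have hz := sq_nonneg z
  exact ⟨abs_le_one_of_sq_le (by linarith), abs_le_one_of_sq_le (by linarith)⟩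

/-- The normalised core: `w χ = α`, `w ξ = 0`. -/
lemma aux (o χ ξ : ι) (hχo : χ ≠ o) (hξo : ξ ≠ o) (hχξ : χ ≠ ξ)
    (d a w c₁ c₂ c₃ V1 V2 V3 : ι → ℤ) (f₂ f₃ : ℤ) (hf₂ : 1 ≤ f₂) (hd : ∀ i, 0 < d i)
    (hdo : d o = 1) (α β : ℤ) (hα : α = 1 ∨ α = -1) (hβ : β = 1 ∨ β = -1)
    (hV1o : V1 o = 1) (hV1χ : V1 χ = α) (hV1ξ : V1 ξ = β)
    (hV1z : ∀ k, k ∉ ({o, χ, ξ} : Finset ι) → V1 k = 0)
    (hV2o : V2 o = 1) (hV3o : V3 o = 0) (hwo : w o = 1)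
    (h11 : ∑ i, c₁ i ^ 2 = 4) (h22 : ∑ i, c₂ i ^ 2 = 4)
    (S22 : ∑ i, V2 i ^ 2 = 3) (S33 : ∑ i, V3 i ^ 2 = 3)
    (S12 : ∑ i, V1 i * V2 i = 1) (S13 : ∑ i, V1 i * V3 i = 1)
    (S1d : ∑ i, V1 i * d i = 0) (S2d : ∑ i, V2 i * d i = 0) (hd2 : ∑ i, c₂ i * d i = 0)
    (hc1 : ∀ i, c₁ i = V1 i + V2 i - w i) (hc2 : ∀ i, c₂ i = V1 i + V3 i - w i)
    (hc3 : ∀ i, c₃ i = V2 i + V3 i - w i)
    (hc10 : c₁ o = 1)
    (hwχ : w χ = α) (hwξ : w ξ = 0)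
    (ha : ∀ i, a i = c₁ i + f₂ * c₂ i + f₃ * c₃ i)
    (S1q : ∑ i, (V1 i : ℚ) * ((a i : ℚ) ^ 2 / (d i : ℚ)) = 0) : a χ = d χ := by
  have hoχ : o ≠ χ := hχo.symm
  have hoξ : o ≠ ξ := hξo.symm
  -- bounds on V3
  have b3 : V3 o ^ 2 + V3 χ ^ 2 + V3 ξ ^ 2 ≤ 3 := by
    rw [← sum_three (fun i => V3 i ^ 2) o χ ξ hoχ hoξ hχξ, ← S33]
    exact sum_sub_le V3 _
  have b2 : V2 o ^ 2 + V2 χ ^ 2 + V2 ξ ^ 2 ≤ 3 := by
    rw [← sum_three (fun i => V2 i ^ 2) o χ ξ hoχ hoξ hχξ, ← S22]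
    exact sum_sub_le V2 _
  obtain ⟨hV3χ, hV3ξ⟩ := sq_le_three_of b3
  obtain ⟨hV2χ, hV2ξ⟩ := sq_le_three_of b2
  -- relations
  have R3 : α * V3 χ + β * V3 ξ = 1 := by
    have := S13
    rw [sum_supp V1 V3 _ hV1z, sum_three (fun i => V1 i * V3 i) o χ ξ hoχ hoξ hχξ] at this
    simp only [hV1o, hV1χ, hV1ξ, hV3o] at this
    linarith
  have R2 : α * V2 χ + β * V2 ξ = 0 := by
    have := S12
    rw [sum_supp V1 V2 _ hV1z, sum_three (fun i => V1 i * V2 i) o χ ξ hoχ hoξ hχξ] at this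
    simp only [hV1o, hV1χ, hV1ξ, hV2o] at this
    linarith
  have Rd : 1 + α * d χ + β * d ξ = 0 := by
    have := S1d
    rw [sum_supp V1 d _ hV1z, sum_three (fun i => V1 i * d i) o χ ξ hoχ hoξ hχξ] at this
    simp only [hV1o, hV1χ, hV1ξ, hdo] at this
    linarith
  have hβ2 : β ^ 2 = 1 := by rcases hβ with rfl | rfl <;> norm_num
  have hα2 : α ^ 2 = 1 := by rcases hα with rfl | rfl <;> norm_num
  have hβ0 : β ≠ 0 := by rcases hβ with rfl | rfl <;> norm_num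
  have hdξ := hd ξ
  have hdχ := hd χ
  -- V3
  have h3 : V3 χ = α ∧ V3 ξ = 0 := by
    rcases pm_cases β hα hβ hV3χ hV3ξ R3 with h | h
    · exact h
    · exfalso
      have e1 : c₂ ξ = 2 * β := by rw [hc2, hV1ξ, h.2, hwξ]; ring
      have e2 : c₂ ξ ^ 2 = 4 := by rw [e1, mul_pow, hβ2]; norm_num
      have e3 : ∀ k, k ∉ ({ξ} : Finset ι) → c₂ k = 0 := fun k hk =>
        zero_of_big c₂ h22 ξ e2 k (by simpa using hk)
      have e4 := hd2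
      rw [sum_supp c₂ d _ e3, Finset.sum_singleton, e1] at e4
      have : β * d ξ = 0 := by linarith
      rcases mul_eq_zero.1 this with h0 | h0
      · exact hβ0 h0
      · omega
  -- V2
  have h2 : V2 χ = 0 ∧ V2 ξ = 0 := by
    rcases pm_cases0 β hα hβ hV2χ hV2ξ R2 with h | h | h
    · exact h
    · exfalso
      have e0 : ∑ i ∈ ({o, χ, ξ} : Finset ι), V2 i ^ 2 = ∑ i, V2 i ^ 2 := by
        rw [sum_three (fun i => V2 i ^ 2) o χ ξ hoχ hoξ hχξ, S22, hV2o, h.1, h.2, neg_sq, hα2, hβ2]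
        norm_num
      have e3 : ∀ k, k ∉ ({o, χ, ξ} : Finset ι) → V2 k = 0 := fun k hk =>
        eq_zero_of_sum_eq V2 _ e0 k hk
      have e4 := S2d
      rw [sum_supp V2 d _ e3, sum_three (fun i => V2 i * d i) o χ ξ hoχ hoξ hχξ] at e4
      simp only [hV2o, h.1, h.2, hdo] at e4
      have : β * d ξ = 0 := by linarith
      rcases mul_eq_zero.1 this with h0 | h0
      · exact hβ0 h0
      · omega
    · exfalso
      have e1 : c₁ ξ = 2 * β := by rw [hc1, hV1ξ, h.2, hwξ]; ring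
      have e2 : c₁ ξ ^ 2 = 4 := by rw [e1, mul_pow, hβ2]; norm_num
      have := zero_of_big c₁ h11 ξ e2 o hoξ
      rw [hc10] at this
      exact one_ne_zero this
  -- entries of a
  have aχ : a χ = α * f₂ := by
    rw [ha, hc1, hc2, hc3, hV1χ, h2.1, h3.1, hwχ]; ring
  have aξ : a ξ = β * (1 + f₂) := by
    rw [ha, hc1, hc2, hc3, hV1ξ, h2.2, h3.2, hwξ]; ring
  have ao : a o = 1 := by
    rw [ha, hc1, hc2, hc3, hV1o, hV2o, hV3o, hwo]; ring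
  have Rq : (1 : ℚ) + (α : ℚ) * (((α : ℚ) * (f₂ : ℚ)) ^ 2 / (d χ : ℚ)) +
      (β : ℚ) * (((β : ℚ) * (1 + (f₂ : ℚ))) ^ 2 / (d ξ : ℚ)) = 0 := by
    have := S1q
    rw [sumq_supp V1 _ _ hV1z,
      sumq_three (fun i => (V1 i : ℚ) * ((a i : ℚ) ^ 2 / (d i : ℚ))) o χ ξ hoχ hoξ hχξ] at this
    simp only [hV1o, hV1χ, hV1ξ, hdo, ao, aχ, aξ] at this
    push_cast at this
    linarith
  have hdχq : (0 : ℚ) < (d χ : ℚ) := by exact_mod_cast hdχ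
  have hdξq : (0 : ℚ) < (d ξ : ℚ) := by exact_mod_cast hdξ
  rcases hα with rfl | rfl <;> rcases hβ with rfl | rfl
  · exfalso; omega
  · -- (1,-1)
    have e1 : d ξ = d χ + 1 := by omega
    have e1q : (d ξ : ℚ) = (d χ : ℚ) + 1 := by exact_mod_cast e1
    rw [e1q] at Rq
    push_cast at Rq
    have e3 : (d χ : ℚ) = (f₂ : ℚ) := fin1 _ _ hdχq Rq
    have e4 : d χ = f₂ := by exact_mod_cast e3
    rw [aχ, e4]; ring
  · -- (-1,1)
    exfalso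
    have e1 : d χ = d ξ + 1 := by omega
    have e1q : (d χ : ℚ) = (d ξ : ℚ) + 1 := by exact_mod_cast e1
    rw [e1q] at Rq
    push_cast at Rq
    have hf : (1 : ℚ) ≤ (f₂ : ℚ) := by exact_mod_cast hf₂
    exact fin2 _ _ hdξq hf Rq
  · exfalso; omega


lemma pm_of_sq_le_two {x : ℤ} (h0 : x ≠ 0) (h : x ^ 2 ≤ 2) : x = 1 ∨ x = -1 := by
  rcases abs_le_one_of_sq_le (by linarith) with h1 | h1 | h1
  · exact Or.inr h1
  · exact absurd h1 h0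
  · exact Or.inl h1

/-- a vector of norm 3 with entry `1` at `o` is `e_o ± e_χ ± e_ξ`. -/
lemma norm_three (V : ι → ℤ) (o : ι) (hVo : V o = 1) (h : ∑ i, V i ^ 2 = 3) :
    ∃ χ ξ : ι, χ ≠ o ∧ ξ ≠ o ∧ χ ≠ ξ ∧ (V χ = 1 ∨ V χ = -1) ∧ (V ξ = 1 ∨ V ξ = -1) ∧
      ∀ k, k ∉ ({o, χ, ξ} : Finset ι) → V k = 0 := by
  -- first index
  have h1 : ∃ χ, χ ≠ o ∧ V χ ≠ 0 := by
    by_contra hcon
    push Not at hcon
    have : ∑ i, V i ^ 2 = V o ^ 2 := by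
      apply Finset.sum_eq_single o
      · intro b _ hb
        rw [hcon b hb]; norm_num
      · intro ho; exact absurd (Finset.mem_univ o) ho
    rw [h, hVo] at this
    norm_num at this
  obtain ⟨χ, hχo, hχ0⟩ := h1
  have b1 : V o ^ 2 + V χ ^ 2 ≤ 3 := by
    rw [← Finset.sum_pair (f := fun i => V i ^ 2) hχo.symm, ← h]
    exact sum_sub_le V _
  have hχ1 : V χ = 1 ∨ V χ = -1 := pm_of_sq_le_two hχ0 (by rw [hVo] at b1; linarith)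
  have hχsq : V χ ^ 2 = 1 := by rcases hχ1 with e | e <;> rw [e] <;> norm_num
  -- second index
  have h2 : ∃ ξ, ξ ≠ o ∧ ξ ≠ χ ∧ V ξ ≠ 0 := by
    by_contra hcon
    push Not at hcon
    have : ∑ i ∈ ({o, χ} : Finset ι), V i ^ 2 = ∑ i, V i ^ 2 := by
      apply Finset.sum_subset (Finset.subset_univ _)
      intro k _ hk
      have hk' : k ≠ o ∧ k ≠ χ := by simpa using hk
      rw [hcon k hk'.1 hk'.2]; norm_num
    rw [Finset.sum_pair hχo.symm, h, hVo, hχsq] at this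
    norm_num at this
  obtain ⟨ξ, hξo, hξχ, hξ0⟩ := h2
  have b2 : V o ^ 2 + V χ ^ 2 + V ξ ^ 2 ≤ 3 := by
    rw [← sum_three (fun i => V i ^ 2) o χ ξ hχo.symm hξo.symm hξχ.symm, ← h]
    exact sum_sub_le V _
  have hξ1 : V ξ = 1 ∨ V ξ = -1 :=
    pm_of_sq_le_two hξ0 (by rw [hVo, hχsq] at b2; linarith)
  have hξsq : V ξ ^ 2 = 1 := by rcases hξ1 with e | e <;> rw [e] <;> norm_num
  refine ⟨χ, ξ, hχo, hξo, hξχ.symm, hχ1, hξ1, ?_⟩
  intro k hk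
  apply eq_zero_of_sum_eq V _ _ k hk
  rw [sum_three (fun i => V i ^ 2) o χ ξ hχo.symm hξo.symm hξχ.symm, h, hVo, hχsq, hξsq]
  norm_num

lemma not_mem_swap (o χ ξ k : ι) (hk : k ∉ ({o, ξ, χ} : Finset ι)) :
    k ∉ ({o, χ, ξ} : Finset ι) := by
  simp only [Finset.mem_insert, Finset.mem_singleton] at hk ⊢
  tauto

theorem core_arith {ι : Type*} [Fintype ι] [DecidableEq ι] (o : ι) (d a w c₁ c₂ c₃ : ι → ℤ)
    (f₂ f₃ : ℤ) (hf₂ : 1 ≤ f₂) (hd : ∀ i, 0 < d i) (hdo : d o = 1) (hw0 : w o = 1)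
    (hc10 : c₁ o = 1) (hc20 : c₂ o = 0) (hc30 : c₃ o = 0) (hww : ∑ i, w i ^ 2 = 4)
    (h11 : ∑ i, c₁ i ^ 2 = 4) (h22 : ∑ i, c₂ i ^ 2 = 4) (h33 : ∑ i, c₃ i ^ 2 = 4)
    (h12 : ∑ i, c₁ i * c₂ i = 2) (h13 : ∑ i, c₁ i * c₃ i = 2) (h23 : ∑ i, c₂ i * c₃ i = 2)
    (hw1 : ∑ i, w i * c₁ i = 0) (hw2 : ∑ i, w i * c₂ i = 0) (hw3 : ∑ i, w i * c₃ i = 0)
    (hdw : ∑ i, w i * d i = 0) (hd1 : ∑ i, c₁ i * d i = 0) (hd2 : ∑ i, c₂ i * d i = 0)
    (hd3 : ∑ i, c₃ i * d i = 0) (ha : ∀ i, a i = c₁ i + f₂ * c₂ i + f₃ * c₃ i)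
    (hqw : ∑ i, (w i : ℚ) * (a i : ℚ) ^ 2 / (d i : ℚ) = 0)
    (hq1 : ∑ i, (c₁ i : ℚ) * (a i : ℚ) ^ 2 / (d i : ℚ) = 0)
    (hq2 : ∑ i, (c₂ i : ℚ) * (a i : ℚ) ^ 2 / (d i : ℚ) = 0)
    (hq3 : ∑ i, (c₃ i : ℚ) * (a i : ℚ) ^ 2 / (d i : ℚ) = 0)
    (hpar : ∀ i, Even (w i + c₁ i + c₂ i + c₃ i)) : ∃ i, i ≠ o ∧ a i = d i := by
  choose r hr using hpar
  obtain ⟨V1, hV1⟩ : ∃ V1 : ι → ℤ, V1 = fun i => r i - c₃ i := ⟨_, rfl⟩
  obtain ⟨V2, hV2⟩ : ∃ V2 : ι → ℤ, V2 = fun i => r i - c₂ i := ⟨_, rfl⟩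
  obtain ⟨V3, hV3⟩ : ∃ V3 : ι → ℤ, V3 = fun i => r i - c₁ i := ⟨_, rfl⟩
  have t1 : ∀ i, 2 * V1 i = 1 * w i + 1 * c₁ i + 1 * c₂ i + (-1) * c₃ i := fun i => by
    rw [hV1]; simp only; linarith [hr i]
  have t2 : ∀ i, 2 * V2 i = 1 * w i + 1 * c₁ i + (-1) * c₂ i + 1 * c₃ i := fun i => by
    rw [hV2]; simp only; linarith [hr i]
  have t3 : ∀ i, 2 * V3 i = 1 * w i + (-1) * c₁ i + 1 * c₂ i + 1 * c₃ i := fun i => by
    rw [hV3]; simp only; linarith [hr i]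
  have hc1 : ∀ i, c₁ i = V1 i + V2 i - w i := fun i => by linarith [t1 i, t2 i]
  have hc2 : ∀ i, c₂ i = V1 i + V3 i - w i := fun i => by linarith [t1 i, t3 i]
  have hc3 : ∀ i, c₃ i = V2 i + V3 i - w i := fun i => by linarith [t2 i, t3 i]
  have hV1o : V1 o = 1 := by have := t1 o; rw [hw0, hc10, hc20, hc30] at this; linarith
  have hV2o : V2 o = 1 := by have := t2 o; rw [hw0, hc10, hc20, hc30] at this; linarith
  have hV3o : V3 o = 0 := by have := t3 o; rw [hw0, hc10, hc20, hc30] at this; linarith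
  -- Gram sums
  have S11 : ∑ i, V1 i ^ 2 = 3 := by
    have e : ∑ i, (2 * V1 i) * (2 * V1 i) = 12 := by
      rw [Finset.sum_congr rfl (fun i _ => by rw [t1 i])]
      rw [dot_expand, hww, h11, h22, h33, hw1, hw2, hw3, h12, h13, h23]; norm_num
    have e2 : ∑ i, (2 * V1 i) * (2 * V1 i) = 4 * ∑ i, V1 i ^ 2 := by
      rw [Finset.mul_sum]; exact Finset.sum_congr rfl (fun i _ => by ring)
    linarith
  have S22 : ∑ i, V2 i ^ 2 = 3 := by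
    have e : ∑ i, (2 * V2 i) * (2 * V2 i) = 12 := by
      rw [Finset.sum_congr rfl (fun i _ => by rw [t2 i])]
      rw [dot_expand, hww, h11, h22, h33, hw1, hw2, hw3, h12, h13, h23]; norm_num
    have e2 : ∑ i, (2 * V2 i) * (2 * V2 i) = 4 * ∑ i, V2 i ^ 2 := by
      rw [Finset.mul_sum]; exact Finset.sum_congr rfl (fun i _ => by ring)
    linarith
  have S33 : ∑ i, V3 i ^ 2 = 3 := by
    have e : ∑ i, (2 * V3 i) * (2 * V3 i) = 12 := by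
      rw [Finset.sum_congr rfl (fun i _ => by rw [t3 i])]
      rw [dot_expand, hww, h11, h22, h33, hw1, hw2, hw3, h12, h13, h23]; norm_num
    have e2 : ∑ i, (2 * V3 i) * (2 * V3 i) = 4 * ∑ i, V3 i ^ 2 := by
      rw [Finset.mul_sum]; exact Finset.sum_congr rfl (fun i _ => by ring)
    linarith
  have S12 : ∑ i, V1 i * V2 i = 1 := by
    have e : ∑ i, (2 * V1 i) * (2 * V2 i) = 4 := by
      rw [Finset.sum_congr rfl (fun i _ => by rw [t1 i, t2 i])]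
      rw [dot_expand, hww, h11, h22, h33, hw1, hw2, hw3, h12, h13, h23]; norm_num
    have e2 : ∑ i, (2 * V1 i) * (2 * V2 i) = 4 * ∑ i, V1 i * V2 i := by
      rw [Finset.mul_sum]; exact Finset.sum_congr rfl (fun i _ => by ring)
    linarith
  have S13 : ∑ i, V1 i * V3 i = 1 := by
    have e : ∑ i, (2 * V1 i) * (2 * V3 i) = 4 := by
      rw [Finset.sum_congr rfl (fun i _ => by rw [t1 i, t3 i])]
      rw [dot_expand, hww, h11, h22, h33, hw1, hw2, hw3, h12, h13, h23]; norm_num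
    have e2 : ∑ i, (2 * V1 i) * (2 * V3 i) = 4 * ∑ i, V1 i * V3 i := by
      rw [Finset.mul_sum]; exact Finset.sum_congr rfl (fun i _ => by ring)
    linarith
  have S1d : ∑ i, V1 i * d i = 0 := by
    have e : ∑ i, (2 * V1 i) * d i = 0 := by
      rw [Finset.sum_congr rfl (fun i _ => by rw [t1 i])]
      rw [lin_expand, hdw, hd1, hd2, hd3]; norm_num
    have e2 : ∑ i, (2 * V1 i) * d i = 2 * ∑ i, V1 i * d i := by
      rw [Finset.mul_sum]; exact Finset.sum_congr rfl (fun i _ => by ring)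
    linarith
  have S2d : ∑ i, V2 i * d i = 0 := by
    have e : ∑ i, (2 * V2 i) * d i = 0 := by
      rw [Finset.sum_congr rfl (fun i _ => by rw [t2 i])]
      rw [lin_expand, hdw, hd1, hd2, hd3]; norm_num
    have e2 : ∑ i, (2 * V2 i) * d i = 2 * ∑ i, V2 i * d i := by
      rw [Finset.mul_sum]; exact Finset.sum_congr rfl (fun i _ => by ring)
    linarith
  have S1w : ∑ i, V1 i * w i = 2 := by
    have hww' : ∑ i, w i * w i = 4 := by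
      rw [← hww]; exact Finset.sum_congr rfl (fun i _ => by ring)
    have hw1' : ∑ i, c₁ i * w i = 0 := by
      rw [← hw1]; exact Finset.sum_congr rfl (fun i _ => by ring)
    have hw2' : ∑ i, c₂ i * w i = 0 := by
      rw [← hw2]; exact Finset.sum_congr rfl (fun i _ => by ring)
    have hw3' : ∑ i, c₃ i * w i = 0 := by
      rw [← hw3]; exact Finset.sum_congr rfl (fun i _ => by ring)
    have e : ∑ i, (2 * V1 i) * w i = 4 := by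
      rw [Finset.sum_congr rfl (fun i _ => by rw [t1 i])]
      rw [lin_expand, hww', hw1', hw2', hw3']; norm_num
    have e2 : ∑ i, (2 * V1 i) * w i = 2 * ∑ i, V1 i * w i := by
      rw [Finset.mul_sum]; exact Finset.sum_congr rfl (fun i _ => by ring)
    linarith
  have S1q : ∑ i, (V1 i : ℚ) * ((a i : ℚ) ^ 2 / (d i : ℚ)) = 0 := by
    have q0 : ∀ x : ι → ℤ, ∑ i, (x i : ℚ) * (a i : ℚ) ^ 2 / (d i : ℚ) =
        ∑ i, (x i : ℚ) * ((a i : ℚ) ^ 2 / (d i : ℚ)) := fun x =>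
      Finset.sum_congr rfl (fun i _ => by rw [mul_div_assoc])
    rw [q0] at hqw hq1 hq2 hq3
    have pt : ∀ i, (V1 i : ℚ) = (1 / 2 : ℚ) * (w i : ℚ) + (1 / 2 : ℚ) * (c₁ i : ℚ) +
        (1 / 2 : ℚ) * (c₂ i : ℚ) + (-1 / 2 : ℚ) * (c₃ i : ℚ) := fun i => by
      have := t1 i
      have h' : (2 : ℚ) * (V1 i : ℚ) = (w i : ℚ) + (c₁ i : ℚ) + (c₂ i : ℚ) - (c₃ i : ℚ) := by
        have : ((2 * V1 i : ℤ) : ℚ) = ((1 * w i + 1 * c₁ i + 1 * c₂ i + (-1) * c₃ i : ℤ) : ℚ) := by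
          rw [this]
        push_cast at this
        linarith
      linarith
    rw [Finset.sum_congr rfl (fun i _ => by rw [pt i])]
    rw [linq_expand, hqw, hq1, hq2, hq3]; norm_num
  -- structure of V1
  obtain ⟨χ, ξ, hχo, hξo, hχξ, hχ1, hξ1, hz⟩ := norm_three V1 o hV1o S11
  -- relation with w
  have bw : w o ^ 2 + w χ ^ 2 + w ξ ^ 2 ≤ 4 := by
    rw [← sum_three (fun i => w i ^ 2) o χ ξ hχo.symm hξo.symm hχξ, ← hww]
    exact sum_sub_le w _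
  have bw' : w χ ^ 2 + w ξ ^ 2 ≤ 3 := by rw [hw0] at bw; linarith
  have hwχ : w χ = -1 ∨ w χ = 0 ∨ w χ = 1 :=
    abs_le_one_of_sq_le (by have := sq_nonneg (w ξ); linarith)
  have hwξ : w ξ = -1 ∨ w ξ = 0 ∨ w ξ = 1 :=
    abs_le_one_of_sq_le (by have := sq_nonneg (w χ); linarith)
  have Rw : V1 χ * w χ + V1 ξ * w ξ = 1 := by
    have := S1w
    rw [sum_supp V1 w _ hz, sum_three (fun i => V1 i * w i) o χ ξ hχo.symm hξo.symm hχξ] at this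
    simp only [hV1o, hw0] at this
    linarith
  rcases pm_cases (V1 ξ) hχ1 hξ1 hwχ hwξ Rw with hcase | hcase
  · refine ⟨χ, hχo, ?_⟩
    exact aux o χ ξ hχo hξo hχξ d a w c₁ c₂ c₃ V1 V2 V3 f₂ f₃ hf₂ hd hdo (V1 χ) (V1 ξ) hχ1 hξ1
      hV1o rfl rfl hz hV2o hV3o hw0 h11 h22 S22 S33 S12 S13 S1d S2d hd2 hc1 hc2 hc3 hc10
      hcase.1 hcase.2 ha S1q
  · refine ⟨ξ, hξo, ?_⟩
    have hz' : ∀ k, k ∉ ({o, ξ, χ} : Finset ι) → V1 k = 0 := fun k hk =>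
      hz k (not_mem_swap o χ ξ k hk)
    exact aux o ξ χ hξo hχo hχξ.symm d a w c₁ c₂ c₃ V1 V2 V3 f₂ f₃ hf₂ hd hdo (V1 ξ) (V1 χ) hξ1 hχ1
      hV1o rfl rfl hz' hV2o hV3o hw0 h11 h22 S22 S33 S12 S13 S1d S2d hd2 hc1 hc2 hc3 hc10
      hcase.2 hcase.1 ha S1q

end Cfsg.Agent.Helper94.CoreArith
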