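import Mathlib

/-!
# Brauer–Suzuki for `Q8`: the quotient `C(z)/⟨z⟩` has Klein four Sylow `2`-subgroups and one class
of involutions (lemma GT1 of helper46's S0201 project).
-/

set_option autoImplicit false
set_option linter.style.haveILetI false

universe u

namespace Cfsg.Agent.Helper94.BSQ8GT

open Subgroup

set_option maxRecDepth 100000 in
theorem q8_facts : ∀ a c : QuaternionGroup 2, c ≠ 1 → c ^ 2 = 1 →
    (a ^ 2 = 1 ∨ a ^ 2 = c) ∧ a * c = c * a ∧ (a ≠ 1 → a ^ 2 = 1 → a = c) := by decide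

theorem mem_zpowers_invol {H : Type*} [Group H] (w : H) (hw : w ^ 2 = 1) (a : H)
    (ha : a ∈ zpowers w) : a = 1 ∨ a = w := by
  obtain ⟨k, rfl⟩ := mem_zpowers_iff.mp ha
  have hw' : w ^ (2 : ℤ) = 1 := by
    rw [show (2 : ℤ) = ((2 : ℕ) : ℤ) by norm_num, zpow_natCast]; exact hw
  rcases Int.even_or_odd' k with ⟨j, rfl | rfl⟩
  · left; rw [zpow_mul, hw', one_zpow]
  · right; rw [zpow_add, zpow_mul, hw', one_zpow, one_mul, zpow_one]

theorem zpowers_le_normalizer_of_commute {G : Type*} [Group G] (u v : G) (hc : Commute u v) :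
    zpowers u ≤ normalizer (zpowers v : Set G) := by
  rw [zpowers_le]
  rw [Subgroup.mem_normalizer_iff]
  intro x
  have hux : ∀ y ∈ zpowers v, u * y * u⁻¹ = y := by
    intro y hy
    obtain ⟨k, rfl⟩ := Subgroup.mem_zpowers_iff.mp hy
    have : Commute u (v ^ k) := hc.zpow_right k
    rw [this.eq, mul_inv_cancel_right]
  constructor
  · intro hx; rw [hux x hx]; exact hx
  · intro hx
    have := hux _ hx
    have h4 : u * x * u⁻¹ = x := mul_left_cancel (mul_right_cancel this)
    rw [← h4]; exact hx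

theorem orderOf_conj_eq {G : Type*} [Group G] (g u : G) : orderOf (g * u * g⁻¹) = orderOf u := by
  have := orderOf_injective (MulAut.conj g).toMonoidHom (MulAut.conj g).injective u
  simpa using this

section

variable {G : Type u} [Group G] [Finite G] (S : Sylow 2 G)

/-- every `2`-subgroup is conjugate into `S` -/
theorem conj_into (H : Subgroup G) (hH : IsPGroup 2 H) :
    ∃ h : G, ∀ a ∈ H, h⁻¹ * a * h ∈ (S : Subgroup G) := by
  haveI : Fact (Nat.Prime 2) := ⟨Nat.prime_two⟩
  obtain ⟨Q, hQ⟩ := hH.exists_le_sylow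
  obtain ⟨h, hh⟩ := MulAction.exists_smul_eq G S Q
  refine ⟨h, fun a ha => ?_⟩
  have hx : a ∈ (Q : Subgroup G) := hQ ha
  rw [← hh, Sylow.coe_subgroup_smul, Subgroup.mem_pointwise_smul_iff_inv_smul_mem] at hx
  simpa [MulAut.smul_def] using hx

variable (e : (S : Subgroup G) ≃* QuaternionGroup 2) (z : G) (hzS : z ∈ (S : Subgroup G))
  (hz : orderOf z = 2)

include e hzS hz

theorem s_facts (x : G) (hx : x ∈ (S : Subgroup G)) :
    (x ^ 2 = 1 ∨ x ^ 2 = z) ∧ x * z = z * x ∧ (x ≠ 1 → x ^ 2 = 1 → x = z) := by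
  have hz2 : z ^ 2 = 1 := by rw [← hz]; exact pow_orderOf_eq_one z
  have hz1 : z ≠ 1 := by
    intro h; rw [h, orderOf_one] at hz; norm_num at hz
  have hc1 : e ⟨z, hzS⟩ ≠ 1 := by
    intro h
    have := (e.map_eq_one_iff).mp h
    exact hz1 (congrArg Subtype.val this)
  have hc2 : (e ⟨z, hzS⟩) ^ 2 = 1 := by
    rw [← map_pow]
    have : (⟨z, hzS⟩ : (S : Subgroup G)) ^ 2 = 1 := Subtype.ext (by simpa using hz2)
    rw [this, map_one]
  obtain ⟨h1, h2, h3⟩ := q8_facts (e ⟨x, hx⟩) (e ⟨z, hzS⟩) hc1 hc2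
  refine ⟨?_, ?_, ?_⟩
  · rcases h1 with h1 | h1
    · left
      rw [← map_pow, e.map_eq_one_iff] at h1
      simpa using congrArg Subtype.val h1
    · right
      rw [← map_pow] at h1
      have := e.injective h1
      simpa using congrArg Subtype.val this
  · rw [← map_mul, ← map_mul] at h2
    have := e.injective h2
    simpa using congrArg Subtype.val this
  · intro hx1 hx2
    have ha1 : e ⟨x, hx⟩ ≠ 1 := by
      intro h
      have := (e.map_eq_one_iff).mp h
      exact hx1 (congrArg Subtype.val this)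
    have ha2 : (e ⟨x, hx⟩) ^ 2 = 1 := by
      rw [← map_pow]
      have : (⟨x, hx⟩ : (S : Subgroup G)) ^ 2 = 1 := Subtype.ext (by simpa using hx2)
      rw [this, map_one]
    have := e.injective (h3 ha1 ha2)
    simpa using congrArg Subtype.val this

/-- a `2`-element of `C(z)` is `C(z)`-conjugate into `S` -/
theorem conj_into_centralizer (x : G) (hxz : Commute x z) (k : ℕ) (hx : x ^ 2 ^ k = 1) :
    ∃ h : G, Commute h z ∧ h⁻¹ * x * h ∈ (S : Subgroup G) := by
  haveI : Fact (Nat.Prime 2) := ⟨Nat.prime_two⟩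
  have hz2 : z ^ 2 = 1 := by rw [← hz]; exact pow_orderOf_eq_one z
  have hz1 : z ≠ 1 := by
    intro h; rw [h, orderOf_one] at hz; norm_num at hz
  have h1 : IsPGroup 2 (zpowers x) := by
    obtain ⟨j, -, hj⟩ := (Nat.dvd_prime_pow Nat.prime_two).mp (orderOf_dvd_of_pow_eq_one hx)
    exact IsPGroup.of_card (n := j) (by rw [Nat.card_zpowers, hj])
  have h2 : IsPGroup 2 (zpowers z) :=
    IsPGroup.of_card (n := 1) (by rw [Nat.card_zpowers, hz]; norm_num)
  have h4 : IsPGroup 2 (zpowers x ⊔ zpowers z : Subgroup G) :=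
    h1.to_sup_of_normal_right' h2 (zpowers_le_normalizer_of_commute x z hxz)
  obtain ⟨h, hh⟩ := conj_into S _ h4
  have hxS := hh x (le_sup_left (a := zpowers x) (mem_zpowers x))
  have hzS' := hh z (le_sup_right (b := zpowers z) (mem_zpowers z))
  refine ⟨h, ?_, hxS⟩
  have h5 : h⁻¹ * z * h ≠ 1 := by
    intro h6
    apply hz1
    have := congrArg (fun y => h * y * h⁻¹) h6
    simpa [mul_assoc] using this
  have h6 : (h⁻¹ * z * h) ^ 2 = 1 := by
    have : (h⁻¹ * z * h) ^ 2 = h⁻¹ * z ^ 2 * h := by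
      rw [pow_two, pow_two]; group
    rw [this, hz2]; group
  have h7 := (s_facts S e z hzS hz _ hzS').2.2 h5 h6
  have h8 : z * h = h * z := by
    have := congrArg (fun y => h * y) h7
    simpa [mul_assoc] using this
  exact h8.symm

/-- a nontrivial involution of `C(z)` is `z` -/
theorem invol_eq (x : G) (hxz : Commute x z) (hx2 : x ^ 2 = 1) (hx1 : x ≠ 1) : x = z := by
  obtain ⟨h, hhz, hxS⟩ := conj_into_centralizer S e z hzS hz x hxz 1 (by simpa using hx2)
  have h5 : h⁻¹ * x * h ≠ 1 := by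
    intro h6
    apply hx1
    have := congrArg (fun y => h * y * h⁻¹) h6
    simpa [mul_assoc] using this
  have h6 : (h⁻¹ * x * h) ^ 2 = 1 := by
    have : (h⁻¹ * x * h) ^ 2 = h⁻¹ * x ^ 2 * h := by
      rw [pow_two, pow_two]; group
    rw [this, hx2]; group
  have h7 := (s_facts S e z hzS hz _ hxS).2.2 h5 h6
  have h8 : x = h * z * h⁻¹ := by
    have := congrArg (fun y => h * y * h⁻¹) h7
    simpa [mul_assoc] using this
  rw [h8, hhz.eq, mul_inv_cancel_right]

/-- the square of a `2`-element of `C(z)` is `1` or `z` -/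
theorem sq_mem (x : G) (hxz : Commute x z) (k : ℕ) (hx : x ^ 2 ^ k = 1) :
    x ^ 2 = 1 ∨ x ^ 2 = z := by
  obtain ⟨h, hhz, hxS⟩ := conj_into_centralizer S e z hzS hz x hxz k hx
  have h0 : (h⁻¹ * x * h) ^ 2 = h⁻¹ * x ^ 2 * h := by
    rw [pow_two, pow_two]; group
  rcases (s_facts S e z hzS hz _ hxS).1 with h1 | h1
  · left
    rw [h0] at h1
    have := congrArg (fun y => h * y * h⁻¹) h1
    simpa [mul_assoc] using this
  · right
    rw [h0] at h1
    have h2 : x ^ 2 = h * z * h⁻¹ := by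
      have := congrArg (fun y => h * y * h⁻¹) h1
      simpa [mul_assoc] using this
    rw [h2, hhz.eq, mul_inv_cancel_right]

/-- two elements of `G` with square `z` are conjugate under `C(z)` modulo `⟨z⟩` -/
theorem conj_sq
    (hconj : ∀ A B : Subgroup G, A ≤ S → B ≤ S → Nat.card A = 4 → Nat.card B = 4 →
      ∃ n : G, B = A.map (MulAut.conj n).toMonoidHom)
    (x y : G) (hx : x ^ 2 = z) (hy : y ^ 2 = z) :
    ∃ g : G, Commute g z ∧ (g * x * g⁻¹ = y ∨ g * x * g⁻¹ = y * z) := by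
  have hz2 : z ^ 2 = 1 := by rw [← hz]; exact pow_orderOf_eq_one z
  have hz1 : z ≠ 1 := by
    intro h; rw [h, orderOf_one] at hz; norm_num at hz
  have hzinv : z⁻¹ = z := by
    rw [inv_eq_iff_mul_eq_one, ← pow_two]; exact hz2
  have hxz : Commute x z := by rw [← hx]; exact (Commute.refl x).pow_right 2
  have hyz : Commute y z := by rw [← hy]; exact (Commute.refl y).pow_right 2
  have hx4 : x ^ 2 ^ 2 = 1 := by
    rw [show (2 : ℕ) ^ 2 = 2 * 2 by norm_num, pow_mul, hx, hz2]
  have hy4 : y ^ 2 ^ 2 = 1 := by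
    rw [show (2 : ℕ) ^ 2 = 2 * 2 by norm_num, pow_mul, hy, hz2]
  obtain ⟨h1, hh1, hx1S⟩ := conj_into_centralizer S e z hzS hz x hxz 2 hx4
  obtain ⟨h2, hh2, hy1S⟩ := conj_into_centralizer S e z hzS hz y hyz 2 hy4
  obtain ⟨x1, hx1def⟩ : ∃ x1 : G, x1 = h1⁻¹ * x * h1 := ⟨_, rfl⟩
  obtain ⟨y1, hy1def⟩ : ∃ y1 : G, y1 = h2⁻¹ * y * h2 := ⟨_, rfl⟩
  rw [← hx1def] at hx1S
  rw [← hy1def] at hy1S
  have hx1sq : x1 ^ 2 = z := by
    have : x1 ^ 2 = h1⁻¹ * x ^ 2 * h1 := by rw [hx1def, pow_two, pow_two]; group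
    rw [this, hx, mul_assoc, ← hh1.eq, inv_mul_cancel_left]
  have hy1sq : y1 ^ 2 = z := by
    have : y1 ^ 2 = h2⁻¹ * y ^ 2 * h2 := by rw [hy1def, pow_two, pow_two]; group
    rw [this, hy, mul_assoc, ← hh2.eq, inv_mul_cancel_left]
  have hx1z : Commute x1 z := by rw [← hx1sq]; exact (Commute.refl x1).pow_right 2
  have hox : orderOf x1 = 2 ^ (1 + 1) :=
    orderOf_eq_prime_pow (p := 2) (n := 1) (by rw [pow_one, hx1sq]; exact hz1)
      (by rw [show (2 : ℕ) ^ (1 + 1) = 2 * 2 by norm_num, pow_mul, hx1sq, hz2])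
  have hoy : orderOf y1 = 2 ^ (1 + 1) :=
    orderOf_eq_prime_pow (p := 2) (n := 1) (by rw [pow_one, hy1sq]; exact hz1)
      (by rw [show (2 : ℕ) ^ (1 + 1) = 2 * 2 by norm_num, pow_mul, hy1sq, hz2])
  obtain ⟨n, hn⟩ := hconj (zpowers x1) (zpowers y1) (zpowers_le.mpr hx1S) (zpowers_le.mpr hy1S)
    (by rw [Nat.card_zpowers, hox]; norm_num) (by rw [Nat.card_zpowers, hoy]; norm_num)
  have hy1mem : y1 ∈ (zpowers x1).map (MulAut.conj n).toMonoidHom := by
    rw [← hn]; exact mem_zpowers y1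
  obtain ⟨a, haA, hay⟩ := Subgroup.mem_map.mp hy1mem
  have hay' : n * a * n⁻¹ = y1 := by simpa using hay
  -- `a = w * x1` with `w ∈ {1, z}`
  have haw : ∃ w : G, (w = 1 ∨ w = z) ∧ a = w * x1 := by
    obtain ⟨k, rfl⟩ := mem_zpowers_iff.mp haA
    have hx1' : x1 ^ (2 : ℤ) = z := by
      rw [show (2 : ℤ) = ((2 : ℕ) : ℤ) by norm_num, zpow_natCast]; exact hx1sq
    rcases Int.even_or_odd' k with ⟨j, rfl | rfl⟩
    · exfalso
      have h3 : (x1 ^ (2 * j)) ^ 2 = 1 := by
        rw [zpow_mul, hx1']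
        rcases mem_zpowers_invol z hz2 (z ^ j) (zpow_mem_zpowers z j) with h | h
        · rw [h, one_pow]
        · rw [h, hz2]
      have h4 : y1 ^ 2 = n * (x1 ^ (2 * j)) ^ 2 * n⁻¹ := by
        rw [← hay', pow_two, pow_two]; group
      rw [h3, mul_one, mul_inv_cancel, hy1sq] at h4
      exact hz1 h4
    · refine ⟨z ^ j, mem_zpowers_invol z hz2 (z ^ j) (zpow_mem_zpowers z j), ?_⟩
      rw [zpow_add, zpow_mul, hx1', zpow_one]
  obtain ⟨w, hw, rfl⟩ := haw
  have hw2 : w * w = 1 := by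
    rcases hw with rfl | rfl
    · simp
    · rw [← pow_two]; exact hz2
  have hwx1 : Commute w x1 := by
    rcases hw with rfl | rfl
    · exact Commute.one_left _
    · exact hx1z.symm
  have hasq : (w * x1) ^ 2 = z := by
    rw [pow_two, mul_assoc, ← mul_assoc x1, ← hwx1.eq, mul_assoc, ← mul_assoc, hw2, one_mul,
      ← pow_two, hx1sq]
  have hnz : Commute n z := by
    have h4 : y1 ^ 2 = n * (w * x1) ^ 2 * n⁻¹ := by
      rw [← hay', pow_two, pow_two]; group
    rw [hasq, hy1sq] at h4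
    have h5 := congrArg (fun t => t * n) h4
    have h6 : n * z = z * n := by simpa [mul_assoc] using h5.symm
    exact h6
  have hnw : Commute n w := by
    rcases hw with rfl | rfl
    · exact Commute.one_right _
    · exact hnz
  have hh2w : Commute h2 w := by
    rcases hw with rfl | rfl
    · exact Commute.one_right _
    · exact hh2
  have hyw : Commute y w := by
    rcases hw with rfl | rfl
    · exact Commute.one_right _
    · exact hyz
  have hwinv : w⁻¹ = w := by rw [inv_eq_iff_mul_eq_one]; exact hw2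
  refine ⟨h2 * n * h1⁻¹, ?_, ?_⟩
  · exact (hh2.mul_left hnz).mul_left hh1.inv_left
  · have hkey : h2 * n * h1⁻¹ * x * (h2 * n * h1⁻¹)⁻¹ = y * w := by
      have e1 : h2 * n * h1⁻¹ * x * (h2 * n * h1⁻¹)⁻¹ = h2 * (n * x1 * n⁻¹) * h2⁻¹ := by
        rw [hx1def]; group
      have e2 : n * x1 * n⁻¹ = w * y1 := by
        have : n * x1 * n⁻¹ = (n * w⁻¹ * n⁻¹) * (n * (w * x1) * n⁻¹) := by group
        rw [this, hay', hwinv, hnw.eq, mul_inv_cancel_right]
      have e3 : h2 * (w * y1) * h2⁻¹ = w * y := by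
        have : h2 * (w * y1) * h2⁻¹ = (h2 * w * h2⁻¹) * (h2 * y1 * h2⁻¹) := by group
        rw [this, hh2w.eq, mul_inv_cancel_right, hy1def]; group
      rw [e1, e2, e3, hyw.eq]
    rcases hw with rfl | rfl
    · left; rw [hkey, mul_one]
    · right; exact hkey

theorem q8_quotient_klein_aux
    (hconj : ∀ A B : Subgroup G, A ≤ S → B ≤ S → Nat.card A = 4 → Nat.card B = 4 →
      ∃ n : G, B = A.map (MulAut.conj n).toMonoidHom)
    (C : Subgroup G) (hC : C = Subgroup.centralizer ({z} : Set G))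
    (zH : C) (hzH : (zH : G) = z) (N : Subgroup C) [N.Normal] (hN : N = Subgroup.zpowers zH) :
    ∃ P : Sylow 2 (C ⧸ N), IsKleinFour (P : Subgroup (C ⧸ N)) ∧
      ∀ s t : C ⧸ N, orderOf s = 2 → orderOf t = 2 → IsConj s t := by
  classical
  haveI : Fact (Nat.Prime 2) := ⟨Nat.prime_two⟩
  have hz2 : z ^ 2 = 1 := by rw [← hz]; exact pow_orderOf_eq_one z
  have hz1 : z ≠ 1 := by
    intro h; rw [h, orderOf_one] at hz; norm_num at hz
  have hzH2 : zH ^ 2 = 1 := Subtype.ext (by simp [hzH, hz2])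
  have hNmem : ∀ a : C, a ∈ N → a = 1 ∨ a = zH := by
    intro a ha; rw [hN] at ha; exact mem_zpowers_invol zH hzH2 a ha
  have hzHN : zH ∈ N := by rw [hN]; exact mem_zpowers zH
  have hcomm : ∀ a : C, Commute (a : G) z := by
    intro a
    have ha : (a : G) ∈ Subgroup.centralizer ({z} : Set G) := hC ▸ a.2
    have := Subgroup.mem_centralizer_iff.mp ha z (Set.mem_singleton z)
    exact this.symm
  -- `2`-elements of the quotient square to `1`
  have hsq : ∀ (p : C ⧸ N) (k : ℕ), p ^ 2 ^ k = 1 → p ^ 2 = 1 := by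
    intro p k hp
    obtain ⟨a, rfl⟩ := QuotientGroup.mk_surjective p
    have h1 : a ^ 2 ^ k ∈ N := by
      rw [← QuotientGroup.eq_one_iff]; simpa using hp
    have h2 : (a : G) ^ 2 ^ (k + 1) = 1 := by
      rcases hNmem _ h1 with h | h
      · have h3 : (a : G) ^ 2 ^ k = 1 := by simpa using congrArg Subtype.val h
        rw [pow_succ, pow_mul, h3, one_pow]
      · have h3 : (a : G) ^ 2 ^ k = z := by simpa [hzH] using congrArg Subtype.val h
        rw [pow_succ, pow_mul, h3, hz2]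
    rcases sq_mem S e z hzS hz (a : G) (hcomm a) (k + 1) h2 with h | h
    · have : a ^ 2 = 1 := Subtype.ext (by simpa using h)
      rw [← QuotientGroup.mk_pow, this]; rfl
    · have : a ^ 2 = zH := Subtype.ext (by simpa [hzH] using h)
      rw [← QuotientGroup.mk_pow, this]; exact (QuotientGroup.eq_one_iff zH).mpr hzHN
  -- cardinalities
  have h8 : Nat.card (S : Subgroup G) = 8 := by
    rw [Nat.card_congr e.toEquiv, Nat.card_eq_fintype_card, QuaternionGroup.card]
  have hG3 : (Nat.card G).factorization 2 = 3 := by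
    have h1 := S.card_eq_multiplicity
    rw [h8] at h1
    have h3 : 2 ^ (Nat.card G).factorization 2 = 2 ^ 3 := by rw [← h1]; norm_num
    exact Nat.pow_right_injective (le_refl 2) h3
  have hSC : (S : Subgroup G) ≤ C := by
    intro x hx
    rw [hC, Subgroup.mem_centralizer_iff]
    intro y hy
    rw [Set.mem_singleton_iff] at hy
    rw [hy]
    exact ((s_facts S e z hzS hz x hx).2.1).symm
  have h8C : 8 ∣ Nat.card C := by
    rw [← h8]; exact Subgroup.card_dvd_of_le hSC
  have hCG : Nat.card C ∣ Nat.card G := Subgroup.card_subgroup_dvd_card _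
  have hNcard : Nat.card N = 2 := by
    rw [hN, Nat.card_zpowers, ← Subgroup.orderOf_coe, hzH, hz]
  have hCQ : Nat.card C = Nat.card (C ⧸ N) * 2 := by
    rw [Subgroup.card_eq_card_quotient_mul_card_subgroup N, hNcard]
  obtain ⟨P⟩ : Nonempty (Sylow 2 (C ⧸ N)) := inferInstance
  have hPcard : Nat.card (P : Subgroup (C ⧸ N)) = 4 := by
    have h1 := P.card_eq_multiplicity
    have hq0 : Nat.card (C ⧸ N) ≠ 0 := Nat.card_pos.ne'
    have hG0 : Nat.card G ≠ 0 := Nat.card_pos.ne'
    have h4 : 2 ^ 2 ∣ Nat.card (C ⧸ N) := by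
      have h5 : 4 * 2 ∣ Nat.card (C ⧸ N) * 2 := by rw [← hCQ]; exact h8C
      exact Nat.dvd_of_mul_dvd_mul_right (by norm_num) h5
    have h5 : ¬ 2 ^ 3 ∣ Nat.card (C ⧸ N) := by
      intro h6
      have h7 : 2 ^ 4 ∣ Nat.card G := by
        refine dvd_trans ?_ hCG
        rw [hCQ]
        have : (2 : ℕ) ^ 4 = 2 ^ 3 * 2 := by norm_num
        rw [this]; exact Nat.mul_dvd_mul_right h6 2
      have := (Nat.Prime.pow_dvd_iff_le_factorization Nat.prime_two hG0).mp h7
      omega
    have h6 := (Nat.Prime.pow_dvd_iff_le_factorization Nat.prime_two hq0).mp h4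
    have h7 : ¬ 3 ≤ (Nat.card (C ⧸ N)).factorization 2 := fun h =>
      h5 ((Nat.Prime.pow_dvd_iff_le_factorization Nat.prime_two hq0).mpr h)
    have h8 : (Nat.card (C ⧸ N)).factorization 2 = 2 := by omega
    rw [h1, h8]; norm_num
  refine ⟨P, ⟨hPcard, ?_⟩, ?_⟩
  · have hdvd : Monoid.exponent (P : Subgroup (C ⧸ N)) ∣ 2 := by
      apply Monoid.exponent_dvd_of_forall_pow_eq_one
      intro p
      obtain ⟨k, hk⟩ := P.isPGroup' p
      have h1 : (p : C ⧸ N) ^ 2 ^ k = 1 := by
        have := congrArg Subtype.val hk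
        simpa using this
      have := hsq (p : C ⧸ N) k h1
      exact Subtype.ext (by simpa using this)
    have hne : Monoid.exponent (P : Subgroup (C ⧸ N)) ≠ 1 := by
      intro h
      haveI := Monoid.exp_eq_one_iff.mp h
      have : Nat.card (P : Subgroup (C ⧸ N)) = 1 := Nat.card_unique
      omega
    rcases (Nat.dvd_prime Nat.prime_two).mp hdvd with h | h
    · exact absurd h hne
    · exact h
  · have key : ∀ a : C, orderOf (a : C ⧸ N) = 2 → (a : G) ^ 2 = z := by
      intro a ha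
      have h1 : (a : C ⧸ N) ^ 2 = 1 := by rw [← ha]; exact pow_orderOf_eq_one _
      have h2 : a ^ 2 ∈ N := by rw [← QuotientGroup.eq_one_iff]; simpa using h1
      have h3 : a ∉ N := by
        intro h
        have := (QuotientGroup.eq_one_iff a).mpr h
        rw [this, orderOf_one] at ha; norm_num at ha
      rcases hNmem _ h2 with h | h
      · exfalso
        have h4 : (a : G) ^ 2 = 1 := by simpa using congrArg Subtype.val h
        have h5 : (a : G) ≠ 1 := by
          intro h6; apply h3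
          have : a = 1 := Subtype.ext h6
          rw [this]; exact one_mem _
        have h6 := invol_eq S e z hzS hz (a : G) (hcomm a) h4 h5
        apply h3
        have : a = zH := Subtype.ext (by rw [h6, hzH])
        rw [this]; exact hzHN
      · have := congrArg Subtype.val h
        simpa [hzH] using this
    intro s t hs ht
    obtain ⟨a, rfl⟩ := QuotientGroup.mk_surjective s
    obtain ⟨b, rfl⟩ := QuotientGroup.mk_surjective t
    obtain ⟨g, hgz, hg⟩ := conj_sq S e z hzS hz hconj (a : G) (b : G) (key a hs) (key b ht)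
    have hgC : g ∈ C := by
      rw [hC, Subgroup.mem_centralizer_iff]
      intro y hy
      rw [Set.mem_singleton_iff] at hy
      rw [hy]; exact hgz.eq.symm
    rw [isConj_iff]
    refine ⟨((⟨g, hgC⟩ : C) : C ⧸ N), ?_⟩
    rcases hg with hg | hg
    · have h1 : (⟨g, hgC⟩ : C) * a * (⟨g, hgC⟩ : C)⁻¹ = b := Subtype.ext (by simpa using hg)
      rw [← h1]; simp
    · have h1 : (⟨g, hgC⟩ : C) * a * (⟨g, hgC⟩ : C)⁻¹ = b * zH :=
        Subtype.ext (by simpa [hzH] using hg)
      have h2 : ((b * zH : C) : C ⧸ N) = (b : C ⧸ N) := by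
        rw [QuotientGroup.mk_mul, (QuotientGroup.eq_one_iff zH).mpr hzHN, mul_one]
      rw [← h2, ← h1]; simp

end

/-- **GT1.** `G` with Sylow `2`-subgroup `S ≃ Q8` all of whose subgroups of order `4` are
conjugate, `z` the involution of `S`: in `C(z)/⟨z⟩` the Sylow `2`-subgroups are Klein four-groups and
all involutions are conjugate. -/
theorem q8_quotient_klein {G : Type u} [Group G] [Finite G] (S : Sylow 2 G)
    (e : (S : Subgroup G) ≃* QuaternionGroup 2)
    (hconj : ∀ A B : Subgroup G, A ≤ S → B ≤ S → Nat.card A = 4 → Nat.card B = 4 →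
      ∃ n : G, B = A.map (MulAut.conj n).toMonoidHom)
    (z : G) (hzS : z ∈ (S : Subgroup G)) (hz : orderOf z = 2)
    (zH : Subgroup.centralizer ({z} : Set G)) (hzH : (zH : G) = z)
    (N : Subgroup (Subgroup.centralizer ({z} : Set G))) [N.Normal]
    (hN : N = Subgroup.zpowers zH) :
    ∃ P : Sylow 2 ((Subgroup.centralizer ({z} : Set G)) ⧸ N),
      IsKleinFour (P : Subgroup ((Subgroup.centralizer ({z} : Set G)) ⧸ N)) ∧
      ∀ s t : (Subgroup.centralizer ({z} : Set G)) ⧸ N, orderOf s = 2 → orderOf t = 2 →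
        IsConj s t :=
  q8_quotient_klein_aux S e z hzS hz hconj _ rfl zH hzH N hN

end Cfsg.Agent.Helper94.BSQ8GT
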