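import Mathlib
import Cfsg.Agent.Lib.Helper7.M11UDefs

set_option autoImplicit false

/-!
# M11U (U3) (helper7 server, S0420): the extra point of a 4-set is involutive.
-/

namespace Cfsg.Agent.Helper94.M11U

open Subgroup Cfsg.Agent.Helper7.M11U
open scoped Pointwise

section U

variable {α : Type*} [Fintype α] [DecidableEq α]

/-- the embedding `Fin 4 ↪ α` given by four distinct points -/
def u3_emb (a b c d : α) (hab : a ≠ b) (hac : a ≠ c) (had : a ≠ d) (hbc : b ≠ c) (hbd : b ≠ d)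
    (hcd : c ≠ d) : Fin 4 ↪ α :=
  ⟨![a, b, c, d], by
    intro i j hij
    fin_cases i <;> fin_cases j <;> first | rfl | (exfalso; simp at hij; first | exact hab hij | exact hac hij | exact had hij | exact hbc hij | exact hbd hij | exact hcd hij | exact hab hij.symm | exact hac hij.symm | exact had hij.symm | exact hbc hij.symm | exact hbd hij.symm | exact hcd hij.symm)⟩

theorem u3_eq_one {K : Subgroup (Equiv.Perm α)} (hK : Sharp4 K) (x : Fin 4 ↪ α) (g : Equiv.Perm α)
    (hg : g ∈ K) (hfix : ∀ i, g (x i) = x i) : g = 1 := by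
  have h1 : (⟨g, hg⟩ : K) ∈ MulAction.stabilizer K x := by
    rw [MulAction.mem_stabilizer_iff]
    ext i
    exact hfix i
  rw [hK.2 x, Subgroup.mem_bot] at h1
  exact congrArg Subtype.val h1

theorem u3_exists {K : Subgroup (Equiv.Perm α)} (hK : Sharp4 K) (x y : Fin 4 ↪ α) :
    ∃ g ∈ K, ∀ i, g (x i) = y i := by
  have := hK.1
  obtain ⟨g, hg⟩ := MulAction.exists_smul_eq K x y
  refine ⟨g.1, g.2, fun i => ?_⟩
  have := congrArg (fun f : Fin 4 ↪ α => f i) hg
  exact this

theorem u3_image_eq_iff (g : Equiv.Perm α) (S : Finset α) :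
    S.image (g : α → α) = S ↔ ∀ x ∈ S, g x ∈ S := by
  constructor
  · intro h x hx
    rw [← h]
    exact Finset.mem_image_of_mem _ hx
  · intro h
    apply Finset.eq_of_subset_of_card_le (Finset.image_subset_iff.mpr h)
    rw [Finset.card_image_of_injective _ g.injective]

/-- (U3) the extra point is involutive. -/
theorem fixed_involutive (hα : Fintype.card α = 11) (K : Subgroup (Equiv.Perm α)) (hK : Sharp4 K)
    (Y : Finset α) (hY : Y.card = 3) (d e : α) (hd : d ∉ Y) (he : e ∉ Y) (hde : d ≠ e)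
    (h : ∀ g ∈ K, (insert d Y).image (g : α → α) = insert d Y → g e = e) :
    ∀ g ∈ K, (insert e Y).image (g : α → α) = insert e Y → g d = d := by
  obtain ⟨y1, y2, y3, h12, h13, h23, hYeq⟩ := Finset.card_eq_three.mp hY
  have hy1 : y1 ∈ Y := by rw [hYeq]; simp
  have hy2 : y2 ∈ Y := by rw [hYeq]; simp
  have hy3 : y3 ∈ Y := by rw [hYeq]; simp
  have hmemY : ∀ y ∈ Y, y = y1 ∨ y = y2 ∨ y = y3 := by
    intro y hy; rw [hYeq] at hy; simpa using hy
  have hd1 : y1 ≠ d := fun hh => hd (hh ▸ hy1)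
  have hd2 : y2 ≠ d := fun hh => hd (hh ▸ hy2)
  have hd3 : y3 ≠ d := fun hh => hd (hh ▸ hy3)
  have he1 : y1 ≠ e := fun hh => he (hh ▸ hy1)
  have he2 : y2 ≠ e := fun hh => he (hh ▸ hy2)
  have he3 : y3 ≠ e := fun hh => he (hh ▸ hy3)
  -- the element `q` of the pointwise stabiliser of `Y` with `q d = e`
  obtain ⟨q, hqK, hq⟩ := u3_exists hK (u3_emb y1 y2 y3 d h12 h13 hd1 h23 hd2 hd3)
    (u3_emb y1 y2 y3 e h12 h13 he1 h23 he2 he3)
  have hq1 : q y1 = y1 := hq 0
  have hq2 : q y2 = y2 := hq 1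
  have hq3 : q y3 = y3 := hq 2
  have hqd : q d = e := hq 3
  have hqY : ∀ y ∈ Y, q y = y := by
    intro y hy
    rcases hmemY y hy with rfl | rfl | rfl <;> assumption
  have hqi1 : q⁻¹ y1 = y1 := by rw [Equiv.Perm.inv_eq_iff_eq, hq1]
  have hqi2 : q⁻¹ y2 = y2 := by rw [Equiv.Perm.inv_eq_iff_eq, hq2]
  have hqi3 : q⁻¹ y3 = y3 := by rw [Equiv.Perm.inv_eq_iff_eq, hq3]
  have hqie : q⁻¹ e = d := by rw [Equiv.Perm.inv_eq_iff_eq, hqd]
  have hqiY : ∀ y ∈ Y, q⁻¹ y = y := by
    intro y hy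
    rw [Equiv.Perm.inv_eq_iff_eq, hqY y hy]
  -- the "transposition" `t`
  obtain ⟨t, htK, ht⟩ := u3_exists hK (u3_emb y1 y2 y3 d h12 h13 hd1 h23 hd2 hd3)
    (u3_emb y2 y1 y3 d h12.symm h23 hd2 h13 hd1 hd3)
  have ht1 : t y1 = y2 := ht 0
  have ht2 : t y2 = y1 := ht 1
  have ht3 : t y3 = y3 := ht 2
  have htd : t d = d := ht 3
  have hte : t e = e := by
    apply h t htK
    rw [u3_image_eq_iff]
    intro x hx
    rw [Finset.mem_insert] at hx ⊢
    rcases hx with rfl | hx
    · left; exact htd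
    · right
      rcases hmemY x hx with rfl | rfl | rfl
      · rw [ht1]; exact hy2
      · rw [ht2]; exact hy1
      · rw [ht3]; exact hy3
  have hti1 : t⁻¹ y1 = y2 := by rw [Equiv.Perm.inv_eq_iff_eq, ht2]
  have hti2 : t⁻¹ y2 = y1 := by rw [Equiv.Perm.inv_eq_iff_eq, ht1]
  have hti3 : t⁻¹ y3 = y3 := by rw [Equiv.Perm.inv_eq_iff_eq, ht3]
  have htie : t⁻¹ e = e := by rw [Equiv.Perm.inv_eq_iff_eq, hte]
  -- `q` and `t` commute
  have hcomm : q⁻¹ * t⁻¹ * q * t = 1 := by
    apply u3_eq_one hK (u3_emb y1 y2 y3 d h12 h13 hd1 h23 hd2 hd3) _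
      (K.mul_mem (K.mul_mem (K.mul_mem (K.inv_mem hqK) (K.inv_mem htK)) hqK) htK)
    intro i
    fin_cases i
    · show q⁻¹ (t⁻¹ (q (t y1))) = y1
      rw [ht1, hq2, hti2, hqi1]
    · show q⁻¹ (t⁻¹ (q (t y2))) = y2
      rw [ht2, hq1, hti1, hqi2]
    · show q⁻¹ (t⁻¹ (q (t y3))) = y3
      rw [ht3, hq3, hti3, hqi3]
    · show q⁻¹ (t⁻¹ (q (t d))) = d
      rw [htd, hqd, htie, hqie]
  have hqt : t * q = q * t := by
    have h1 : (t * q)⁻¹ * (q * t) = 1 := by
      rw [← hcomm]; group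
    exact inv_mul_eq_one.mp h1
  have htqe : t (q e) = q e := by
    have h1 : (t * q) e = (q * t) e := by rw [hqt]
    have h2 : t (q e) = q (t e) := h1
    rw [h2, hte]
  -- `q e = d`
  have hqe : q e = d := by
    by_contra hne
    have h3 : y3 ≠ q e := by
      intro hh
      have : q y3 = q e := by rw [hq3]; exact hh
      exact he3 (q.injective this)
    have h4 : e ≠ q e := by
      intro hh
      have : q d = q e := by rw [hqd]; exact hh
      exact hde (q.injective this)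
    have ht1' : t = 1 := by
      apply u3_eq_one hK (u3_emb y3 d e (q e) hd3 he3 h3 hde (Ne.symm hne) h4) t htK
      intro i
      fin_cases i
      · exact ht3
      · exact htd
      · exact hte
      · exact htqe
    rw [ht1'] at ht1
    exact h12 ht1
  -- conclusion
  intro g hgK hg
  rw [u3_image_eq_iff] at hg
  have hg' : (q⁻¹ * g * q) e = e := by
    apply h _ (K.mul_mem (K.mul_mem (K.inv_mem hqK) hgK) hqK)
    rw [u3_image_eq_iff]
    intro x hx
    have hqx : q x ∈ insert e Y := by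
      rw [Finset.mem_insert] at hx ⊢
      rcases hx with rfl | hx
      · left; exact hqd
      · right; rw [hqY x hx]; exact hx
    have hgx := hg _ hqx
    show q⁻¹ (g (q x)) ∈ insert d Y
    rw [Finset.mem_insert] at hgx ⊢
    rcases hgx with h1 | h1
    · left; rw [h1]; exact hqie
    · right; rw [hqiY _ h1]; exact h1
  have h5 : q⁻¹ (g (q e)) = e := hg'
  rw [Equiv.Perm.inv_eq_iff_eq, hqe] at h5
  exact h5

end U

end Cfsg.Agent.Helper94.M11U
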