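import Mathlib
import Cfsg.Prelude.Def_RootSubgroups
import Cfsg.Agent.Lib.Helper83.RootLemmas3

set_option autoImplicit false

namespace Cfsg.Agent.Helper94

open Cfsg Cfsg.Agent.Helper83
open scoped commutatorElement

variable {G : Type*} [Group G]

/-! ### General group lemmas -/

/-- elements of `A ⊔ C` when `A` and `C` commute elementwise -/
theorem mem_sup_of_commute {A C : Subgroup G} (h : ∀ a ∈ A, ∀ c ∈ C, a * c = c * a) {x : G} :
    x ∈ A ⊔ C ↔ ∃ a ∈ A, ∃ c ∈ C, x = a * c := by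
  constructor
  · intro hx
    let P : Subgroup G :=
      { carrier := {x | ∃ a ∈ A, ∃ c ∈ C, x = a * c}
        one_mem' := ⟨1, A.one_mem, 1, C.one_mem, by simp⟩
        mul_mem' := by
          rintro x y ⟨a, ha, c, hc, rfl⟩ ⟨a', ha', c', hc', rfl⟩
          refine ⟨a * a', A.mul_mem ha ha', c * c', C.mul_mem hc hc', ?_⟩
          have := h a' ha' c hc
          calc a * c * (a' * c') = a * (c * a') * c' := by group
            _ = a * (a' * c) * c' := by rw [this]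
            _ = a * a' * (c * c') := by group
        inv_mem' := by
          rintro x ⟨a, ha, c, hc, rfl⟩
          refine ⟨a⁻¹, A.inv_mem ha, c⁻¹, C.inv_mem hc, ?_⟩
          have := h a⁻¹ (A.inv_mem ha) c⁻¹ (C.inv_mem hc)
          rw [mul_inv_rev, this] }
    have h1 : A ⊔ C ≤ P := by
      apply sup_le
      · intro a ha; exact ⟨a, ha, 1, C.one_mem, by simp⟩
      · intro c hc; exact ⟨1, A.one_mem, c, hc, by simp⟩
    exact h1 hx
  · rintro ⟨a, ha, c, hc, rfl⟩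
    exact Subgroup.mul_mem _ (Subgroup.mem_sup_left ha) (Subgroup.mem_sup_right hc)

/-- conjugating a centralizer -/
theorem conjBy_centralizer (U : Subgroup G) (g : G) :
    conjBy (Subgroup.centralizer (U : Set G)) g = Subgroup.centralizer ((conjBy U g : Subgroup G) : Set G) := by
  ext x
  rw [mem_conjBy, Subgroup.mem_centralizer_iff, Subgroup.mem_centralizer_iff]
  constructor
  · intro h y hy
    have hy' : g⁻¹ * y * g ∈ U := mem_conjBy.1 hy
    have := h _ hy'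
    have e : g * (g⁻¹ * y * g * (g⁻¹ * x * g)) * g⁻¹ = g * (g⁻¹ * x * g * (g⁻¹ * y * g)) * g⁻¹ := by
      rw [this]
    simpa [mul_assoc] using e
  · intro h u hu
    have hy : g * u * g⁻¹ ∈ conjBy U g := conj_mem_conjBy hu
    have := h _ hy
    have e : g⁻¹ * (g * u * g⁻¹ * x) * g = g⁻¹ * (x * (g * u * g⁻¹)) * g := by rw [this]
    simpa [mul_assoc] using e

theorem commute_of_le_centralizer {A B : Subgroup G} (h : A ≤ Subgroup.centralizer (B : Set G))
    {a b : G} (ha : a ∈ A) (hb : b ∈ B) : a * b = b * a := by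
  have := h ha
  rw [Subgroup.mem_centralizer_iff] at this
  exact (this b hb).symm

theorem le_centralizer_of_commute {A B : Subgroup G} (h : ∀ a ∈ A, ∀ b ∈ B, a * b = b * a) :
    A ≤ Subgroup.centralizer (B : Set G) := by
  intro a ha
  rw [Subgroup.mem_centralizer_iff]
  intro b hb
  exact (h a ha b hb).symm


theorem commutatorElement_mem_commutator' {A B : Subgroup G} {a b : G} (ha : a ∈ A) (hb : b ∈ B) :
    a * b * a⁻¹ * b⁻¹ ∈ ⁅A, B⁆ := by
  have := Subgroup.commutator_mem_commutator ha hb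
  rwa [commutatorElement_def] at this

/-- `X` normalizes `⁅X, Y⁆` -/
theorem conjBy_commutator_le_left {X Y : Subgroup G} {g : G} (hg : g ∈ X) :
    conjBy ⁅X, Y⁆ g ≤ ⁅X, Y⁆ := by
  rw [Subgroup.map_le_iff_le_comap, Subgroup.commutator_le]
  intro x hx y hy
  rw [Subgroup.mem_comap]
  have e : (MulAut.conj g).toMonoidHom ⁅x, y⁆ = (g * x * y * (g * x)⁻¹ * y⁻¹) * (g * y * g⁻¹ * y⁻¹)⁻¹ := by
    simp only [MulEquiv.toMonoidHom_eq_coe, MonoidHom.coe_coe, MulAut.conj_apply,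
      commutatorElement_def]
    group
  rw [e]
  refine Subgroup.mul_mem _ ?_ (Subgroup.inv_mem _ (commutatorElement_mem_commutator' hg hy))
  have := commutatorElement_mem_commutator' (Subgroup.mul_mem _ hg hx) hy
  simpa [mul_assoc] using this

theorem conjBy_commutator_eq_of_mem_sup {X Y : Subgroup G} {g : G} (hg : g ∈ X ⊔ Y) :
    conjBy ⁅X, Y⁆ g = ⁅X, Y⁆ := by
  rw [conjBy_eq_self_iff]
  have h1 : ∀ X Y : Subgroup G, X ≤ Subgroup.normalizer ((⁅X, Y⁆ : Subgroup G) : Set G) := by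
    intro X Y g hg
    rw [← conjBy_eq_self_iff]
    apply le_antisymm (conjBy_commutator_le_left hg)
    have := conjBy_mono (conjBy_commutator_le_left (Y := Y) (X.inv_mem hg)) g
    rwa [conjBy_conjBy_inv] at this
  have h2 : Y ≤ Subgroup.normalizer ((⁅X, Y⁆ : Subgroup G) : Set G) := by
    rw [Subgroup.commutator_comm]; exact h1 Y X
  exact (sup_le (h1 X Y) h2) hg

theorem commutator_le_sup' (X Y : Subgroup G) : ⁅X, Y⁆ ≤ X ⊔ Y := by
  rw [Subgroup.commutator_le]
  intro x hx y hy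
  rw [commutatorElement_def]
  exact Subgroup.mul_mem _ (Subgroup.mul_mem _ (Subgroup.mul_mem _ (Subgroup.mem_sup_left hx)
    (Subgroup.mem_sup_right hy)) (Subgroup.mem_sup_left (X.inv_mem hx)))
    (Subgroup.mem_sup_right (Y.inv_mem hy))

/-- auxiliary: if `⁅M, X⁆` is central in `M ⊔ X` and `X` is abelian then the commutators of
`g ∈ M ⊔ X` with `h ∈ X` lie in `⁅M, X⁆` -/
theorem commutator_mem_of_central {M X : Subgroup G} (hX : IsMulCommutative X)
    (hc : ∀ c ∈ ⁅M, X⁆, ∀ g ∈ M ⊔ X, c * g = g * c) {h : G} (hh : h ∈ X) :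
    ∀ g ∈ M ⊔ X, g * h * g⁻¹ * h⁻¹ ∈ ⁅M, X⁆ := by
  let U : Subgroup G :=
    { carrier := {g | g ∈ M ⊔ X ∧ g * h * g⁻¹ * h⁻¹ ∈ ⁅M, X⁆}
      one_mem' := ⟨Subgroup.one_mem _, by simp⟩
      mul_mem' := by
        rintro g₁ g₂ ⟨h1, k1⟩ ⟨h2, k2⟩
        refine ⟨Subgroup.mul_mem _ h1 h2, ?_⟩
        have e := hc _ k2 _ h1
        have : g₁ * g₂ * h * (g₁ * g₂)⁻¹ * h⁻¹ =
            (g₁ * (g₂ * h * g₂⁻¹ * h⁻¹)) * h * g₁⁻¹ * h⁻¹ := by group
        rw [this, ← e]
        have : g₂ * h * g₂⁻¹ * h⁻¹ * g₁ * h * g₁⁻¹ * h⁻¹ =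
            (g₂ * h * g₂⁻¹ * h⁻¹) * (g₁ * h * g₁⁻¹ * h⁻¹) := by group
        rw [this]
        exact Subgroup.mul_mem _ k2 k1
      inv_mem' := by
        rintro g ⟨h1, k1⟩
        refine ⟨Subgroup.inv_mem _ h1, ?_⟩
        have e := hc _ (Subgroup.inv_mem _ k1) _ h1
        have : g⁻¹ * h * g⁻¹⁻¹ * h⁻¹ = g⁻¹ * ((g * h * g⁻¹ * h⁻¹)⁻¹ * g) := by group
        rw [this, e]
        have : g⁻¹ * (g * (g * h * g⁻¹ * h⁻¹)⁻¹) = (g * h * g⁻¹ * h⁻¹)⁻¹ := by group
        rw [this]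
        exact Subgroup.inv_mem _ k1 }
  have h1 : M ⊔ X ≤ U := by
    apply sup_le
    · intro m hm
      exact ⟨Subgroup.mem_sup_left hm, commutatorElement_mem_commutator' hm hh⟩
    · intro x hx
      refine ⟨Subgroup.mem_sup_right hx, ?_⟩
      have := mul_comm_of_isMulCommutative hX hx hh
      rw [this, mul_inv_cancel_right, mul_inv_cancel]
      exact Subgroup.one_mem _
  intro g hg
  exact (h1 hg).2

variable {S : Set (Subgroup G)}

/-- For a rank one pair in a set of abstract root subgroups the commutator is not a member. -/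
theorem rankOne_commutator_not_mem (hS : IsRootSubgroupSet S) {X Y : Subgroup G} (hX : X ∈ S)
    (hY : Y ∈ S) (h : IsRankOnePair X Y) : ⁅X, Y⁆ ∉ S := by
  intro hM
  obtain ⟨a, ha, ha1⟩ := exists_mem_ne_one_of_ne_bot (rankOne_ne_bot_left h)
  rcases rankOne_dichotomy h ⁅X, Y⁆ (commutator_le_sup' X Y)
    (fun x hx => conjBy_commutator_eq_of_mem_sup hx) with h1 | h1
  · rcases hS.pair _ hM X hX with h2 | h2 | h2
    · -- `⁅X,Y⁆` commutes with `X`
      rw [Subgroup.commutator_eq_bot_iff_le_centralizer] at h2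
      have h3 : ⁅X, Y⁆ ⊔ X ≤ Subgroup.centralizer (X : Set G) :=
        sup_le h2 (le_centralizer_self_of_comm (hS.commutative X hX))
      rw [h1] at h3
      exact rankOne_not_le_centralizer (RankOnePair_symm h) (le_sup_right.trans h3)
    · -- rank one pair `(⁅X,Y⁆, X)`
      have h3 := rankOne_inf_normalizer (RankOnePair_symm h2)
      have h4 : a ∈ X ⊓ Subgroup.normalizer ((⁅X, Y⁆ : Subgroup G) : Set G) :=
        ⟨ha, conjBy_eq_self_iff.1 (conjBy_commutator_eq_of_mem_sup (Subgroup.mem_sup_left ha))⟩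
      rw [h3, Subgroup.mem_bot] at h4
      exact ha1 h4
    · -- commutator case
      have hcen := h2.2.1
      have hK : ⁅⁅X, Y⁆, X⁆ ≤ Subgroup.centralizer (Y : Set G) := by
        intro k hk
        rw [Subgroup.mem_centralizer_iff]
        intro y hy
        have hy' : y ∈ ⁅X, Y⁆ ⊔ X := by rw [h1]; exact Subgroup.mem_sup_right hy
        exact (hcen k hk y hy').symm
      refine rankOne_commutator_kill h (hS.commutative Y hY) hK ha ha1 ?_
      intro x hx
      rw [mem_conjBy, inv_inv] at hx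
      have hy' : (a * x * a⁻¹)⁻¹ ∈ ⁅X, Y⁆ ⊔ X := by
        rw [h1]; exact Subgroup.mem_sup_right (Subgroup.inv_mem _ hx)
      have h5 := commutator_mem_of_central (hS.commutative X hX) hcen (X.inv_mem ha) _ hy'
      have e : x = (a * x * a⁻¹) * ((a * x * a⁻¹)⁻¹ * a⁻¹ * (a * x * a⁻¹)⁻¹⁻¹ * a⁻¹⁻¹) := by group
      rw [e]
      exact Subgroup.mul_mem _ (Subgroup.mem_sup_left hx) (Subgroup.mem_sup_right h5)
  · -- `⁅X,Y⁆` central in `X ⊔ Y`
    have hF : ⁅X, Y⁆ ≤ Subgroup.centralizer (Y : Set G) :=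
      h1.trans (Subgroup.centralizer_le (by
        intro y hy; exact Subgroup.mem_sup_right hy))
    exact rankOne_commutator_kill h (hS.commutative Y hY) hF ha ha1
      (conjBy_le_sup_commutator (X.inv_mem ha))


/-! ### The commutator case -/

/-- In the commutator case, for `a ≠ 1` every element of `⁅A, B⁆` is a commutator `a b a⁻¹ b⁻¹`. -/
theorem commutatorCase_surj_right {A B : Subgroup G} (h : RootCommutatorCase S A B) {a : G}
    (ha : a ∈ A) (ha1 : a ≠ 1) : ∀ c ∈ ⁅A, B⁆, ∃ b ∈ B, a * b * a⁻¹ * b⁻¹ = c := by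
  intro c hc
  rw [← h.2.2.1 a ha ha1] at hc
  induction hc using Subgroup.closure_induction with
  | mem x hx =>
    obtain ⟨b, hb, rfl⟩ := hx
    exact ⟨b, hb, rfl⟩
  | one => exact ⟨1, B.one_mem, by group⟩
  | mul x y _ _ hx hy =>
    obtain ⟨b, hb, rfl⟩ := hx
    obtain ⟨b', hb', rfl⟩ := hy
    refine ⟨b * b', B.mul_mem hb hb', ?_⟩
    have hcomm := h.2.1 _ (commutatorElement_mem_commutator' ha hb') _
      (Subgroup.mem_sup_right (B.inv_mem hb))
    calc a * (b * b') * a⁻¹ * (b * b')⁻¹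
        = a * b * a⁻¹ * ((a * b' * a⁻¹ * b'⁻¹) * b⁻¹) := by group
      _ = a * b * a⁻¹ * (b⁻¹ * (a * b' * a⁻¹ * b'⁻¹)) := by rw [hcomm]
      _ = a * b * a⁻¹ * b⁻¹ * (a * b' * a⁻¹ * b'⁻¹) := by group
  | inv x _ hx =>
    obtain ⟨b, hb, rfl⟩ := hx
    refine ⟨b⁻¹, B.inv_mem hb, ?_⟩
    have hcomm := h.2.1 _ (Subgroup.inv_mem _ (commutatorElement_mem_commutator' ha hb)) _
      (Subgroup.mem_sup_right hb)
    calc a * b⁻¹ * a⁻¹ * b⁻¹⁻¹ = b⁻¹ * ((a * b * a⁻¹ * b⁻¹)⁻¹ * b) := by group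
      _ = b⁻¹ * (b * (a * b * a⁻¹ * b⁻¹)⁻¹) := by rw [hcomm]
      _ = (a * b * a⁻¹ * b⁻¹)⁻¹ := by group

/-- In the commutator case, for `b ≠ 1` every element of `⁅A, B⁆` is a commutator `a b a⁻¹ b⁻¹`. -/
theorem commutatorCase_surj_left {A B : Subgroup G} (h : RootCommutatorCase S A B) {b : G}
    (hb : b ∈ B) (hb1 : b ≠ 1) : ∀ c ∈ ⁅A, B⁆, ∃ a ∈ A, a * b * a⁻¹ * b⁻¹ = c := by
  intro c hc
  rw [← h.2.2.2 b hb hb1] at hc
  induction hc using Subgroup.closure_induction with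
  | mem x hx =>
    obtain ⟨a, ha, rfl⟩ := hx
    exact ⟨a, ha, rfl⟩
  | one => exact ⟨1, A.one_mem, by group⟩
  | mul x y _ _ hx hy =>
    obtain ⟨a, ha, rfl⟩ := hx
    obtain ⟨a', ha', rfl⟩ := hy
    refine ⟨a' * a, A.mul_mem ha' ha, ?_⟩
    have hcomm := h.2.1 _ (commutatorElement_mem_commutator' ha hb) _
      (Subgroup.mem_sup_left ha')
    calc a' * a * b * (a' * a)⁻¹ * b⁻¹
        = (a' * (a * b * a⁻¹ * b⁻¹)) * (b * a'⁻¹ * b⁻¹) := by group
      _ = ((a * b * a⁻¹ * b⁻¹) * a') * (b * a'⁻¹ * b⁻¹) := by rw [hcomm]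
      _ = (a * b * a⁻¹ * b⁻¹) * (a' * b * a'⁻¹ * b⁻¹) := by group
  | inv x _ hx =>
    obtain ⟨a, ha, rfl⟩ := hx
    refine ⟨a⁻¹, A.inv_mem ha, ?_⟩
    have hcomm := h.2.1 _ (Subgroup.inv_mem _ (commutatorElement_mem_commutator' ha hb)) _
      (Subgroup.mem_sup_left ha)
    calc a⁻¹ * b * a⁻¹⁻¹ * b⁻¹ = a⁻¹ * ((a * b * a⁻¹ * b⁻¹)⁻¹ * a) := by group
      _ = a⁻¹ * (a * (a * b * a⁻¹ * b⁻¹)⁻¹) := by rw [hcomm]
      _ = (a * b * a⁻¹ * b⁻¹)⁻¹ := by group

theorem commutatorCase_symm {A B : Subgroup G} (h : RootCommutatorCase S A B) :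
    RootCommutatorCase S B A := by
  have e : ⁅B, A⁆ = ⁅A, B⁆ := Subgroup.commutator_comm B A
  refine ⟨by rw [e]; exact h.1, ?_, ?_, ?_⟩
  · intro c hc x hx
    rw [e] at hc
    rw [sup_comm] at hx
    exact h.2.1 c hc x hx
  · intro b hb hb1
    rw [e]
    apply le_antisymm
    · rw [Subgroup.closure_le]
      rintro _ ⟨a, ha, rfl⟩
      have := Subgroup.inv_mem _ (commutatorElement_mem_commutator' (A := A) (B := B) ha hb)
      simpa [mul_assoc] using this
    · intro c hc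
      obtain ⟨a, ha, hac⟩ := commutatorCase_surj_left h hb hb1 c⁻¹ (Subgroup.inv_mem _ hc)
      have : c = b * a * b⁻¹ * a⁻¹ := by
        rw [← inv_inv c, ← hac]; group
      rw [this]
      exact Subgroup.subset_closure ⟨a, ha, rfl⟩
  · intro a ha ha1
    rw [e]
    apply le_antisymm
    · rw [Subgroup.closure_le]
      rintro _ ⟨b, hb, rfl⟩
      have := Subgroup.inv_mem _ (commutatorElement_mem_commutator' (A := A) (B := B) ha hb)
      simpa [mul_assoc] using this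
    · intro c hc
      obtain ⟨b, hb, hbc⟩ := commutatorCase_surj_right h ha ha1 c⁻¹ (Subgroup.inv_mem _ hc)
      have : c = b * a * b⁻¹ * a⁻¹ := by
        rw [← inv_inv c, ← hbc]; group
      rw [this]
      exact Subgroup.subset_closure ⟨b, hb, rfl⟩

/-- If `⁅A, B⁆` is a member then `(A, B)` is in the commutator case. -/
theorem commutatorCase_of_mem (hS : IsRootSubgroupSet S) {A B : Subgroup G} (hA : A ∈ S) (hB : B ∈ S)
    (hC : ⁅A, B⁆ ∈ S) : RootCommutatorCase S A B := by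
  rcases hS.pair A hA B hB with h | h | h
  · exact absurd h (hS.ne_bot _ hC)
  · exact absurd hC (rankOne_commutator_not_mem hS hA hB h)
  · exact h

end Cfsg.Agent.Helper94
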