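import Mathlib
import Cfsg.Prelude.Def_RootSubgroups
import Cfsg.Agent.Lib.Helper94.RootComm

set_option autoImplicit false

namespace Cfsg.Agent.Helper94

open Cfsg Cfsg.Agent.Helper83
open scoped commutatorElement

variable {G : Type*} [Group G] {S : Set (Subgroup G)}

/-- The configuration `C = ⁅A, B⁆ ∈ S`, `A = ⁅D, C⁆` of members of a set of abstract root subgroups. -/
structure OppConfig (S : Set (Subgroup G)) (A B C D : Subgroup G) : Prop where
  hS : IsRootSubgroupSet S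
  hA : A ∈ S
  hB : B ∈ S
  hC : C ∈ S
  hD : D ∈ S
  hAB : ⁅A, B⁆ = C
  hDC : ⁅D, C⁆ = A

namespace OppConfig

variable {A B C D : Subgroup G}

theorem symm (h : OppConfig S A B C D) : OppConfig S C D A B :=
  ⟨h.hS, h.hC, h.hD, h.hA, h.hB, by rw [Subgroup.commutator_comm]; exact h.hDC,
    by rw [Subgroup.commutator_comm]; exact h.hAB⟩

theorem caseAB (h : OppConfig S A B C D) : RootCommutatorCase S A B :=
  commutatorCase_of_mem h.hS h.hA h.hB (by rw [h.hAB]; exact h.hC)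

theorem caseDC (h : OppConfig S A B C D) : RootCommutatorCase S D C :=
  commutatorCase_of_mem h.hS h.hD h.hC (by rw [h.hDC]; exact h.hA)

theorem comm_CA (h : OppConfig S A B C D) {c a : G} (hc : c ∈ C) (ha : a ∈ A) : c * a = a * c :=
  h.caseAB.2.1 c (by rw [h.hAB]; exact hc) a (Subgroup.mem_sup_left ha)

theorem comm_CB (h : OppConfig S A B C D) {c b : G} (hc : c ∈ C) (hb : b ∈ B) : c * b = b * c :=
  h.caseAB.2.1 c (by rw [h.hAB]; exact hc) b (Subgroup.mem_sup_right hb)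

theorem comm_AD (h : OppConfig S A B C D) {a d : G} (ha : a ∈ A) (hd : d ∈ D) : a * d = d * a :=
  h.caseDC.2.1 a (by rw [h.hDC]; exact ha) d (Subgroup.mem_sup_left hd)

theorem comm_mem_C (h : OppConfig S A B C D) {a b : G} (ha : a ∈ A) (hb : b ∈ B) :
    a * b * a⁻¹ * b⁻¹ ∈ C := by
  rw [← h.hAB]; exact commutatorElement_mem_commutator' ha hb

theorem comm_mem_C' (h : OppConfig S A B C D) {a b : G} (ha : a ∈ A) (hb : b ∈ B) :
    b * a * b⁻¹ * a⁻¹ ∈ C := by
  have := C.inv_mem (h.comm_mem_C ha hb)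
  simpa [mul_assoc] using this

theorem comm_mem_A (h : OppConfig S A B C D) {d c : G} (hd : d ∈ D) (hc : c ∈ C) :
    d * c * d⁻¹ * c⁻¹ ∈ A := by
  rw [← h.hDC]; exact commutatorElement_mem_commutator' hd hc

theorem comm_mem_A' (h : OppConfig S A B C D) {d c : G} (hd : d ∈ D) (hc : c ∈ C) :
    c * d * c⁻¹ * d⁻¹ ∈ A := by
  have := A.inv_mem (h.comm_mem_A hd hc)
  simpa [mul_assoc] using this

theorem surj_a (h : OppConfig S A B C D) {a : G} (ha : a ∈ A) (ha1 : a ≠ 1) {c : G} (hc : c ∈ C) :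
    ∃ b ∈ B, a * b * a⁻¹ * b⁻¹ = c :=
  commutatorCase_surj_right h.caseAB ha ha1 c (by rw [h.hAB]; exact hc)

theorem surj_b (h : OppConfig S A B C D) {b : G} (hb : b ∈ B) (hb1 : b ≠ 1) {c : G} (hc : c ∈ C) :
    ∃ a ∈ A, a * b * a⁻¹ * b⁻¹ = c :=
  commutatorCase_surj_left h.caseAB hb hb1 c (by rw [h.hAB]; exact hc)

theorem surj_d (h : OppConfig S A B C D) {d : G} (hd : d ∈ D) (hd1 : d ≠ 1) {a : G} (ha : a ∈ A) :
    ∃ c ∈ C, d * c * d⁻¹ * c⁻¹ = a :=
  commutatorCase_surj_right h.caseDC hd hd1 a (by rw [h.hDC]; exact ha)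

theorem surj_c (h : OppConfig S A B C D) {c : G} (hc : c ∈ C) (hc1 : c ≠ 1) {a : G} (ha : a ∈ A) :
    ∃ d ∈ D, d * c * d⁻¹ * c⁻¹ = a :=
  commutatorCase_surj_left h.caseDC hc hc1 a (by rw [h.hDC]; exact ha)

theorem exists_A (h : OppConfig S A B C D) : ∃ a ∈ A, a ≠ 1 :=
  exists_mem_ne_one_of_ne_bot (h.hS.ne_bot A h.hA)

theorem exists_B (h : OppConfig S A B C D) : ∃ b ∈ B, b ≠ 1 :=
  exists_mem_ne_one_of_ne_bot (h.hS.ne_bot B h.hB)

theorem exists_C (h : OppConfig S A B C D) : ∃ c ∈ C, c ≠ 1 :=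
  exists_mem_ne_one_of_ne_bot (h.hS.ne_bot C h.hC)

theorem exists_D (h : OppConfig S A B C D) : ∃ d ∈ D, d ≠ 1 :=
  exists_mem_ne_one_of_ne_bot (h.hS.ne_bot D h.hD)

theorem inf_AC (h : OppConfig S A B C D) : A ⊓ C = ⊥ := by
  rw [eq_bot_iff]
  rintro x ⟨hxA, hxC⟩
  rw [Subgroup.mem_bot]
  by_contra hx1
  obtain ⟨c, hc, hc1⟩ := h.exists_C
  obtain ⟨b, hb, hbc⟩ := h.surj_a hxA hx1 hc
  apply hc1
  rw [← hbc, h.comm_CB hxC hb, mul_inv_cancel_right, mul_inv_cancel]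

/-- `B` and `D` form a rank one pair. -/
theorem rankOne_BD (h : OppConfig S A B C D) : IsRankOnePair B D := by
  rcases h.hS.pair B h.hB D h.hD with h1 | h1 | h1
  · -- `B` and `D` commute: then `D` centralizes `C`
    exfalso
    rw [Subgroup.commutator_eq_bot_iff_le_centralizer] at h1
    have hA : A ≤ Subgroup.centralizer (D : Set G) :=
      le_centralizer_of_commute (fun a ha d hd => h.comm_AD ha hd)
    have hCD : C ≤ Subgroup.centralizer (D : Set G) := by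
      rw [← h.hAB, Subgroup.commutator_le]
      intro a ha b hb
      rw [commutatorElement_def]
      exact Subgroup.mul_mem _ (Subgroup.mul_mem _ (Subgroup.mul_mem _ (hA ha) (h1 hb))
        (Subgroup.inv_mem _ (hA ha))) (Subgroup.inv_mem _ (h1 hb))
    have hDC : D ≤ Subgroup.centralizer (C : Set G) := Subgroup.le_centralizer_iff.1 hCD
    rw [← Subgroup.commutator_eq_bot_iff_le_centralizer, h.hDC] at hDC
    exact h.hS.ne_bot A h.hA hDC
  · exact h1
  · exfalso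
    obtain ⟨b, hb, hb1⟩ := h.exists_B
    obtain ⟨d, hd, hd1⟩ := h.exists_D
    -- `b` commutes with `d b d⁻¹`
    have hbb : b * (d * b * d⁻¹) = (d * b * d⁻¹) * b := by
      have := h1.2.1 _ (commutatorElement_mem_commutator' (B.inv_mem hb) hd) b
        (Subgroup.mem_sup_left hb)
      have e : d * b * d⁻¹ = b * (b⁻¹ * d * b⁻¹⁻¹ * d⁻¹) := by group
      calc b * (d * b * d⁻¹) = b * (b * (b⁻¹ * d * b⁻¹⁻¹ * d⁻¹)) := by rw [e]
        _ = b * ((b⁻¹ * d * b⁻¹⁻¹ * d⁻¹) * b) := by rw [this]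
        _ = (d * b * d⁻¹) * b := by group
    have key : ∀ a ∈ A, b * a = a * b := by
      intro a ha
      obtain ⟨c₁, hc₁, h1'⟩ := h.surj_d hd hd1 ha
      obtain ⟨a₁, ha₁, h2⟩ := h.surj_b hb hb1 (C.inv_mem hc₁)
      obtain ⟨c, hc, h3⟩ := h.surj_d (D.inv_mem hd) (by simpa using hd1) ha₁
      have e3 : d⁻¹ * c * d = a₁ * c := by rw [← h3]; group
      have e2 : b * a₁ * b⁻¹ = c₁ * a₁ := by
        have : c₁ = (a₁ * b * a₁⁻¹ * b⁻¹)⁻¹ := by rw [h2, inv_inv]
        rw [this]; group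
      have e1 : d * c₁ * d⁻¹ = a * c₁ := by rw [← h1']; group
      have eb : b * c * b⁻¹ = c := by rw [← h.comm_CB hc hb, mul_inv_cancel_right]
      have ed : d * a₁ * d⁻¹ = a₁ := by rw [← h.comm_AD ha₁ hd, mul_inv_cancel_right]
      have e3' : d * c * d⁻¹ = a₁⁻¹ * c := by
        have h4 : d * (d⁻¹ * c * d) * d⁻¹ = (d * a₁ * d⁻¹) * (d * c * d⁻¹) := by rw [e3]; group
        have h5 : d * (d⁻¹ * c * d) * d⁻¹ = c := by group
        rw [ed, h5] at h4
        calc d * c * d⁻¹ = a₁⁻¹ * (a₁ * (d * c * d⁻¹)) := by group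
          _ = a₁⁻¹ * c := by rw [← h4]
      have E : d * b * d⁻¹ * c * (d * b * d⁻¹)⁻¹ = a * (c₁ * c) := by
        calc d * b * d⁻¹ * c * (d * b * d⁻¹)⁻¹
            = d * (b * (d⁻¹ * c * d) * b⁻¹) * d⁻¹ := by group
          _ = d * (b * (a₁ * c) * b⁻¹) * d⁻¹ := by rw [e3]
          _ = d * ((b * a₁ * b⁻¹) * (b * c * b⁻¹)) * d⁻¹ := by group
          _ = d * ((c₁ * a₁) * c) * d⁻¹ := by rw [e2, eb]
          _ = (d * c₁ * d⁻¹) * (d * a₁ * d⁻¹) * (d * c * d⁻¹) := by group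
          _ = (a * c₁) * a₁ * (a₁⁻¹ * c) := by rw [e1, ed, e3']
          _ = a * (c₁ * c) := by group
      -- `b` commutes with the left side
      have hcomm : b * (d * b * d⁻¹ * c * (d * b * d⁻¹)⁻¹) = (d * b * d⁻¹ * c * (d * b * d⁻¹)⁻¹) * b := by
        have hbb' : b * (d * b * d⁻¹)⁻¹ = (d * b * d⁻¹)⁻¹ * b :=
          (show Commute b (d * b * d⁻¹) from hbb).inv_right.eq
        calc b * (d * b * d⁻¹ * c * (d * b * d⁻¹)⁻¹)
            = (b * (d * b * d⁻¹)) * c * (d * b * d⁻¹)⁻¹ := by group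
          _ = ((d * b * d⁻¹) * b) * c * (d * b * d⁻¹)⁻¹ := by rw [hbb]
          _ = (d * b * d⁻¹) * (b * c) * (d * b * d⁻¹)⁻¹ := by group
          _ = (d * b * d⁻¹) * (c * b) * (d * b * d⁻¹)⁻¹ := by rw [h.comm_CB hc hb]
          _ = (d * b * d⁻¹) * c * (b * (d * b * d⁻¹)⁻¹) := by group
          _ = (d * b * d⁻¹) * c * ((d * b * d⁻¹)⁻¹ * b) := by rw [hbb']
          _ = (d * b * d⁻¹ * c * (d * b * d⁻¹)⁻¹) * b := by group
      rw [E] at hcomm
      have hcc : (c₁ * c) * b = b * (c₁ * c) := h.comm_CB (C.mul_mem hc₁ hc) hb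
      have : b * a * (c₁ * c) = a * b * (c₁ * c) := by
        calc b * a * (c₁ * c) = b * (a * (c₁ * c)) := by group
          _ = a * (c₁ * c) * b := hcomm
          _ = a * ((c₁ * c) * b) := by group
          _ = a * (b * (c₁ * c)) := by rw [hcc]
          _ = a * b * (c₁ * c) := by group
      exact mul_right_cancel this
    obtain ⟨c, hc, hc1⟩ := h.exists_C
    obtain ⟨a, ha, hac⟩ := h.surj_b hb hb1 hc
    apply hc1
    rw [← hac, ← key a ha, mul_inv_cancel_right, mul_inv_cancel]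

/-- A nontrivial element of `A` commutes with no nontrivial element of `B`. -/
theorem commute_trivial (h : OppConfig S A B C D) {a b : G} (ha : a ∈ A) (ha1 : a ≠ 1) (hb : b ∈ B)
    (hab : a * b = b * a) : b = 1 := by
  by_contra hb1
  have hr := h.rankOne_BD
  have key := root_inf_eq_bot_or_eq h.hS h.hB h.hD hr
  have hmem : b ∈ B ⊓ conjBy B a := by
    refine Subgroup.mem_inf.2 ⟨hb, ?_⟩
    rw [mem_conjBy, mul_assoc, ← hab, inv_mul_cancel_left]
    exact hb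
  have hBa : B = conjBy B a := by
    rcases key (conjBy B a) (h.hS.conj_mem B h.hB a) with h1 | h1
    · rw [h1, Subgroup.mem_bot] at hmem; exact absurd hmem hb1
    · exact h1
  have hCB : C ≤ B := by
    intro c hc
    obtain ⟨b', hb', rfl⟩ := h.surj_a ha ha1 hc
    have : a * b' * a⁻¹ ∈ conjBy B a := conj_mem_conjBy hb'
    rw [← hBa] at this
    exact B.mul_mem this (B.inv_mem hb')
  have hBC : B = C := by
    rcases key C h.hC with h1 | h1
    · rw [inf_eq_right.2 hCB] at h1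
      exact absurd h1 (h.hS.ne_bot C h.hC)
    · exact h1
  have : ⁅A, B⁆ = ⊥ := by
    rw [Subgroup.commutator_eq_bot_iff_le_centralizer, hBC]
    exact le_centralizer_of_commute (fun a ha c hc => (h.comm_CA hc ha).symm)
  rw [h.hAB] at this
  exact h.hS.ne_bot C h.hC this


theorem conjBy_C_of_mem_B (h : OppConfig S A B C D) {b : G} (hb : b ∈ B) : conjBy C b = C :=
  conjBy_eq_self_of_mem_centralizer
    (le_centralizer_of_commute (A := B) (B := C) (fun b hb c hc => (h.comm_CB hc hb).symm) hb)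

theorem conjBy_A_of_mem_D (h : OppConfig S A B C D) {d : G} (hd : d ∈ D) : conjBy A d = A :=
  h.symm.conjBy_C_of_mem_B hd

/-- `B` normalizes `A ⊔ C` -/
theorem conjBy_N_of_mem_B (h : OppConfig S A B C D) {b : G} (hb : b ∈ B) :
    conjBy (A ⊔ C) b = A ⊔ C := by
  have key : ∀ b ∈ B, conjBy (A ⊔ C) b ≤ A ⊔ C := by
    intro b hb
    rw [conjBy_sup, h.conjBy_C_of_mem_B hb]
    refine sup_le ?_ le_sup_right
    have := conjBy_le_sup_commutator (E := B) (B := A) hb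
    rwa [Subgroup.commutator_comm, h.hAB] at this
  apply le_antisymm (key b hb)
  have := conjBy_mono (key b⁻¹ (B.inv_mem hb)) b
  rwa [conjBy_conjBy_inv] at this

theorem conjBy_N_of_mem_D (h : OppConfig S A B C D) {d : G} (hd : d ∈ D) :
    conjBy (A ⊔ C) d = A ⊔ C := by
  have := h.symm.conjBy_N_of_mem_B hd
  rwa [sup_comm] at this

theorem conjBy_N_of_mem_X (h : OppConfig S A B C D) {x : G} (hx : x ∈ B ⊔ D) :
    conjBy (A ⊔ C) x = A ⊔ C := by
  rw [conjBy_eq_self_iff]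
  have h1 : B ≤ Subgroup.normalizer ((A ⊔ C : Subgroup G) : Set G) :=
    fun b hb => conjBy_eq_self_iff.1 (h.conjBy_N_of_mem_B hb)
  have h2 : D ≤ Subgroup.normalizer ((A ⊔ C : Subgroup G) : Set G) :=
    fun d hd => conjBy_eq_self_iff.1 (h.conjBy_N_of_mem_D hd)
  exact (sup_le h1 h2) hx

theorem mem_N_iff (h : OppConfig S A B C D) {x : G} :
    x ∈ A ⊔ C ↔ ∃ a ∈ A, ∃ c ∈ C, x = a * c :=
  mem_sup_of_commute (fun a ha c hc => (h.comm_CA hc ha).symm)

theorem N_inf_centralizer_B (h : OppConfig S A B C D) :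
    (A ⊔ C) ⊓ Subgroup.centralizer (B : Set G) = C := by
  apply le_antisymm
  · rintro x ⟨hxN, hxB⟩
    obtain ⟨a, ha, c, hc, rfl⟩ := h.mem_N_iff.1 hxN
    have hcB : c ∈ Subgroup.centralizer (B : Set G) :=
      le_centralizer_of_commute (A := C) (B := B) (fun c hc b hb => h.comm_CB hc hb) hc
    have haB : a ∈ Subgroup.centralizer (B : Set G) := by
      have := Subgroup.mul_mem _ hxB (Subgroup.inv_mem _ hcB)
      rwa [mul_inv_cancel_right] at this
    by_cases ha1 : a = 1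
    · rw [ha1, one_mul]; exact hc
    · exfalso
      obtain ⟨b, hb, hb1⟩ := h.exists_B
      rw [Subgroup.mem_centralizer_iff] at haB
      exact hb1 (h.commute_trivial ha ha1 hb (haB b hb).symm)
  · apply le_inf le_sup_right
    exact le_centralizer_of_commute (fun c hc b hb => h.comm_CB hc hb)

theorem N_inf_centralizer_D (h : OppConfig S A B C D) :
    (A ⊔ C) ⊓ Subgroup.centralizer (D : Set G) = A := by
  have := h.symm.N_inf_centralizer_B
  rwa [sup_comm] at this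

/-- the key relation between the actions of `B` and `D` on `A ⊔ C` -/
theorem conj_rel (h : OppConfig S A B C D) {b d : G} (hb : b ∈ B) (hd : d ∈ D)
    (hbd : conjBy D b = conjBy B d) : conjBy A b = conjBy C d := by
  have h1 : conjBy A b = (A ⊔ C) ⊓ Subgroup.centralizer ((conjBy D b : Subgroup G) : Set G) := by
    conv_lhs => rw [← h.N_inf_centralizer_D]
    rw [conjBy_inf, conjBy_centralizer, h.conjBy_N_of_mem_B hb]
  have h2 : conjBy C d = (A ⊔ C) ⊓ Subgroup.centralizer ((conjBy B d : Subgroup G) : Set G) := by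
    conv_lhs => rw [← h.N_inf_centralizer_B]
    rw [conjBy_inf, conjBy_centralizer, h.conjBy_N_of_mem_D hd]
  rw [h1, h2, hbd]

theorem exists_b_of_d (h : OppConfig S A B C D) {d : G} (hd : d ∈ D) (hd1 : d ≠ 1) :
    ∃ b ∈ B, b ≠ 1 ∧ conjBy C d = conjBy A b := by
  obtain ⟨b, hb, hb1, hbd⟩ := h.rankOne_BD.cond_right d⁻¹ (D.inv_mem hd) (by simpa using hd1)
  rw [inv_inv] at hbd
  exact ⟨b⁻¹, B.inv_mem hb, by simpa using hb1, (h.conj_rel (B.inv_mem hb) hd hbd).symm⟩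

theorem exists_d_of_b (h : OppConfig S A B C D) {b : G} (hb : b ∈ B) (hb1 : b ≠ 1) :
    ∃ d ∈ D, d ≠ 1 ∧ conjBy A b = conjBy C d := by
  obtain ⟨d, hd, hd1, hbd⟩ := h.rankOne_BD.cond_left b⁻¹ (B.inv_mem hb) (by simpa using hb1)
  rw [inv_inv] at hbd
  exact ⟨d⁻¹, D.inv_mem hd, by simpa using hd1, h.conj_rel hb (D.inv_mem hd) hbd.symm⟩

/-- the family `A^B ∪ {C}` -/
def fam (A B C : Subgroup G) : Set (Subgroup G) := (fun b : G => conjBy A b) '' (B : Set G) ∪ {C}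

theorem fam_conj_B (h : OppConfig S A B C D) {E : Subgroup G} (hE : E ∈ fam A B C) {b : G}
    (hb : b ∈ B) : conjBy E b ∈ fam A B C := by
  rcases hE with ⟨b', hb', rfl⟩ | hE
  · left
    exact ⟨b * b', B.mul_mem hb hb', (conjBy_conjBy _ _ _).symm⟩
  · right
    rw [Set.mem_singleton_iff] at hE
    rw [hE, h.conjBy_C_of_mem_B hb]
    rfl

theorem fam_conj_D (h : OppConfig S A B C D) {E : Subgroup G} (hE : E ∈ fam A B C) {d : G}
    (hd : d ∈ D) : conjBy E d ∈ fam A B C := by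
  have hC : ∀ d ∈ D, conjBy C d ∈ fam A B C := by
    intro d hd
    by_cases hd1 : d = 1
    · right; rw [hd1, conjBy_one]; rfl
    · obtain ⟨b, hb, _, hbd⟩ := h.exists_b_of_d hd hd1
      left
      exact ⟨b, hb, hbd.symm⟩
  rcases hE with ⟨b, hb, rfl⟩ | hE
  · by_cases hb1 : b = 1
    · left
      refine ⟨1, B.one_mem, ?_⟩
      simp only [hb1, conjBy_one]
      exact (h.conjBy_A_of_mem_D hd).symm
    · obtain ⟨d₁, hd₁, _, hbd⟩ := h.exists_d_of_b hb hb1
      simp only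
      rw [hbd, conjBy_conjBy]
      exact hC _ (D.mul_mem hd hd₁)
  · rw [Set.mem_singleton_iff] at hE
    rw [hE]
    exact hC d hd

theorem X_le_famStab (h : OppConfig S A B C D) : B ⊔ D ≤ famStab (fam A B C) := by
  apply sup_le
  · intro b hb
    rw [mem_famStab]
    intro E hE
    exact ⟨h.fam_conj_B hE hb, h.fam_conj_B hE (B.inv_mem hb)⟩
  · intro d hd
    rw [mem_famStab]
    intro E hE
    exact ⟨h.fam_conj_D hE hd, h.fam_conj_D hE (D.inv_mem hd)⟩

theorem exists_conj_A_eq_C (h : OppConfig S A B C D) : ∃ x ∈ B ⊔ D, C = conjBy A x := by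
  obtain ⟨d, hd, hd1⟩ := h.exists_D
  obtain ⟨b, hb, _, hbd⟩ := h.exists_b_of_d hd hd1
  refine ⟨d⁻¹ * b, Subgroup.mul_mem _ (Subgroup.mem_sup_right (D.inv_mem hd))
    (Subgroup.mem_sup_left hb), ?_⟩
  rw [← conjBy_conjBy, ← hbd, conjBy_inv_conjBy]

theorem orbit_A_eq_fam (h : OppConfig S A B C D) :
    {E | ∃ x ∈ B ⊔ D, E = conjBy A x} = fam A B C := by
  apply Set.Subset.antisymm
  · rintro E ⟨x, hx, rfl⟩
    have hA : A ∈ fam A B C := Or.inl ⟨1, B.one_mem, conjBy_one A⟩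
    exact ((mem_famStab.1 (h.X_le_famStab hx)) A hA).1
  · rintro E (⟨b, hb, rfl⟩ | hE)
    · exact ⟨b, Subgroup.mem_sup_left hb, rfl⟩
    · rw [Set.mem_singleton_iff] at hE
      rw [hE]
      exact h.exists_conj_A_eq_C

theorem orbit_A_eq_orbit_C (h : OppConfig S A B C D) :
    {E | ∃ x ∈ B ⊔ D, E = conjBy A x} = {E | ∃ x ∈ B ⊔ D, E = conjBy C x} := by
  obtain ⟨x₀, hx₀, hC⟩ := h.exists_conj_A_eq_C
  apply Set.Subset.antisymm
  · rintro E ⟨x, hx, rfl⟩
    refine ⟨x * x₀⁻¹, Subgroup.mul_mem _ hx (Subgroup.inv_mem _ hx₀), ?_⟩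
    rw [hC, conjBy_conjBy, inv_mul_cancel_right]
  · rintro E ⟨x, hx, rfl⟩
    refine ⟨x * x₀, Subgroup.mul_mem _ hx hx₀, ?_⟩
    rw [hC, conjBy_conjBy]

theorem fam_partition (h : OppConfig S A B C D) : IsSubgroupPartition (A ⊔ C) (fam A B C) := by
  have P1 : ∀ b ∈ B, conjBy A b ⊓ C = ⊥ := by
    intro b hb
    conv_lhs => rw [← h.conjBy_C_of_mem_B hb]
    rw [← conjBy_inf, h.inf_AC, conjBy_bot]
  have P2 : ∀ b ∈ B, conjBy A b ≠ A → A ⊓ conjBy A b = ⊥ := by
    intro b hb hne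
    rw [eq_bot_iff]
    rintro x ⟨hxA, hxb⟩
    rw [Subgroup.mem_bot]
    by_contra hx1
    have hxb' : b⁻¹ * x * b ∈ A := mem_conjBy.1 hxb
    have h1 : x⁻¹ * b⁻¹ * x⁻¹⁻¹ * b⁻¹⁻¹ ∈ A ⊓ C := by
      refine Subgroup.mem_inf.2 ⟨?_, h.comm_mem_C (A.inv_mem hxA) (B.inv_mem hb)⟩
      have := A.mul_mem (A.inv_mem hxA) hxb'
      have e : x⁻¹ * b⁻¹ * x⁻¹⁻¹ * b⁻¹⁻¹ = x⁻¹ * (b⁻¹ * x * b) := by group
      rw [e]; exact this
    rw [h.inf_AC, Subgroup.mem_bot] at h1
    have hxbcomm : x * b = b * x := by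
      have e : x * b = b * x * (x⁻¹ * b⁻¹ * x⁻¹⁻¹ * b⁻¹⁻¹) := by group
      rw [e, h1, mul_one]
    have hb1 := h.commute_trivial hxA hx1 hb hxbcomm
    apply hne
    rw [hb1, conjBy_one]
  refine ⟨?_, ?_, ?_⟩
  · rintro E (⟨b, hb, rfl⟩ | hE)
    · have := conjBy_mono (le_sup_left : A ≤ A ⊔ C) b
      rwa [h.conjBy_N_of_mem_B hb] at this
    · rw [Set.mem_singleton_iff] at hE
      rw [hE]; exact le_sup_right
  · intro x hx hx1
    obtain ⟨a, ha, c, hc, rfl⟩ := h.mem_N_iff.1 hx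
    by_cases ha1 : a = 1
    · refine ⟨C, Or.inr rfl, ?_⟩
      rw [ha1, one_mul]; exact hc
    · obtain ⟨b', hb', hb'c⟩ := h.surj_a (A.inv_mem ha) (by simpa using ha1) (C.inv_mem hc)
      refine ⟨conjBy A b'⁻¹, Or.inl ⟨b'⁻¹, B.inv_mem hb', rfl⟩, ?_⟩
      rw [mem_conjBy]
      have hcb : c * b'⁻¹ = b'⁻¹ * c := h.comm_CB hc (B.inv_mem hb')
      have e : b'⁻¹⁻¹ * (a * c) * b'⁻¹ = a := by
        calc b'⁻¹⁻¹ * (a * c) * b'⁻¹ = b' * a * (c * b'⁻¹) := by group
          _ = b' * a * (b'⁻¹ * c) := by rw [hcb]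
          _ = b' * a * (b'⁻¹ * (a⁻¹ * b' * a⁻¹⁻¹ * b'⁻¹)⁻¹) := by rw [hb'c, inv_inv]
          _ = a := by group
      rw [e]; exact ha
  · rintro E (⟨b, hb, rfl⟩ | hE) F (⟨b', hb', rfl⟩ | hF) hne
    · simp only at hne ⊢
      have e : conjBy A b' = conjBy (conjBy A (b⁻¹ * b')) b := by
        rw [conjBy_conjBy, mul_inv_cancel_left]
      rw [e, ← conjBy_inf]
      have hne' : conjBy A (b⁻¹ * b') ≠ A := by
        intro h1
        apply hne
        rw [e, h1]
      rw [P2 _ (B.mul_mem (B.inv_mem hb) hb') hne', conjBy_bot]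
    · rw [Set.mem_singleton_iff] at hF
      rw [hF]; exact P1 b hb
    · rw [Set.mem_singleton_iff] at hE
      rw [hE, inf_comm]; exact P1 b' hb'
    · rw [Set.mem_singleton_iff] at hE hF
      exact absurd (hE.trans hF.symm) hne

theorem centralizer_N_central (h : OppConfig S A B C D) :
    ∀ x ∈ (B ⊔ D) ⊓ Subgroup.centralizer ((A ⊔ C : Subgroup G) : Set G), ∀ y ∈ B ⊔ D,
      x * y = y * x := by
  have hnorm : ∀ x ∈ B ⊔ D,
      conjBy ((B ⊔ D) ⊓ Subgroup.centralizer ((A ⊔ C : Subgroup G) : Set G)) x =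
        (B ⊔ D) ⊓ Subgroup.centralizer ((A ⊔ C : Subgroup G) : Set G) := by
    intro x hx
    rw [conjBy_inf, conjBy_eq_self_of_mem hx, conjBy_centralizer, h.conjBy_N_of_mem_X hx]
  rcases rankOne_dichotomy h.rankOne_BD _ inf_le_left hnorm with h1 | h1
  · exfalso
    have h2 : (B ⊔ D) ⊓ Subgroup.centralizer ((A ⊔ C : Subgroup G) : Set G) ⊔ B ≤
        Subgroup.centralizer (C : Set G) := by
      apply sup_le
      · refine inf_le_right.trans (Subgroup.centralizer_le ?_)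
        intro c hc; exact Subgroup.mem_sup_right hc
      · exact le_centralizer_of_commute (fun b hb c hc => (h.comm_CB hc hb).symm)
    rw [h1] at h2
    have h3 : D ≤ Subgroup.centralizer (C : Set G) := le_sup_right.trans h2
    rw [← Subgroup.commutator_eq_bot_iff_le_centralizer, h.hDC] at h3
    exact h.hS.ne_bot A h.hA h3
  · intro x hx y hy
    have := h1 hx
    rw [Subgroup.mem_centralizer_iff] at this
    exact (this y hy).symm

end OppConfig

end Cfsg.Agent.Helper94
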