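import Mathlib
import Cfsg.Prelude.Def_RootSubgroups
import Cfsg.Agent.Lib.Helper94.RootOpp

set_option autoImplicit false

namespace Cfsg.Agent.Helper94

open Cfsg Cfsg.Agent.Helper83
open scoped commutatorElement

variable {G : Type*} [Group G] {S : Set (Subgroup G)}

/-- The configuration `C = ⁅A, B⁆ ∈ S` where `A ∩ C = 1` and no nontrivial element of `A` commutes
with a nontrivial element of `B`. -/
structure LineConfig (S : Set (Subgroup G)) (A B C : Subgroup G) : Prop where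
  hS : IsRootSubgroupSet S
  hA : A ∈ S
  hB : B ∈ S
  hC : C ∈ S
  hAB : ⁅A, B⁆ = C
  inf_AC : A ⊓ C = ⊥
  ct : ∀ a ∈ A, a ≠ 1 → ∀ b ∈ B, a * b = b * a → b = 1

theorem OppConfig.toLineConfig {A B C D : Subgroup G} (h : OppConfig S A B C D) :
    LineConfig S A B C :=
  ⟨h.hS, h.hA, h.hB, h.hC, h.hAB, h.inf_AC, fun _ ha ha1 _ hb hab => h.commute_trivial ha ha1 hb hab⟩

namespace LineConfig

variable {A B C : Subgroup G}

theorem case (h : LineConfig S A B C) : RootCommutatorCase S A B :=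
  commutatorCase_of_mem h.hS h.hA h.hB (by rw [h.hAB]; exact h.hC)

theorem comm_CA (h : LineConfig S A B C) {c a : G} (hc : c ∈ C) (ha : a ∈ A) : c * a = a * c :=
  h.case.2.1 c (by rw [h.hAB]; exact hc) a (Subgroup.mem_sup_left ha)

theorem comm_CB (h : LineConfig S A B C) {c b : G} (hc : c ∈ C) (hb : b ∈ B) : c * b = b * c :=
  h.case.2.1 c (by rw [h.hAB]; exact hc) b (Subgroup.mem_sup_right hb)

theorem comm_mem_C (h : LineConfig S A B C) {a b : G} (ha : a ∈ A) (hb : b ∈ B) :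
    a * b * a⁻¹ * b⁻¹ ∈ C := by
  rw [← h.hAB]; exact commutatorElement_mem_commutator' ha hb

theorem surj_a (h : LineConfig S A B C) {a : G} (ha : a ∈ A) (ha1 : a ≠ 1) {c : G} (hc : c ∈ C) :
    ∃ b ∈ B, a * b * a⁻¹ * b⁻¹ = c :=
  commutatorCase_surj_right h.case ha ha1 c (by rw [h.hAB]; exact hc)

theorem surj_b (h : LineConfig S A B C) {b : G} (hb : b ∈ B) (hb1 : b ≠ 1) {c : G} (hc : c ∈ C) :
    ∃ a ∈ A, a * b * a⁻¹ * b⁻¹ = c :=
  commutatorCase_surj_left h.case hb hb1 c (by rw [h.hAB]; exact hc)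

theorem C_le_centralizer_B (h : LineConfig S A B C) : C ≤ Subgroup.centralizer (B : Set G) :=
  le_centralizer_of_commute (fun _ hc _ hb => h.comm_CB hc hb)

theorem C_le_centralizer_A (h : LineConfig S A B C) : C ≤ Subgroup.centralizer (A : Set G) :=
  le_centralizer_of_commute (fun _ hc _ ha => h.comm_CA hc ha)

theorem N_le_centralizer_A (h : LineConfig S A B C) : A ⊔ C ≤ Subgroup.centralizer (A : Set G) :=
  sup_le (le_centralizer_self_of_comm (h.hS.commutative A h.hA)) h.C_le_centralizer_A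

theorem conjBy_C_of_mem_B (h : LineConfig S A B C) {b : G} (hb : b ∈ B) : conjBy C b = C :=
  conjBy_eq_self_of_mem_centralizer
    (le_centralizer_of_commute (A := B) (B := C) (fun _ hb _ hc => (h.comm_CB hc hb).symm) hb)

/-- `B` normalizes `A ⊔ C` -/
theorem conjBy_N_of_mem_B (h : LineConfig S A B C) {b : G} (hb : b ∈ B) :
    conjBy (A ⊔ C) b = A ⊔ C := by
  have key : ∀ b ∈ B, conjBy (A ⊔ C) b ≤ A ⊔ C := by
    intro b hb
    rw [conjBy_sup, h.conjBy_C_of_mem_B hb]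
    refine sup_le ?_ le_sup_right
    have := conjBy_le_sup_commutator (E := B) (B := A) hb
    rwa [Subgroup.commutator_comm, h.hAB] at this
  apply le_antisymm (key b hb)
  have := conjBy_mono (key b⁻¹ (B.inv_mem hb)) b
  rwa [conjBy_conjBy_inv] at this

theorem conjBy_A_le_N (h : LineConfig S A B C) {b : G} (hb : b ∈ B) : conjBy A b ≤ A ⊔ C := by
  have := conjBy_mono (le_sup_left : A ≤ A ⊔ C) b
  rwa [h.conjBy_N_of_mem_B hb] at this

theorem mem_N_iff (h : LineConfig S A B C) {x : G} :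
    x ∈ A ⊔ C ↔ ∃ a ∈ A, ∃ c ∈ C, x = a * c :=
  mem_sup_of_commute (fun _ ha _ hc => (h.comm_CA hc ha).symm)

/-- every element of `A ⊔ C` outside `C` lies in a `B`-conjugate of `A` -/
theorem cover (h : LineConfig S A B C) {x : G} (hx : x ∈ A ⊔ C) (hxC : x ∉ C) :
    ∃ b ∈ B, x ∈ conjBy A b := by
  obtain ⟨a, ha, c, hc, rfl⟩ := h.mem_N_iff.1 hx
  have ha1 : a ≠ 1 := by
    intro ha1
    apply hxC
    rw [ha1, one_mul]; exact hc
  obtain ⟨b', hb', hb'c⟩ := h.surj_a (A.inv_mem ha) (by simpa using ha1) (C.inv_mem hc)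
  refine ⟨b'⁻¹, B.inv_mem hb', ?_⟩
  rw [mem_conjBy]
  have hcb : c * b'⁻¹ = b'⁻¹ * c := h.comm_CB hc (B.inv_mem hb')
  have e : b'⁻¹⁻¹ * (a * c) * b'⁻¹ = a := by
    calc b'⁻¹⁻¹ * (a * c) * b'⁻¹ = b' * a * (c * b'⁻¹) := by group
      _ = b' * a * (b'⁻¹ * c) := by rw [hcb]
      _ = b' * a * (b'⁻¹ * (a⁻¹ * b' * a⁻¹⁻¹ * b'⁻¹)⁻¹) := by rw [hb'c, inv_inv]
      _ = a := by group
  rw [e]; exact ha

theorem conjBy_A_inf_C (h : LineConfig S A B C) {b : G} (hb : b ∈ B) : conjBy A b ⊓ C = ⊥ := by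
  conv_lhs => rw [← h.conjBy_C_of_mem_B hb]
  rw [← conjBy_inf, h.inf_AC, conjBy_bot]

theorem A_inf_conjBy_A (h : LineConfig S A B C) {b : G} (hb : b ∈ B) (hne : conjBy A b ≠ A) :
    A ⊓ conjBy A b = ⊥ := by
  rw [eq_bot_iff]
  rintro x ⟨hxA, hxb⟩
  rw [Subgroup.mem_bot]
  by_contra hx1
  have hxb' : b⁻¹ * x * b ∈ A := mem_conjBy.1 hxb
  have h1 : x⁻¹ * b⁻¹ * x⁻¹⁻¹ * b⁻¹⁻¹ ∈ A ⊓ C := by
    refine Subgroup.mem_inf.2 ⟨?_, h.comm_mem_C (A.inv_mem hxA) (B.inv_mem hb)⟩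
    have := A.mul_mem (A.inv_mem hxA) hxb'
    have e : x⁻¹ * b⁻¹ * x⁻¹⁻¹ * b⁻¹⁻¹ = x⁻¹ * (b⁻¹ * x * b) := by group
    rw [e]; exact this
  rw [h.inf_AC, Subgroup.mem_bot] at h1
  have hxbcomm : x * b = b * x := by
    have e : x * b = b * x * (x⁻¹ * b⁻¹ * x⁻¹⁻¹ * b⁻¹⁻¹) := by group
    rw [e, h1, mul_one]
  have hb1 := h.ct x hxA hx1 b hb hxbcomm
  apply hne
  rw [hb1, conjBy_one]

theorem fam_partition (h : LineConfig S A B C) : IsSubgroupPartition (A ⊔ C) (OppConfig.fam A B C) := by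
  refine ⟨?_, ?_, ?_⟩
  · rintro E (⟨b, hb, rfl⟩ | hE)
    · exact h.conjBy_A_le_N hb
    · rw [Set.mem_singleton_iff] at hE
      rw [hE]; exact le_sup_right
  · intro x hx _
    by_cases hxC : x ∈ C
    · exact ⟨C, Or.inr rfl, hxC⟩
    · obtain ⟨b, hb, hxb⟩ := h.cover hx hxC
      exact ⟨conjBy A b, Or.inl ⟨b, hb, rfl⟩, hxb⟩
  · rintro E (⟨b, hb, rfl⟩ | hE) F (⟨b', hb', rfl⟩ | hF) hne
    · simp only at hne ⊢
      have e : conjBy A b' = conjBy (conjBy A (b⁻¹ * b')) b := by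
        rw [conjBy_conjBy, mul_inv_cancel_left]
      rw [e, ← conjBy_inf]
      have hne' : conjBy A (b⁻¹ * b') ≠ A := by
        intro h1
        apply hne
        rw [e, h1]
      rw [h.A_inf_conjBy_A (B.mul_mem (B.inv_mem hb) hb') hne', conjBy_bot]
    · rw [Set.mem_singleton_iff] at hF
      rw [hF]; exact h.conjBy_A_inf_C hb
    · rw [Set.mem_singleton_iff] at hE
      rw [hE, inf_comm]; exact h.conjBy_A_inf_C hb'
    · rw [Set.mem_singleton_iff] at hE hF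
      exact absurd (hE.trans hF.symm) hne

/-- the isomorphism `b ↦ a⁻¹ b⁻¹ a b` from `B` onto `C` -/
theorem exists_iso (h : LineConfig S A B C) {a : G} (ha : a ∈ A) (ha1 : a ≠ 1) :
    ∃ φ : ↥B ≃* ↥C, ∀ b : ↥B, (φ b : G) = a⁻¹ * (b : G)⁻¹ * a * b := by
  have hmem : ∀ b : B, a⁻¹ * (b : G)⁻¹ * a * b ∈ C := by
    intro b
    have := h.comm_mem_C (A.inv_mem ha) (B.inv_mem b.2)
    simpa using this
  let f : ↥B →* ↥C :=
    { toFun := fun b => ⟨a⁻¹ * (b : G)⁻¹ * a * b, hmem b⟩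
      map_one' := by
        apply Subtype.ext
        simp
      map_mul' := by
        intro b b'
        apply Subtype.ext
        simp only [Subgroup.coe_mul, mul_inv_rev]
        have hc := h.comm_CB (hmem b) b'.2
        have hcc := mul_comm_of_isMulCommutative (h.hS.commutative C h.hC) (hmem b') (hmem b)
        calc a⁻¹ * ((b' : G)⁻¹ * (b : G)⁻¹) * a * ((b : G) * b')
            = a⁻¹ * (b' : G)⁻¹ * a * ((a⁻¹ * (b : G)⁻¹ * a * b) * b') := by group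
          _ = a⁻¹ * (b' : G)⁻¹ * a * ((b' : G) * (a⁻¹ * (b : G)⁻¹ * a * b)) := by rw [hc]
          _ = (a⁻¹ * (b' : G)⁻¹ * a * b') * (a⁻¹ * (b : G)⁻¹ * a * b) := by group
          _ = (a⁻¹ * (b : G)⁻¹ * a * b) * (a⁻¹ * (b' : G)⁻¹ * a * b') := hcc }
  have hinj : Function.Injective f := by
    rw [injective_iff_map_eq_one]
    intro b hb
    have h1 : a⁻¹ * (b : G)⁻¹ * a * b = 1 := congrArg Subtype.val hb
    have h2 : a * (b : G) = b * a := by
      have e : a * (b : G) = b * a * (a⁻¹ * (b : G)⁻¹ * a * b) := by group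
      rw [e, h1, mul_one]
    exact Subtype.ext (h.ct a ha ha1 b b.2 h2)
  have hsurj : Function.Surjective f := by
    rintro ⟨c, hc⟩
    obtain ⟨b', hb', hb'c⟩ := h.surj_a (A.inv_mem ha) (by simpa using ha1) hc
    refine ⟨⟨b'⁻¹, B.inv_mem hb'⟩, ?_⟩
    apply Subtype.ext
    show a⁻¹ * (b'⁻¹)⁻¹ * a * b'⁻¹ = c
    rw [← hb'c]; group
  exact ⟨MulEquiv.ofBijective f ⟨hinj, hsurj⟩, fun b => rfl⟩

end LineConfig

end Cfsg.Agent.Helper94
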