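import Mathlib
import Cfsg.Prelude.Def_RootSubgroups
import Cfsg.Agent.Lib.Helper94.RootLine

set_option autoImplicit false

namespace Cfsg.Agent.Helper94

open Cfsg Cfsg.Agent.Helper83
open scoped commutatorElement

variable {G : Type*} [Group G] {S : Set (Subgroup G)}

/-- If `F` has a rank one partner and `(C, F)` is in the commutator case, then no nontrivial element
of `C` commutes with a nontrivial element of `F`. -/
theorem commutatorCase_commute_trivial (hS : IsRootSubgroupSet S) {F F₀ C : Subgroup G} (hF : F ∈ S)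
    (hF₀ : F₀ ∈ S) (hr : IsRankOnePair F F₀) (hcase : RootCommutatorCase S C F)
    {c f : G} (hc : c ∈ C) (hf : f ∈ F) (hf1 : f ≠ 1) (hcf : c * f = f * c) : c = 1 := by
  by_contra hc1
  have key := root_inf_eq_bot_or_eq hS hF hF₀ hr
  have hmem : f ∈ F ⊓ conjBy F c := by
    refine Subgroup.mem_inf.2 ⟨hf, ?_⟩
    rw [mem_conjBy]
    have e : c⁻¹ * f * c = c⁻¹ * (f * c) := by group
    rw [e, ← hcf, inv_mul_cancel_left]
    exact hf
  have hFc : F = conjBy F c := by
    rcases key (conjBy F c) (hS.conj_mem F hF c) with h1 | h1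
    · rw [h1, Subgroup.mem_bot] at hmem; exact absurd hmem hf1
    · exact h1
  have hKF : ⁅C, F⁆ ≤ F := by
    rw [← hcase.2.2.1 c hc hc1, Subgroup.closure_le]
    rintro _ ⟨f', hf', rfl⟩
    have : c * f' * c⁻¹ ∈ conjBy F c := conj_mem_conjBy hf'
    rw [← hFc] at this
    exact F.mul_mem this (F.inv_mem hf')
  have hK : F = ⁅C, F⁆ := by
    rcases key _ hcase.1 with h1 | h1
    · rw [inf_eq_right.2 hKF] at h1
      exact absurd h1 (hS.ne_bot _ hcase.1)
    · exact h1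
  have : ⁅C, F⁆ = ⊥ := by
    rw [Subgroup.commutator_eq_bot_iff_le_centralizer, Subgroup.le_centralizer_iff]
    have := commutatorCase_le_centralizer_left hcase
    rwa [← hK] at this
  exact hS.ne_bot _ hcase.1 this

/-- If `F` has a rank one partner and `(C, F)` is in the commutator case, then `C` contains no
other member of `S`. -/
theorem eq_of_le_of_commutatorCase (hS : IsRootSubgroupSet S) {F F₀ C E : Subgroup G} (hF : F ∈ S)
    (hF₀ : F₀ ∈ S) (hr : IsRankOnePair F F₀) (hC : C ∈ S) (hcase : RootCommutatorCase S C F)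
    (hE : E ∈ S) (hle : E ≤ C) : E = C := by
  obtain ⟨e, he, he1⟩ := exists_mem_ne_one_of_ne_bot (hS.ne_bot E hE)
  obtain ⟨f, hf, hf1⟩ := exists_mem_ne_one_of_ne_bot (hS.ne_bot F hF)
  have hEF : ⁅E, F⁆ = ⁅C, F⁆ := by
    apply le_antisymm (Subgroup.commutator_mono hle le_rfl)
    rw [← hcase.2.2.1 e (hle he) he1, Subgroup.closure_le]
    rintro _ ⟨f', hf', rfl⟩
    exact commutatorElement_mem_commutator' he hf'
  have hcaseE : RootCommutatorCase S E F :=
    commutatorCase_of_mem hS hE hF (by rw [hEF]; exact hcase.1)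
  apply le_antisymm hle
  intro c hc
  have hk : c * f * c⁻¹ * f⁻¹ ∈ ⁅E, F⁆ := by
    rw [hEF]; exact commutatorElement_mem_commutator' hc hf
  obtain ⟨e', he', hee⟩ := commutatorCase_surj_left hcaseE hf hf1 _ hk
  have h1 : e' * f * e'⁻¹ = c * f * c⁻¹ := mul_right_cancel hee
  have h2 : (c⁻¹ * e') * f = f * (c⁻¹ * e') := by
    calc (c⁻¹ * e') * f = c⁻¹ * (e' * f * e'⁻¹) * e' := by group
      _ = c⁻¹ * (c * f * c⁻¹) * e' := by rw [h1]
      _ = f * (c⁻¹ * e') := by group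
  have h3 := commutatorCase_commute_trivial hS hF hF₀ hr hcase
    (C.mul_mem (C.inv_mem hc) (hle he')) hf hf1 h2
  have : c = e' := by
    have := congrArg (fun x => c * x) h3
    simpa using this.symm
  rw [this]; exact he'

/-- If `A` has a rank one partner and `⁅A, B⁆ ∈ S` then we are in a line configuration. -/
theorem lineConfig_of_rankOne (hS : IsRootSubgroupSet S) {A B D₀ : Subgroup G} (hA : A ∈ S)
    (hB : B ∈ S) (hD₀ : D₀ ∈ S) (hr : IsRankOnePair A D₀) (hC : ⁅A, B⁆ ∈ S) :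
    LineConfig S A B ⁅A, B⁆ := by
  have key := root_inf_eq_bot_or_eq hS hA hD₀ hr
  have hcase := commutatorCase_of_mem hS hA hB hC
  have hne : A ≠ ⁅A, B⁆ := by
    intro h1
    have : ⁅A, B⁆ = ⊥ := by
      rw [Subgroup.commutator_eq_bot_iff_le_centralizer]
      have := commutatorCase_le_centralizer_right hcase
      rwa [← h1] at this
    exact hS.ne_bot _ hC this
  have hinf : A ⊓ ⁅A, B⁆ = ⊥ := by
    rcases key _ hC with h1 | h1
    · exact h1
    · exact absurd h1 hne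
  refine ⟨hS, hA, hB, hC, rfl, hinf, ?_⟩
  intro a ha ha1 b hb hab
  by_contra hb1
  have hmem : a ∈ A ⊓ conjBy A b := by
    refine Subgroup.mem_inf.2 ⟨ha, ?_⟩
    rw [mem_conjBy]
    have e : b⁻¹ * a * b = b⁻¹ * (a * b) := by group
    rw [e, hab, inv_mul_cancel_left]
    exact ha
  have hAb : A = conjBy A b := by
    rcases key (conjBy A b) (hS.conj_mem A hA b) with h1 | h1
    · rw [h1, Subgroup.mem_bot] at hmem; exact absurd hmem ha1
    · exact h1
  have hCA : ⁅A, B⁆ ≤ A := by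
    rw [← hcase.2.2.2 b hb hb1, Subgroup.closure_le]
    rintro _ ⟨a', ha', rfl⟩
    have : b * a'⁻¹ * b⁻¹ ∈ conjBy A b := conj_mem_conjBy (A.inv_mem ha')
    rw [← hAb] at this
    have := A.mul_mem ha' this
    have e : a' * b * a'⁻¹ * b⁻¹ = a' * (b * a'⁻¹ * b⁻¹) := by group
    show a' * b * a'⁻¹ * b⁻¹ ∈ A
    rw [e]; exact this
  rcases key _ hC with h1 | h1
  · rw [inf_eq_right.2 hCA] at h1
    exact hS.ne_bot _ hC h1
  · exact hne h1

/-- If `A` has a rank one partner `D₀` and `C = ⁅A, B⁆ ∈ S` then `C` does not commute with `D₀`. -/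
theorem commutator_ne_bot_of_rankOne (hS : IsRootSubgroupSet S) {A B D₀ : Subgroup G} (hA : A ∈ S)
    (hB : B ∈ S) (hD₀ : D₀ ∈ S) (hr : IsRankOnePair A D₀) (hC : ⁅A, B⁆ ∈ S) :
    ⁅⁅A, B⁆, D₀⁆ ≠ ⊥ := by
  intro hcomm
  rw [Subgroup.commutator_eq_bot_iff_le_centralizer] at hcomm
  have h := lineConfig_of_rankOne hS hA hB hD₀ hr hC
  have key := root_inf_eq_bot_or_eq hS hA hD₀ hr
  obtain ⟨b, hb, hb1⟩ := exists_mem_ne_one_of_ne_bot (hS.ne_bot B hB)
  have hA'S : conjBy A b ∈ S := hS.conj_mem A hA b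
  have hA'N : conjBy A b ≤ A ⊔ ⁅A, B⁆ := h.conjBy_A_le_N hb
  -- elements of `conjBy A b` and of `A` correspond modulo `C`
  have hcd : ∀ c ∈ ⁅A, B⁆, ∀ d ∈ D₀, c * d = d * c := fun c hc d hd =>
    commute_of_le_centralizer hcomm hc hd
  have hcomEq : ∀ a ∈ A, ∀ c ∈ ⁅A, B⁆, ∀ d ∈ D₀,
      (a * c) * d * (a * c)⁻¹ * d⁻¹ = a * d * a⁻¹ * d⁻¹ := by
    intro a _ c hc d hd
    have := hcd c hc d hd
    calc (a * c) * d * (a * c)⁻¹ * d⁻¹ = a * (c * d) * c⁻¹ * a⁻¹ * d⁻¹ := by group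
      _ = a * (d * c) * c⁻¹ * a⁻¹ * d⁻¹ := by rw [this]
      _ = a * d * a⁻¹ * d⁻¹ := by group
  have hcorr : ∀ a ∈ A, ∃ c ∈ ⁅A, B⁆, a * c ∈ conjBy A b := by
    intro a ha
    refine ⟨a⁻¹ * b * a⁻¹⁻¹ * b⁻¹, commutatorElement_mem_commutator' (A.inv_mem ha) hb, ?_⟩
    have e : a * (a⁻¹ * b * a⁻¹⁻¹ * b⁻¹) = b * a * b⁻¹ := by group
    rw [e]; exact conj_mem_conjBy ha
  -- `(conjBy A b, D₀)` is a rank one pair
  have hr' : IsRankOnePair (conjBy A b) D₀ := by
    rcases hS.pair _ hA'S D₀ hD₀ with h1 | h1 | h1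
    · exfalso
      rw [Subgroup.commutator_eq_bot_iff_le_centralizer] at h1
      apply rankOne_not_le_centralizer hr
      intro a ha
      obtain ⟨c, hc, hac⟩ := hcorr a ha
      have := Subgroup.mul_mem _ (h1 hac) (Subgroup.inv_mem _ (hcomm hc))
      rwa [mul_inv_cancel_right] at this
    · exact h1
    · exfalso
      have heq : ⁅conjBy A b, D₀⁆ = ⁅A, D₀⁆ := by
        apply le_antisymm
        · rw [Subgroup.commutator_le]
          intro y hy d hd
          obtain ⟨a, ha, c, hc, rfl⟩ := h.mem_N_iff.1 (hA'N hy)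
          rw [commutatorElement_def, hcomEq a ha c hc d hd]
          exact commutatorElement_mem_commutator' ha hd
        · rw [Subgroup.commutator_le]
          intro a ha d hd
          obtain ⟨c, hc, hac⟩ := hcorr a ha
          rw [commutatorElement_def, ← hcomEq a ha c hc d hd]
          exact commutatorElement_mem_commutator' hac hd
      have := h1.1
      rw [heq] at this
      exact rankOne_commutator_not_mem hS hA hD₀ hr this
  obtain ⟨d, hd, hd1⟩ := exists_mem_ne_one_of_ne_bot (hS.ne_bot D₀ hD₀)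
  obtain ⟨y, hy, hy1, hyd⟩ := hr'.cond_right d hd hd1
  obtain ⟨a₂, ha₂, c₂, hc₂, rfl⟩ := h.mem_N_iff.1 (hA'N hy)
  have hy' : conjBy D₀ (a₂ * c₂)⁻¹ = conjBy D₀ a₂⁻¹ := by
    have e : (a₂ * c₂)⁻¹ = a₂⁻¹ * c₂⁻¹ := by
      rw [← h.comm_CA hc₂ ha₂, mul_inv_rev]
    rw [e, ← conjBy_conjBy, conjBy_eq_self_of_mem_centralizer (Subgroup.inv_mem _ (hcomm hc₂))]
  rw [hy'] at hyd
  have ha₂1 : a₂ ≠ 1 := by
    intro h1
    rw [h1, inv_one, conjBy_one] at hyd
    have : conjBy A b = D₀ := by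
      have h2 := congrArg (fun X => conjBy X d) hyd
      rw [conjBy_conjBy_inv, conjBy_eq_self_of_mem hd] at h2
      exact h2.symm
    exact hr'.ne this
  obtain ⟨d₂, hd₂, _, hd₂e⟩ := hr.cond_left a₂ ha₂ ha₂1
  -- `conjBy A b = conjBy A (d * d₂⁻¹)`
  have hA' : conjBy A b = conjBy A (d * d₂⁻¹) := by
    rw [← conjBy_conjBy, hd₂e, hyd, conjBy_conjBy_inv]
  by_cases hnorm : conjBy A (d * d₂⁻¹) = A
  · -- then `b` normalizes `A`
    rw [hnorm] at hA'
    have hCA : ⁅A, B⁆ ≤ A := by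
      rw [← h.case.2.2.2 b hb hb1, Subgroup.closure_le]
      rintro _ ⟨a', ha', rfl⟩
      have : b * a'⁻¹ * b⁻¹ ∈ conjBy A b := conj_mem_conjBy (A.inv_mem ha')
      rw [hA'] at this
      have := A.mul_mem ha' this
      have e : a' * b * a'⁻¹ * b⁻¹ = a' * (b * a'⁻¹ * b⁻¹) := by group
      show a' * b * a'⁻¹ * b⁻¹ ∈ A
      rw [e]; exact this
    have := h.inf_AC
    rw [inf_eq_right.2 hCA] at this
    exact hS.ne_bot _ hC this
  · have hmem : conjBy A (d * d₂⁻¹) ∈ unipotentSubgroups A D₀ :=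
      ⟨d * d₂⁻¹, Subgroup.mem_sup_right (D₀.mul_mem hd (D₀.inv_mem hd₂)), rfl⟩
    have hr'' := isRankOnePair_of_mem hr (left_mem_unipotentSubgroups A D₀) hmem (Ne.symm hnorm)
    apply rankOne_not_le_centralizer hr''
    rw [← hA', Subgroup.le_centralizer_iff]
    exact hA'N.trans h.N_le_centralizer_A

/-- Members of `S` inside `A ⊔ ⁅A, B⁆` when `A` has a rank one partner. -/
theorem membersIn_eq_fam (hS : IsRootSubgroupSet S) {A B D₀ : Subgroup G} (hA : A ∈ S)
    (hB : B ∈ S) (hD₀ : D₀ ∈ S) (hr : IsRankOnePair A D₀) (hC : ⁅A, B⁆ ∈ S) :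
    membersIn S (A ⊔ ⁅A, B⁆) = OppConfig.fam A B ⁅A, B⁆ := by
  have h := lineConfig_of_rankOne hS hA hB hD₀ hr hC
  apply Set.Subset.antisymm
  · rintro E ⟨hE, hle⟩
    by_cases hEC : E ≤ ⁅A, B⁆
    · right
      rw [Set.mem_singleton_iff]
      rcases hS.pair _ hC D₀ hD₀ with h1 | h1 | h1
      · exact absurd h1 (commutator_ne_bot_of_rankOne hS hA hB hD₀ hr hC)
      · rcases root_inf_eq_bot_or_eq hS hC hD₀ h1 E hE with h2 | h2
        · rw [inf_eq_right.2 hEC] at h2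
          exact absurd h2 (hS.ne_bot E hE)
        · exact h2.symm
      · exact eq_of_le_of_commutatorCase hS hD₀ hA (RankOnePair_symm hr) hC h1 hE hEC
    · left
      obtain ⟨e, he, heC⟩ := SetLike.not_le_iff_exists.1 hEC
      obtain ⟨b, hb, heb⟩ := h.cover (hle he) heC
      refine ⟨b, hb, ?_⟩
      have hr' : IsRankOnePair (conjBy A b) (conjBy D₀ b) := isRankOnePair_conjBy hr b
      rcases root_inf_eq_bot_or_eq hS (hS.conj_mem A hA b) (hS.conj_mem D₀ hD₀ b) hr' E hE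
        with h2 | h2
      · have : e ∈ conjBy A b ⊓ E := Subgroup.mem_inf.2 ⟨heb, he⟩
        rw [h2, Subgroup.mem_bot] at this
        exfalso
        apply heC
        rw [this]; exact Subgroup.one_mem _
      · exact h2
  · rintro E (⟨b, hb, rfl⟩ | hE)
    · exact ⟨hS.conj_mem A hA b, h.conjBy_A_le_N hb⟩
    · rw [Set.mem_singleton_iff] at hE
      rw [hE]
      exact ⟨hC, le_sup_right⟩

end Cfsg.Agent.Helper94
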