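import Mathlib
import Cfsg.Prelude.Def_RootSubgroups
import Cfsg.Agent.Lib.Helper94.RootLine2

set_option autoImplicit false

namespace Cfsg.Agent.Helper94

open Cfsg Cfsg.Agent.Helper83
open scoped commutatorElement

variable {G : Type*} [Group G] {S : Set (Subgroup G)}

/-! ### Components of the graph of rank one pairs -/

theorem fadj_symm {A B : Subgroup G} (h : FAdj S A B) : FAdj S B A :=
  ⟨h.2.1, h.1, RankOnePair_symm h.2.2⟩

theorem reach_symm {A B : Subgroup G} (h : Relation.ReflTransGen (FAdj S) A B) :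
    Relation.ReflTransGen (FAdj S) B A := by
  induction h with
  | refl => exact Relation.ReflTransGen.refl
  | tail _ hbc ih => exact Relation.ReflTransGen.head (fadj_symm hbc) ih

theorem componentOf_eq_of_reach {A B : Subgroup G} (h : Relation.ReflTransGen (FAdj S) A B) :
    componentOf (FAdj S) S A = componentOf (FAdj S) S B := by
  ext X
  constructor
  · rintro ⟨hX, hAX⟩
    exact ⟨hX, (reach_symm h).trans hAX⟩
  · rintro ⟨hX, hBX⟩
    exact ⟨hX, h.trans hBX⟩

theorem reach_of_rankOne {A B : Subgroup G} (hA : A ∈ S) (hB : B ∈ S) (h : IsRankOnePair A B) :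
    Relation.ReflTransGen (FAdj S) A B :=
  Relation.ReflTransGen.single ⟨hA, hB, h⟩

/-- a member whose component has another member has a rank one partner -/
theorem exists_rankOne_of_component {A : Subgroup G}
    (h : ∃ A' ∈ componentOf (FAdj S) S A, A' ≠ A) : ∃ A₁ ∈ S, IsRankOnePair A A₁ := by
  obtain ⟨A', ⟨_, hreach⟩, hne⟩ := h
  rcases Relation.ReflTransGen.cases_head hreach with h1 | ⟨A₁, hadj, _⟩
  · exact absurd h1.symm hne
  · exact ⟨A₁, hadj.2.1, hadj.2.2⟩

/-- If `(A, A₁)` is a rank one pair, `B` commutes with `A` and is not a rank one partner of `A₁`, then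
any member containing a product `a b` with `1 ≠ a ∈ A`, `b ∈ B` is a rank one partner of `A₁`. -/
theorem rankOne_of_mul_mem (hS : IsRootSubgroupSet S) {A A₁ B E : Subgroup G} (hA : A ∈ S)
    (hA₁ : A₁ ∈ S) (hB : B ∈ S) (hE : E ∈ S) (hr : IsRankOnePair A A₁) (hAB : ⁅A, B⁆ = ⊥)
    (hnr : ¬ IsRankOnePair B A₁) {a b : G} (ha : a ∈ A) (ha1 : a ≠ 1) (hb : b ∈ B)
    (he : a * b ∈ E) : IsRankOnePair E A₁ := by
  by_contra hnot
  have hA₁c : A₁ ≤ Subgroup.centralizer (A₁ : Set G) :=
    le_centralizer_self_of_comm (hS.commutative A₁ hA₁)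
  have key : ∀ F ∈ S, ¬ IsRankOnePair F A₁ → ∀ x ∈ F, conjBy A₁ x ≤ Subgroup.centralizer (A₁ : Set G) := by
    intro F hF hFn x hx
    rcases hS.pair F hF A₁ hA₁ with h1 | h1 | h1
    · rw [Subgroup.commutator_eq_bot_iff_le_centralizer] at h1
      rw [conjBy_eq_self_of_mem_centralizer (h1 hx)]
      exact hA₁c
    · exact absurd h1 hFn
    · exact (conjBy_le_sup_commutator hx).trans
        (sup_le hA₁c (commutatorCase_le_centralizer_right h1))
  have h1 := key E hE hnot _ he
  have h2 := key B hB hnr _ hb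
  rw [← conjBy_conjBy] at h1
  have hbA : conjBy A b = A := by
    rw [Subgroup.commutator_eq_bot_iff_le_centralizer, Subgroup.le_centralizer_iff] at hAB
    exact conjBy_eq_self_of_mem_centralizer (hAB hb)
  have hrY : IsRankOnePair A (conjBy A₁ b) := by
    have := isRankOnePair_conjBy hr b
    rwa [hbA] at this
  have hne : conjBy A₁ b ≠ conjBy (conjBy A₁ b) a := by
    intro h3
    exact ha1 (rankOne_eq_one_of_normalizes hrY ha h3.symm)
  have hsup := rankOne_sup_eq_of_mem (RankOnePair_symm hrY)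
    (left_mem_unipotentSubgroups (conjBy A₁ b) A)
    (⟨a, Subgroup.mem_sup_right ha, rfl⟩ : conjBy (conjBy A₁ b) a ∈ unipotentSubgroups (conjBy A₁ b) A)
    hne
  have h3 : A ≤ Subgroup.centralizer (A₁ : Set G) := by
    have : conjBy A₁ b ⊔ conjBy (conjBy A₁ b) a ≤ Subgroup.centralizer (A₁ : Set G) := sup_le h2 h1
    rw [hsup] at this
    exact le_sup_right.trans this
  exact rankOne_not_le_centralizer hr h3

/-- Members in different nontrivial components are not joined by a member containing a product of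
nontrivial elements. -/
theorem component_eq_of_mul_mem (hS : IsRootSubgroupSet S) {A B A₁ B₁ E : Subgroup G} (hA : A ∈ S)
    (hB : B ∈ S) (hA₁ : A₁ ∈ S) (hB₁ : B₁ ∈ S) (hE : E ∈ S) (hrA : IsRankOnePair A A₁)
    (hrB : IsRankOnePair B B₁) (hAB : ⁅A, B⁆ = ⊥) {a b : G} (ha : a ∈ A) (ha1 : a ≠ 1) (hb : b ∈ B)
    (hb1 : b ≠ 1) (he : a * b ∈ E) :
    componentOf (FAdj S) S A = componentOf (FAdj S) S B := by
  by_contra hne
  have hnr1 : ¬ IsRankOnePair B A₁ := by
    intro h1
    apply hne
    exact componentOf_eq_of_reach ((reach_of_rankOne hA hA₁ hrA).trans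
      (reach_of_rankOne hA₁ hB (RankOnePair_symm h1)))
  have hnr2 : ¬ IsRankOnePair A B₁ := by
    intro h1
    apply hne
    exact componentOf_eq_of_reach ((reach_of_rankOne hA hB₁ h1).trans
      (reach_of_rankOne hB₁ hB (RankOnePair_symm hrB)))
  have hab : a * b = b * a := by
    rw [Subgroup.commutator_eq_bot_iff_le_centralizer] at hAB
    exact commute_of_le_centralizer hAB ha hb
  have hBA : ⁅B, A⁆ = ⊥ := by rw [Subgroup.commutator_comm]; exact hAB
  have h1 := rankOne_of_mul_mem hS hA hA₁ hB hE hrA hAB hnr1 ha ha1 hb he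
  have h2 := rankOne_of_mul_mem hS hB hB₁ hA hE hrB hBA hnr2 hb hb1 ha (by rw [← hab]; exact he)
  apply hne
  exact componentOf_eq_of_reach (((reach_of_rankOne hA hA₁ hrA).trans
    (reach_of_rankOne hA₁ hE (RankOnePair_symm h1))).trans
    ((reach_of_rankOne hE hB₁ h2).trans (reach_of_rankOne hB₁ hB (RankOnePair_symm hrB))))

end Cfsg.Agent.Helper94
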