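import Mathlib
import Cfsg.Prelude.Def_RootSubgroups
import Cfsg.Agent.Lib.Helper94.RootComp

set_option autoImplicit false

namespace Cfsg.Agent.Helper94

open Cfsg Cfsg.Agent.Helper83
open scoped commutatorElement

variable {G : Type*} [Group G] {S : Set (Subgroup G)}

theorem fadj_conj (hS : IsRootSubgroupSet S) {A B : Subgroup G} (h : FAdj S A B) (g : G) :
    FAdj S (conjBy A g) (conjBy B g) :=
  ⟨hS.conj_mem A h.1 g, hS.conj_mem B h.2.1 g, isRankOnePair_conjBy h.2.2 g⟩

theorem reach_conj (hS : IsRootSubgroupSet S) {A B : Subgroup G}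
    (h : Relation.ReflTransGen (FAdj S) A B) (g : G) :
    Relation.ReflTransGen (FAdj S) (conjBy A g) (conjBy B g) := by
  induction h with
  | refl => exact Relation.ReflTransGen.refl
  | tail _ hbc ih => exact Relation.ReflTransGen.tail ih (fadj_conj hS hbc g)

/-- members joined by a path are conjugate -/
theorem conj_of_reach {A B : Subgroup G} (h : Relation.ReflTransGen (FAdj S) A B) :
    ∃ g : G, B = conjBy A g := by
  induction h with
  | refl => exact ⟨1, (conjBy_one A).symm⟩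
  | tail _ hbc ih =>
    obtain ⟨g, rfl⟩ := ih
    obtain ⟨x, _, hx⟩ := right_mem_unipotentSubgroups hbc.2.2
    exact ⟨x * g, by rw [hx, conjBy_conjBy]⟩

/-- If both `E` and `F` have rank one partners and are in the commutator case, they lie in the
same component. -/
theorem component_eq_of_commutatorCase (hS : IsRootSubgroupSet S) {E F E₁ K₁ : Subgroup G}
    (hE : E ∈ S) (hF : F ∈ S) (hE₁ : E₁ ∈ S) (hrE : IsRankOnePair E E₁) (hK : ⁅E, F⁆ ∈ S)
    (hK₁ : K₁ ∈ S) (hrK : IsRankOnePair ⁅E, F⁆ K₁) :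
    componentOf (FAdj S) S E = componentOf (FAdj S) S ⁅E, F⁆ := by
  have h := lineConfig_of_rankOne hS hE hF hE₁ hrE hK
  obtain ⟨e, he, he1⟩ := exists_mem_ne_one_of_ne_bot (hS.ne_bot E hE)
  obtain ⟨b, hb, hb1⟩ := exists_mem_ne_one_of_ne_bot (hS.ne_bot F hF)
  have hk : e⁻¹ * b * e⁻¹⁻¹ * b⁻¹ ∈ ⁅E, F⁆ := h.comm_mem_C (E.inv_mem he) hb
  have hk1 : e⁻¹ * b * e⁻¹⁻¹ * b⁻¹ ≠ 1 := by
    intro h1
    apply hb1
    apply h.ct e he he1 b hb
    have e1 : b * e = e * (e⁻¹ * b * e⁻¹⁻¹ * b⁻¹) * b := by group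
    rw [h1, mul_one] at e1
    exact e1.symm
  have hmem : e * (e⁻¹ * b * e⁻¹⁻¹ * b⁻¹) ∈ conjBy E b := by
    have e1 : e * (e⁻¹ * b * e⁻¹⁻¹ * b⁻¹) = b * e * b⁻¹ := by group
    rw [e1]; exact conj_mem_conjBy he
  have hcomm : ⁅E, ⁅E, F⁆⁆ = ⊥ := by
    rw [Subgroup.commutator_eq_bot_iff_le_centralizer, Subgroup.le_centralizer_iff]
    exact h.C_le_centralizer_A
  exact component_eq_of_mul_mem hS hE hK hE₁ hK₁ (hS.conj_mem E hE b) hrE hrK hcomm he he1 hk hk1 hmem

/-- If every member has a rank one partner, two members commute or lie in the same component. -/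
theorem commute_or_component_eq (hS : IsRootSubgroupSet S)
    (hall : ∀ E ∈ S, ∃ E₁ ∈ S, IsRankOnePair E E₁) {E F : Subgroup G} (hE : E ∈ S) (hF : F ∈ S) :
    ⁅E, F⁆ = ⊥ ∨ componentOf (FAdj S) S E = componentOf (FAdj S) S F := by
  rcases hS.pair E hE F hF with h1 | h1 | h1
  · exact Or.inl h1
  · exact Or.inr (componentOf_eq_of_reach (reach_of_rankOne hE hF h1))
  · right
    obtain ⟨E₁, hE₁, hrE⟩ := hall E hE
    obtain ⟨F₁, hF₁, hrF⟩ := hall F hF
    obtain ⟨K₁, hK₁, hrK⟩ := hall _ h1.1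
    have h2 := component_eq_of_commutatorCase hS hE hF hE₁ hrE h1.1 hK₁ hrK
    have hK' : ⁅F, E⁆ ∈ S := by rw [Subgroup.commutator_comm]; exact h1.1
    have hrK' : IsRankOnePair ⁅F, E⁆ K₁ := by rw [Subgroup.commutator_comm]; exact hrK
    have h3 := component_eq_of_commutatorCase hS hF hE hF₁ hrF hK' hK₁ hrK'
    rw [Subgroup.commutator_comm F E] at h3
    rw [h2, h3]

/-- If every member has a rank one partner, every component is invariant under conjugation. -/
theorem top_le_famStab_component (hS : IsRootSubgroupSet S)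
    (hall : ∀ E ∈ S, ∃ E₁ ∈ S, IsRankOnePair E E₁) {A₀ : Subgroup G} (_hA₀ : A₀ ∈ S) :
    (⊤ : Subgroup G) ≤ famStab (componentOf (FAdj S) S A₀) := by
  rw [← hS.generates]
  apply iSup₂_le
  intro E hE
  have key : ∀ e ∈ E, ∀ X ∈ componentOf (FAdj S) S A₀, conjBy X e ∈ componentOf (FAdj S) S A₀ := by
    rintro e he X ⟨hX, hreach⟩
    rcases commute_or_component_eq hS hall hE hX with h1 | h1
    · rw [Subgroup.commutator_eq_bot_iff_le_centralizer] at h1
      rw [conjBy_eq_self_of_mem_centralizer (h1 he)]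
      exact ⟨hX, hreach⟩
    · have hXE : X ∈ componentOf (FAdj S) S E := by
        rw [h1]; exact ⟨hX, Relation.ReflTransGen.refl⟩
      have h2 := reach_conj hS hXE.2 e
      rw [conjBy_eq_self_of_mem he] at h2
      have h3 : conjBy X e ∈ componentOf (FAdj S) S E := ⟨hS.conj_mem X hX e, h2⟩
      rw [h1, ← componentOf_eq_of_reach hreach] at h3
      exact h3
  intro e he
  rw [mem_famStab]
  intro X hX
  exact ⟨key e he X hX, key e⁻¹ (E.inv_mem he) X hX⟩

end Cfsg.Agent.Helper94
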