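import Mathlib
import Cfsg.Agent.Lib.Helper32.C3Defs

/-!
# C3 server (helper32, S4415): piece I2 `dl_mem_of_mem_commutator`
-/

set_option autoImplicit false

namespace Cfsg.Agent.Helper94.C3

open Cfsg.Agent.Helper32.C3

open scoped commutatorElement

universe u v

/-- the subgroup of `g ∈ H` with `(g - 1) F ≤ N` -/
def h94c3Sub {G : Type u} [Group G] {V : Type v} [AddCommGroup V]
    [Module (ZMod 3) V] (ρ : Representation (ZMod 3) G V) (H : Subgroup G)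
    (N F : Submodule (ZMod 3) V) (hN : Inv ρ H N) (hF : Inv ρ H F) : Subgroup G where
  carrier := {g | g ∈ H ∧ ∀ v ∈ F, ρ g v - v ∈ N}
  one_mem' := by
    refine ⟨H.one_mem, fun v _ => ?_⟩
    simp
  mul_mem' := by
    rintro g g' ⟨hg, hg1⟩ ⟨hg', hg1'⟩
    refine ⟨H.mul_mem hg hg', fun v hv => ?_⟩
    have e : ρ (g * g') v - v = ρ g (ρ g' v - v) + (ρ g v - v) := by
      rw [map_mul, Module.End.mul_apply, map_sub]; abel
    rw [e]
    exact N.add_mem (hN g hg _ (hg1' v hv)) (hg1 v hv)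
  inv_mem' := by
    rintro g ⟨hg, hg1⟩
    refine ⟨H.inv_mem hg, fun v hv => ?_⟩
    have e : ρ g⁻¹ v - v = -(ρ g⁻¹ (ρ g v - v)) := by
      rw [map_sub, ← Module.End.mul_apply, ← map_mul, inv_mul_cancel, map_one,
        Module.End.one_apply]; abel
    rw [e]
    exact N.neg_mem (hN g⁻¹ (H.inv_mem hg) _ (hg1 v hv))

theorem dl_mem_of_mem_commutator {G : Type u} [Group G] {V : Type v} [AddCommGroup V]
    [Module (ZMod 3) V] (ρ : Representation (ZMod 3) G V) (H : Subgroup G) (b : G) (hbH : b ∈ H)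
    (N F : Submodule (ZMod 3) V) (hN : Inv ρ H N) (hF : Inv ρ H F)
    (hb : ∀ v ∈ F, ρ b v - v ∈ N) :
    ∀ r ∈ ⁅H, Subgroup.zpowers b⁆, ∀ v ∈ F, ρ r v - v ∈ N := by
  set T : Subgroup G := h94c3Sub ρ H N F hN hF with hT
  have hbT : b ∈ T := ⟨hbH, hb⟩
  have hzT : Subgroup.zpowers b ≤ T := by
    rw [Subgroup.zpowers_le]; exact hbT
  have hconj : ∀ h ∈ H, ∀ g ∈ T, h * g * h⁻¹ ∈ T := by
    rintro h hh g ⟨hg, hg1⟩
    refine ⟨H.mul_mem (H.mul_mem hh hg) (H.inv_mem hh), fun v hv => ?_⟩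
    have hw : ρ h⁻¹ v ∈ F := hF h⁻¹ (H.inv_mem hh) v hv
    have e : ρ (h * g * h⁻¹) v - v = ρ h (ρ g (ρ h⁻¹ v) - ρ h⁻¹ v) := by
      rw [map_sub, ← Module.End.mul_apply (ρ h) (ρ h⁻¹), ← map_mul, mul_inv_cancel, map_one,
        Module.End.one_apply, map_mul, map_mul, Module.End.mul_apply, Module.End.mul_apply]
    rw [e]
    exact hN h hh _ (hg1 _ hw)
  have hle : ⁅H, Subgroup.zpowers b⁆ ≤ T := by
    rw [Subgroup.commutator_le]
    intro h hh c hc
    have hcT : c ∈ T := hzT hc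
    have : ⁅h, c⁆ = (h * c * h⁻¹) * c⁻¹ := by
      rw [commutatorElement_def]
    rw [this]
    exact T.mul_mem (hconj h hh c hcT) (T.inv_mem hcT)
  intro r hr v hv
  exact (hle hr).2 v hv

end Cfsg.Agent.Helper94.C3
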