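import Mathlib
import Cfsg.Agent.Lib.Helper32.C3Defs

/-!
# C3 server (helper32, S4415): piece I3 `irred_core`
-/

set_option autoImplicit false

namespace Cfsg.Agent.Helper94.C3

open Cfsg.Agent.Helper32.C3

universe u v

theorem irred_core {G : Type u} [Group G] {V : Type v} [AddCommGroup V] [Module (ZMod 3) V]
    [Finite V] (ρ : Representation (ZMod 3) G V) (R Q : Subgroup G) (b : G)
    (hc : Cubic ρ b) (hcomm : ⁅R, Subgroup.zpowers b⁆ = R) (hQR : Q ≤ R)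
    (hfixQ : ∀ v ∈ fixS ρ Q, ρ b v = v)
    (hdec : fixS ρ R ⊓ comS ρ R = ⊥)
    (hidem : Submodule.span (ZMod 3) {w | ∃ x ∈ R, ∃ v ∈ comS ρ R, w = ρ x v - v} = comS ρ R)
    (hF : Inv ρ (R ⊔ Subgroup.zpowers b) (comS ρ R))
    (hI1 : ∀ M : Submodule (ZMod 3) V, (∀ q ∈ Q, ∀ v ∈ M, ρ q v ∈ M) → (∀ v ∈ M, ρ b v ∈ M) →
      (∃ q ∈ Q, ∃ v ∈ M, ρ q v ≠ v) → 2 ≤ Module.finrank (ZMod 3) ↥(M.map (dl ρ b)))
    (hI2 : ∀ N F : Submodule (ZMod 3) V, Inv ρ (R ⊔ Subgroup.zpowers b) N →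
      Inv ρ (R ⊔ Subgroup.zpowers b) F → (∀ v ∈ F, ρ b v - v ∈ N) →
      ∀ r ∈ ⁅R ⊔ Subgroup.zpowers b, Subgroup.zpowers b⁆, ∀ v ∈ F, ρ r v - v ∈ N)
    (N : Submodule (ZMod 3) V) (hN : N ≤ comS ρ R) (hNinv : Inv ρ (R ⊔ Subgroup.zpowers b) N) :
    N = ⊥ ∨ N = comS ρ R := by
  by_cases hN0 : N = ⊥
  · exact Or.inl hN0
  right
  have hRle : R ≤ R ⊔ Subgroup.zpowers b := le_sup_left
  have hbG : b ∈ R ⊔ Subgroup.zpowers b :=
    (le_sup_right : Subgroup.zpowers b ≤ R ⊔ Subgroup.zpowers b) (Subgroup.mem_zpowers b)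
  have hRcomm : R ≤ ⁅R ⊔ Subgroup.zpowers b, Subgroup.zpowers b⁆ := by
    calc R = ⁅R, Subgroup.zpowers b⁆ := hcomm.symm
      _ ≤ ⁅R ⊔ Subgroup.zpowers b, Subgroup.zpowers b⁆ := Subgroup.commutator_mono hRle le_rfl
  have hbot : Inv ρ (R ⊔ Subgroup.zpowers b) (⊥ : Submodule (ZMod 3) V) := by
    intro h _ v hv
    rw [Submodule.mem_bot] at hv ⊢
    rw [hv, map_zero]
  -- (1) b is not trivial on N
  have h1 : ¬ ∀ v ∈ N, ρ b v = v := by
    intro htriv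
    have key := hI2 ⊥ N hbot hNinv (fun v hv => by
      rw [Submodule.mem_bot, htriv v hv, sub_self])
    apply hN0
    rw [eq_bot_iff]
    intro v hv
    rw [← hdec]
    refine ⟨?_, hN hv⟩
    intro r hr
    have := key r (hRcomm hr) v hv
    rw [Submodule.mem_bot, sub_eq_zero] at this
    exact this
  by_cases hQ : ∃ q ∈ Q, ∃ v ∈ N, ρ q v ≠ v
  · -- (2)
    have hQinv : ∀ q ∈ Q, ∀ v ∈ N, ρ q v ∈ N := fun q hq v hv =>
      hNinv q (hRle (hQR hq)) v hv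
    have hbinv : ∀ v ∈ N, ρ b v ∈ N := fun v hv => hNinv b hbG v hv
    have h2 := hI1 N hQinv hbinv hQ
    have hle : N.map (dl ρ b) ≤ LinearMap.range (dl ρ b) := by
      rintro w ⟨v, _, rfl⟩
      exact ⟨v, rfl⟩
    haveI : Module.Finite (ZMod 3) V := Module.Finite.of_finite
    have heq : N.map (dl ρ b) = LinearMap.range (dl ρ b) := by
      apply Submodule.eq_of_le_of_finrank_le hle
      rw [hc.1]
      exact h2
    have hmapN : N.map (dl ρ b) ≤ N := by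
      rintro w ⟨v, hv, rfl⟩
      rw [dl_apply]
      exact N.sub_mem (hbinv v hv) hv
    have hall : ∀ v : V, ρ b v - v ∈ N := by
      intro v
      apply hmapN
      rw [heq]
      exact ⟨v, dl_apply ρ b v⟩
    have key := hI2 N (comS ρ R) hNinv hF (fun v _ => hall v)
    apply le_antisymm hN
    rw [← hidem, Submodule.span_le]
    rintro w ⟨x, hx, v, hv, rfl⟩
    exact key x (hRcomm hx) v hv
  · -- (3)
    exfalso
    push Not at hQ
    apply h1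
    intro v hv
    apply hfixQ
    intro q hq
    exact hQ q hq v hv

end Cfsg.Agent.Helper94.C3
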