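import Mathlib
import Cfsg.Agent.Lib.Helper32.C3Defs

/-!
# C3 server (helper32, S4415): piece O6 `odd_normal_trivial`
-/

set_option autoImplicit false

namespace Cfsg.Agent.Helper94.C3

open Cfsg.Agent.Helper32.C3

universe u v

theorem odd_normal_trivial {G : Type u} [Group G] [Finite G] {V : Type v} [AddCommGroup V]
    [Module (ZMod 3) V] [Finite V] (ρ : Representation (ZMod 3) G V) (R Q : Subgroup G) (b : G)
    (h : Cfg ρ R Q b) (hP1 : Subgroup.normalClosure ({b} : Set G) = ⊤)
    (hP2 : ∀ z ∈ Subgroup.center G, z = 1 ∨ ρ z = -1)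
    (hO45 : ∀ Y : Subgroup G, (Nat.card ↥Y).Coprime 6 → Y.Normal → ∀ y ∈ Y, y * b = b * y)
    (Y : Subgroup G) (hYn : Y.Normal) (hYR : Y ≤ R) (hodd : (Nat.card ↥Y).Coprime 2) :
    Y = ⊥ := by
  have h3 : (Nat.card ↥Y).Coprime 3 :=
    Nat.Coprime.coprime_dvd_left (Subgroup.card_dvd_of_le hYR) h.Rcop
  have h6 : (Nat.card ↥Y).Coprime 6 := by
    have : (6 : ℕ) = 2 * 3 := by norm_num
    rw [this]
    exact Nat.Coprime.mul_right hodd h3
  have hb := hO45 Y h6 hYn
  haveI := hYn
  have hbC : b ∈ Subgroup.centralizer (Y : Set G) := by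
    rw [Subgroup.mem_centralizer_iff]
    intro y hy
    exact hb y hy
  have hC : Subgroup.centralizer (Y : Set G) = ⊤ := by
    rw [eq_top_iff, ← hP1]
    apply Subgroup.normalClosure_le_normal
    intro x hx
    rw [Set.mem_singleton_iff] at hx
    rw [hx]; exact hbC
  rw [eq_bot_iff]
  intro y hy
  rw [Subgroup.mem_bot]
  have hyc : y ∈ Subgroup.center G := by
    rw [Subgroup.mem_center_iff]
    intro g
    have hg : g ∈ Subgroup.centralizer (Y : Set G) := by rw [hC]; trivial
    rw [Subgroup.mem_centralizer_iff] at hg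
    exact (hg y hy).symm
  have hord : orderOf y ∣ Nat.card ↥Y := by
    have := Subgroup.orderOf_dvd_natCard Y hy
    exact this
  rcases hP2 y hyc with h1 | h1
  · exact h1
  · have hyy : y * y = 1 := by
      apply h.faith
      rw [map_mul, h1, map_one]
      simp
    have h2 : orderOf y ∣ 2 := by
      apply orderOf_dvd_of_pow_eq_one
      rw [pow_two]; exact hyy
    have h1' : orderOf y ∣ Nat.gcd (Nat.card ↥Y) 2 := Nat.dvd_gcd hord h2
    rw [hodd] at h1'
    have : orderOf y = 1 := Nat.dvd_one.mp h1'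
    exact orderOf_eq_one_iff.mp this

end Cfsg.Agent.Helper94.C3
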