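import Mathlib
import Cfsg.Agent.Lib.Helper32.C3Defs

/-!
# C3 server (helper32, S4415): piece P1 `normalClosure_b`
-/

set_option autoImplicit false

namespace Cfsg.Agent.Helper94.C3

open Cfsg.Agent.Helper32.C3

universe u v

theorem normalClosure_b {G : Type u} [Group G] [Finite G] {V : Type v} [AddCommGroup V]
    [Module (ZMod 3) V] [Finite V] (ρ : Representation (ZMod 3) G V) (R Q : Subgroup G) (b : G)
    (h : Cfg ρ R Q b) : Subgroup.normalClosure ({b} : Set G) = ⊤ := by
  have hbN : b ∈ Subgroup.normalClosure ({b} : Set G) :=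
    Subgroup.subset_normalClosure (Set.mem_singleton b)
  have hz : Subgroup.zpowers b ≤ Subgroup.normalClosure ({b} : Set G) := by
    rw [Subgroup.zpowers_le]; exact hbN
  have hR : R ≤ Subgroup.normalClosure ({b} : Set G) := by
    calc R = ⁅R, Subgroup.zpowers b⁆ := h.comm.symm
      _ ≤ ⁅(⊤ : Subgroup G), Subgroup.normalClosure ({b} : Set G)⁆ :=
          Subgroup.commutator_mono le_top hz
      _ ≤ Subgroup.normalClosure ({b} : Set G) := Subgroup.commutator_le_right _ _
  rw [eq_top_iff]
  intro g _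
  obtain ⟨r, hr, i, rfl⟩ := h.RB g
  exact Subgroup.mul_mem _ (hR hr) (Subgroup.pow_mem _ hbN i)

end Cfsg.Agent.Helper94.C3
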