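import Mathlib
import Cfsg.Agent.Lib.Helper32.N9Defs
import Cfsg.Agent.Lib.Helper52.CoprimeHall

set_option autoImplicit false

/-!
# N9 (I1) na8_core (helper32 server, S4409)
-/

namespace Cfsg.Agent.Helper94.N9

open Cfsg Cfsg.Agent.Helper32.N9

universe u

/-- a Hall `2'`-subgroup of a finite solvable group: order the odd part of `|S|`, index the `2`-part. -/
theorem i1_exists_hall {S : Type u} [Group S] [Finite S] [Group.IsSolvable S] :
    ∃ H : Subgroup S, Nat.card H = (Nat.card S) / 2 ^ (Nat.card S).factorization 2 ∧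
      H.index = 2 ^ (Nat.card S).factorization 2 := by
  have hN : Nat.card S ≠ 0 := Nat.card_pos.ne'
  have hmul : 2 ^ (Nat.card S).factorization 2 * ((Nat.card S) / 2 ^ (Nat.card S).factorization 2)
      = Nat.card S := Nat.ordProj_mul_ordCompl_eq_self (Nat.card S) 2
  have hcop : Nat.Coprime ((Nat.card S) / 2 ^ (Nat.card S).factorization 2)
      (2 ^ (Nat.card S).factorization 2) :=
    (Nat.Coprime.pow_left _ (Nat.coprime_ordCompl Nat.prime_two hN)).symm
  have hsol : Group.IsSolvable ↥(⊤ : Subgroup S) := inferInstance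
  obtain ⟨H, -, hH⟩ := Cfsg.Agent.Helper52.hall_exists_internal (⊤ : Subgroup S) hsol
    ((Nat.card S) / 2 ^ (Nat.card S).factorization 2) (2 ^ (Nat.card S).factorization 2)
    (by rw [Subgroup.card_top, mul_comm]; exact hmul.symm) hcop
  refine ⟨H, hH, ?_⟩
  have h1 := Subgroup.card_mul_index H
  rw [hH] at h1
  have hpos : 0 < (Nat.card S) / 2 ^ (Nat.card S).factorization 2 :=
    Nat.pos_of_ne_zero (fun h0 => by rw [h0, mul_zero] at hmul; exact hN hmul.symm)
  have h2 : (Nat.card S) / 2 ^ (Nat.card S).factorization 2 * H.index =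
      (Nat.card S) / 2 ^ (Nat.card S).factorization 2 * 2 ^ (Nat.card S).factorization 2 := by
    rw [h1, mul_comm]; exact hmul.symm
  exact Nat.eq_of_mul_eq_mul_left hpos h2

/-- **I1.** -/
theorem na8_core {S : Type u} [Group S] [Finite S] [Group.IsSolvable S]
    (hmin : ∀ R : Subgroup S, R ≠ ⊤ → (∃ k : ℕ, R.index = 2 ^ k) →
      ¬ ∃ A : Subgroup S, A ≤ R ∧ IsMulCommutative ↥A ∧ ¬ IsCyclic ↥A ∧ Nat.card ↥A = 8)
    (X : Sylow 2 S) (T : Subgroup S) (hTn : T.Normal) (hTX : T ≤ (X : Subgroup S))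
    (hne : T ≠ (X : Subgroup S)) : NA8 T := by
  have := hTn
  have hN : Nat.card S ≠ 0 := Nat.card_pos.ne'
  obtain ⟨H, hHcard, hHidx⟩ := i1_exists_hall (S := S)
  set a := (Nat.card S).factorization 2 with ha
  have hXcard : Nat.card (X : Subgroup S) = 2 ^ a := X.card_eq_multiplicity
  have hmul : 2 ^ a * ((Nat.card S) / 2 ^ a) = Nat.card S :=
    Nat.ordProj_mul_ordCompl_eq_self (Nat.card S) 2
  have hcop : Nat.Coprime (2 ^ a) ((Nat.card S) / 2 ^ a) :=
    Nat.Coprime.pow_left _ (Nat.coprime_ordCompl Nat.prime_two hN)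
  -- index of `R` is a power of 2
  have hidx : ∃ k : ℕ, (T ⊔ H).index = 2 ^ k := by
    have h1 : (T ⊔ H).index ∣ H.index := Subgroup.index_dvd_of_le le_sup_right
    rw [hHidx] at h1
    obtain ⟨k, -, hk⟩ := (Nat.dvd_prime_pow Nat.prime_two).1 h1
    exact ⟨k, hk⟩
  -- `R ≠ ⊤`
  have hRne : T ⊔ H ≠ ⊤ := by
    intro htop
    have h1 : T.index ∣ Nat.card H := by
      have h2 : T.relIndex (T ⊔ H) = T.relIndex H := Subgroup.relIndex_sup_left H T
      rw [htop, Subgroup.relIndex_top_right] at h2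
      rw [h2]
      exact Subgroup.relIndex_dvd_card T H
    rw [hHcard] at h1
    have h3 : Nat.card T * T.index = Nat.card S := Subgroup.card_mul_index T
    have h4 : 2 ^ a ∣ Nat.card T * T.index := by
      rw [h3]; exact Dvd.intro _ hmul
    have h5 : Nat.Coprime (2 ^ a) T.index := Nat.Coprime.coprime_dvd_right h1 hcop
    have h6 : 2 ^ a ∣ Nat.card T := h5.dvd_of_dvd_mul_right h4
    have h7 : Nat.card (X : Subgroup S) ≤ Nat.card T := by
      rw [hXcard]; exact Nat.le_of_dvd Nat.card_pos h6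
    exact hne (Subgroup.eq_of_le_of_card_ge hTX h7)
  rintro ⟨B, hBT, h1, h2, h3⟩
  exact hmin (T ⊔ H) hRne hidx ⟨B, hBT.trans le_sup_left, h1, h2, h3⟩

end Cfsg.Agent.Helper94.N9
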