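import Mathlib
import Cfsg.Agent.Lib.Helper32.N9Defs
import Cfsg.Agent.Lib.Helper32.PGroupCenter

set_option autoImplicit false

/-!
# N9 (I4) comm_of_v4_selfcentralizing (helper32 server, S4409)
-/

namespace Cfsg.Agent.Helper94.N9

open Cfsg Cfsg.Agent.Helper32.N9

universe u

/-- **I4.** -/
theorem comm_of_v4_selfcentralizing {X : Type u} [Group X] [Finite X] (hX : IsPGroup 2 X)
    (T : Subgroup X) (hTn : T.Normal) (hT : IsV4 T)
    (hC : Subgroup.centralizer (T : Set X) ≤ T) (h8 : ¬ NA8 (⊤ : Subgroup X)) :
    ∀ a b : X, a * b = b * a := by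
  classical
  have := hTn
  haveI : Fact (Nat.Prime 2) := ⟨Nat.prime_two⟩
  obtain ⟨hT4, hTsq⟩ := hT
  have hTne : T ≠ ⊥ := by
    intro h
    rw [h, Subgroup.card_bot] at hT4
    omega
  obtain ⟨z, hzT, hz1, hzc⟩ := Cfsg.Agent.Helper32.exists_ne_one_mem_center_of_normal hX T hTne
  have hzcomm : ∀ g : X, g * z = z * g := Subgroup.mem_center_iff.mp hzc
  have hzsq : z * z = 1 := by rw [← pow_two]; exact hTsq z hzT
  -- an element `a ∈ T` outside `{1, z}`
  obtain ⟨a, haT, ha1, haz⟩ : ∃ a ∈ T, a ≠ 1 ∧ a ≠ z := by
    by_contra hcon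
    push Not at hcon
    have hsub : (T : Set X) ⊆ (({1, z} : Finset X) : Set X) := by
      intro t ht
      by_cases h1 : t = 1
      · simp [h1]
      · have := hcon t ht h1
        simp [this]
    have h1 : (T : Set X).ncard ≤ (({1, z} : Finset X) : Set X).ncard :=
      Set.ncard_le_ncard hsub (Finset.finite_toSet _)
    rw [Set.ncard_coe_finset] at h1
    have h2 : (T : Set X).ncard = 4 := by
      rw [← hT4]; exact (_root_.Nat.card_coe_set_eq (T : Set X)).symm
    have h3 : ({1, z} : Finset X).card ≤ 2 := Finset.card_le_two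
    omega
  have hzaT : z * a ∈ T := T.mul_mem hzT haT
  -- `T = {1, z, a, z * a}`
  have hTmem : ∀ t ∈ T, t = 1 ∨ t = z ∨ t = a ∨ t = z * a := by
    have hza1 : z * a ≠ 1 := by
      intro h
      apply haz
      calc a = z * (z * a) := by rw [← mul_assoc, hzsq, one_mul]
        _ = z := by rw [h, mul_one]
    have hzaz : z * a ≠ z := by
      intro h
      apply ha1
      calc a = z * (z * a) := by rw [← mul_assoc, hzsq, one_mul]
        _ = 1 := by rw [h, hzsq]
    have hzaa : z * a ≠ a := by
      intro h
      apply hz1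
      calc z = z * a * a⁻¹ := by group
        _ = 1 := by rw [h]; group
    have hcard : ({1, z, a, z * a} : Finset X).card = 4 := by
      rw [Finset.card_insert_of_notMem, Finset.card_insert_of_notMem, Finset.card_insert_of_notMem,
        Finset.card_singleton]
      · simp only [Finset.mem_singleton]; exact fun h => hzaa h.symm
      · simp only [Finset.mem_insert, Finset.mem_singleton, not_or]
        exact ⟨haz.symm, fun h => hzaz h.symm⟩
      · simp only [Finset.mem_insert, Finset.mem_singleton, not_or]
        exact ⟨hz1.symm, ha1.symm, fun h => hza1 h.symm⟩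
    have hsub : ((({1, z, a, z * a} : Finset X)) : Set X) ⊆ (T : Set X) := by
      intro t ht
      simp only [Finset.coe_insert, Finset.coe_singleton, Set.mem_insert_iff,
        Set.mem_singleton_iff] at ht
      rcases ht with rfl | rfl | rfl | rfl
      · exact T.one_mem
      · exact hzT
      · exact haT
      · exact hzaT
    have h2 : (T : Set X).ncard = 4 := by
      rw [← hT4]; exact (_root_.Nat.card_coe_set_eq (T : Set X)).symm
    have heq := Set.eq_of_subset_of_ncard_le hsub (by rw [Set.ncard_coe_finset, hcard, h2])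
    intro t ht
    have : t ∈ ((({1, z, a, z * a} : Finset X)) : Set X) := by rw [heq]; exact ht
    simpa using this
  -- conjugates of `a`
  have hconj : ∀ x : X, x * a * x⁻¹ = a ∨ x * a * x⁻¹ = z * a := by
    intro x
    have hmem : x * a * x⁻¹ ∈ T := hTn.conj_mem a haT x
    rcases hTmem _ hmem with h | h | h | h
    · exfalso
      apply ha1
      calc a = x⁻¹ * (x * a * x⁻¹) * x := by group
        _ = 1 := by rw [h]; group
    · exfalso
      apply haz
      calc a = x⁻¹ * (x * a * x⁻¹) * x := by group
        _ = x⁻¹ * z * x := by rw [h]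
        _ = z := by rw [mul_assoc, ← hzcomm x, ← mul_assoc, inv_mul_cancel, one_mul]
    · exact Or.inl h
    · exact Or.inr h
  set C := Subgroup.centralizer ({a} : Set X) with hCdef
  have hC_iff : ∀ x : X, x ∈ C ↔ x * a * x⁻¹ = a := by
    intro x
    rw [hCdef, Subgroup.mem_centralizer_singleton_iff]
    constructor
    · intro h; rw [h]; group
    · intro h
      calc x * a = x * a * x⁻¹ * x := by group
        _ = a * x := by rw [h]
  have hCT : C ≤ T := by
    intro x hx
    apply hC
    rw [Subgroup.mem_centralizer_iff]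
    intro t ht
    have hxa : x * a = a * x := by
      rw [hCdef, Subgroup.mem_centralizer_singleton_iff] at hx; exact hx
    rcases hTmem t ht with rfl | rfl | rfl | rfl
    · simp
    · exact (hzcomm x).symm
    · exact hxa.symm
    · calc z * a * x = z * (a * x) := mul_assoc _ _ _
        _ = z * (x * a) := by rw [hxa]
        _ = (z * x) * a := (mul_assoc _ _ _).symm
        _ = (x * z) * a := by rw [hzcomm x]
        _ = x * (z * a) := mul_assoc _ _ _
  have hCcard : Nat.card C ≤ 4 := by
    rw [← hT4]; exact Subgroup.card_le_of_le hCT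
  have hzaa : z * a ≠ a := by
    intro h
    apply hz1
    calc z = z * a * a⁻¹ := by group
      _ = 1 := by rw [h]; group
  -- `|X| ≤ 8`
  have hX8 : Nat.card X ≤ 8 := by
    by_cases htop : C = ⊤
    · have : Nat.card X = Nat.card C := by rw [htop, Subgroup.card_top]
      omega
    · obtain ⟨x₀, hx₀⟩ : ∃ x₀ : X, x₀ ∉ C := by
        by_contra hcon
        push Not at hcon
        exact htop (eq_top_iff.mpr fun x _ => hcon x)
      have hx₀a : x₀ * a * x₀⁻¹ = z * a := by
        rcases hconj x₀ with h | h
        · exact absurd ((hC_iff x₀).mpr h) hx₀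
        · exact h
      have hidx : C.index = 2 := by
        rw [Subgroup.index_eq_two_iff]
        refine ⟨x₀, fun b => ?_⟩
        have hcalc : (b * x₀) * a * (b * x₀)⁻¹ = z * (b * a * b⁻¹) := by
          calc (b * x₀) * a * (b * x₀)⁻¹ = b * (x₀ * a * x₀⁻¹) * b⁻¹ := by group
            _ = b * (z * a) * b⁻¹ := by rw [hx₀a]
            _ = (b * z) * a * b⁻¹ := by rw [mul_assoc b z a]
            _ = (z * b) * a * b⁻¹ := by rw [hzcomm b]
            _ = z * (b * a * b⁻¹) := by group
        by_cases hb : b ∈ C
        · right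
          refine ⟨hb, fun hbx => ?_⟩
          have h1 := (hC_iff _).mp hbx
          rw [hcalc, (hC_iff b).mp hb] at h1
          exact hzaa h1
        · left
          refine ⟨?_, hb⟩
          rw [hC_iff, hcalc]
          rcases hconj b with h | h
          · exact absurd ((hC_iff b).mpr h) hb
          · rw [h, ← mul_assoc, hzsq, one_mul]
      have h1 := Subgroup.card_mul_index C
      rw [hidx] at h1
      omega
  -- conclusion
  unfold NA8 at h8
  obtain ⟨B, -, hBc, -, hB8⟩ := not_not.mp h8
  have hBtop : B = ⊤ := Subgroup.eq_top_of_le_card B (by rw [hB8]; exact hX8)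
  intro g h
  have hg : g ∈ B := by rw [hBtop]; trivial
  have hh : h ∈ B := by rw [hBtop]; trivial
  have := hBc.is_comm.comm (⟨g, hg⟩ : B) ⟨h, hh⟩
  exact congrArg Subtype.val this

end Cfsg.Agent.Helper94.N9
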