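import Mathlib
import Cfsg.Agent.Lib.Helper32.N9Defs

set_option autoImplicit false

/-!
# N9 (IIIa) core_hyps (helper32 server, S4409)
-/

namespace Cfsg.Agent.Helper94.N9

open Cfsg Cfsg.Agent.Helper32.N9

universe u

/-- transfer of "abelian, noncyclic, of order 8" along an isomorphism -/
theorem iiia_transfer {G G' : Type*} [Group G] [Group G'] (e : G ≃* G')
    (h1 : IsMulCommutative G) (h2 : ¬ IsCyclic G) (h3 : Nat.card G = 8) :
    IsMulCommutative G' ∧ ¬ IsCyclic G' ∧ Nat.card G' = 8 := by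
  refine ⟨⟨⟨fun a b => ?_⟩⟩, ?_, ?_⟩
  · have h := h1.is_comm.comm (e.symm a) (e.symm b)
    have h' := congrArg e h
    simpa using h'
  · intro hc
    exact h2 (isCyclic_of_surjective e.symm e.symm.surjective)
  · rw [← h3]; exact Nat.card_congr e.symm.toEquiv

/-- **IIIa.** -/
theorem core_hyps {S : Type u} [Group S] [Finite S]
    (h8 : ∃ A : Subgroup S, IsMulCommutative ↥A ∧ ¬ IsCyclic ↥A ∧ Nat.card ↥A = 8)
    (hmin : ∀ R : Subgroup S, R ≠ ⊤ → (∃ k : ℕ, R.index = 2 ^ k) →
      ¬ ∃ A : Subgroup S, A ≤ R ∧ IsMulCommutative ↥A ∧ ¬ IsCyclic ↥A ∧ Nat.card ↥A = 8)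
    (X : Sylow 2 S) (hXn : (X : Subgroup S).Normal) :
    ∃ A : Subgroup (MulAut ↥(X : Subgroup S)), Odd (Nat.card A) ∧
      ¬ NA8 (⊤ : Subgroup ↥(X : Subgroup S)) ∧ MinH A := by
  haveI := hXn
  haveI : Fact (Nat.Prime 2) := ⟨Nat.prime_two⟩
  -- the index of `X` is odd
  have hidx : ¬ 2 ∣ (X : Subgroup S).index := X.not_dvd_index
  obtain ⟨n, hn⟩ := IsPGroup.iff_card.mp X.isPGroup'
  have hcop : Nat.Coprime (Nat.card (X : Subgroup S)) (X : Subgroup S).index := by
    rw [hn]
    exact Nat.Coprime.pow_left _ ((Nat.Prime.coprime_iff_not_dvd Nat.prime_two).mpr hidx)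
  obtain ⟨H, hH⟩ := Subgroup.exists_right_complement'_of_coprime hcop
  have hHcard : Nat.card H = (X : Subgroup S).index := (hH.symm.index_eq_card).symm
  have hHidx : H.index = Nat.card (X : Subgroup S) := hH.index_eq_card
  have hdisj : ∀ g : S, g ∈ (X : Subgroup S) → g ∈ H → g = 1 := by
    intro g hgX hgH
    have := hH.disjoint
    rw [Subgroup.disjoint_def] at this
    exact this hgX hgH
  refine ⟨H.map (MulAut.conjNormal (H := (X : Subgroup S))), ?_, ?_, ?_⟩
  · -- odd order
    have h1 : Nat.card (H.map (MulAut.conjNormal (H := (X : Subgroup S)))) ∣ Nat.card H :=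
      Subgroup.card_map_dvd _ _
    rw [hHcard] at h1
    rw [← Nat.not_even_iff_odd, even_iff_two_dvd]
    intro h2
    exact hidx (dvd_trans h2 h1)
  · -- the abelian subgroup of order 8 lies in `X`
    obtain ⟨A₀, hc, hnc, hcard⟩ := h8
    have hA₀p : IsPGroup 2 A₀ := IsPGroup.of_card (n := 3) (by rw [hcard]; norm_num)
    obtain ⟨Q, hQ⟩ := hA₀p.exists_le_sylow
    have huniq := Sylow.unique_of_normal X hXn
    have hQX : Q = X := Subsingleton.elim _ _
    rw [hQX] at hQ
    unfold NA8
    rw [not_not]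
    obtain ⟨t1, t2, t3⟩ := iiia_transfer (Subgroup.subgroupOfEquivOfLe hQ).symm hc hnc hcard
    exact ⟨A₀.subgroupOf (X : Subgroup S), le_top, t1, t2, t3⟩
  · -- minimality
    intro R₁ hR₁ne hinv
    -- `H` normalises the image of `R₁`
    have hconj : ∀ h ∈ H, ∀ y ∈ R₁.map (X : Subgroup S).subtype,
        h * y * h⁻¹ ∈ R₁.map (X : Subgroup S).subtype := by
      intro h hh y hy
      obtain ⟨x, hx, rfl⟩ := hy
      have hφ : MulAut.conjNormal (H := (X : Subgroup S)) h ∈
          H.map (MulAut.conjNormal (H := (X : Subgroup S))) := Subgroup.mem_map_of_mem _ hh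
      have := hinv _ hφ x hx
      refine ⟨_, this, ?_⟩
      simp [MulAut.conjNormal_apply]
    have hnorm : H ≤ Subgroup.normalizer ((R₁.map (X : Subgroup S).subtype : Subgroup S) : Set S) := by
      intro h hh
      rw [Subgroup.mem_normalizer_iff]
      intro y
      constructor
      · intro hy; exact hconj h hh y hy
      · intro hy
        have := hconj h⁻¹ (H.inv_mem hh) _ hy
        have e : h⁻¹ * (h * y * h⁻¹) * h⁻¹⁻¹ = y := by group
        rw [e] at this
        exact this
    -- `R ≠ ⊤`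
    have hRne : R₁.map (X : Subgroup S).subtype ⊔ H ≠ ⊤ := by
      intro htop
      apply hR₁ne
      rw [eq_top_iff]
      intro x _
      have hx : (x : S) ∈ ((R₁.map (X : Subgroup S).subtype ⊔ H : Subgroup S) : Set S) := by
        rw [htop]; trivial
      rw [Subgroup.coe_mul_of_right_le_normalizer_left _ _ hnorm] at hx
      obtain ⟨r, hr, h, hh, hrh⟩ := hx
      have hrh : r * h = (x : S) := hrh
      have hrX : r ∈ (X : Subgroup S) := by
        obtain ⟨r', -, rfl⟩ := hr
        exact r'.2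
      have hhX : h ∈ (X : Subgroup S) := by
        have : h = r⁻¹ * (x : S) := by rw [← hrh]; group
        rw [this]
        exact (X : Subgroup S).mul_mem ((X : Subgroup S).inv_mem hrX) x.2
      have h1 : h = 1 := hdisj h hhX hh
      rw [h1, mul_one] at hrh
      obtain ⟨r', hr', hr'eq⟩ := hr
      have : r' = x := by
        apply Subtype.ext
        rw [← hrh]; exact hr'eq
      rw [← this]; exact hr'
    -- index a power of 2
    have hRidx : ∃ k : ℕ, (R₁.map (X : Subgroup S).subtype ⊔ H).index = 2 ^ k := by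
      have h1 : (R₁.map (X : Subgroup S).subtype ⊔ H).index ∣ H.index :=
        Subgroup.index_dvd_of_le le_sup_right
      rw [hHidx, hn] at h1
      obtain ⟨k, -, hk⟩ := (Nat.dvd_prime_pow Nat.prime_two).1 h1
      exact ⟨k, hk⟩
    rintro ⟨B₁, hB₁R, hc, hnc, hcard⟩
    obtain ⟨t1, t2, t3⟩ := iiia_transfer
      (B₁.equivMapOfInjective (X : Subgroup S).subtype (X : Subgroup S).subtype_injective) hc hnc hcard
    exact hmin _ hRne hRidx ⟨B₁.map (X : Subgroup S).subtype,
      (Subgroup.map_mono hB₁R).trans le_sup_left, t1, t2, t3⟩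

end Cfsg.Agent.Helper94.N9
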