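import Mathlib
import Cfsg.Agent.Lib.Helper32.N5Defs

/-!
helper94: piece (SIG) `sigma_data` of helper32's lemma server "N5" (row S1904).
-/

set_option autoImplicit false

namespace Cfsg.Agent.Helper94.N5

open Cfsg Cfsg.Agent.Helper32.N5
open scoped commutatorElement

universe u

variable {X : Type u} [Group X] [Finite X]

/-- elements of an odd-order subgroup have odd order. -/
theorem h94s_odd_orderOf_of_mem {H : Type*} [Group H] (A : Subgroup H) (hA : Odd (Nat.card A))
    (φ : H) (hφ : φ ∈ A) : Odd (orderOf φ) := by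
  have hne : Nat.card A ≠ 0 := by
    rcases hA with ⟨k, hk⟩; omega
  haveI : Finite A := Nat.finite_of_card_ne_zero hne
  have h1 : orderOf (⟨φ, hφ⟩ : A) ∣ Nat.card A := orderOf_dvd_natCard _
  have h2 : orderOf (⟨φ, hφ⟩ : A) = orderOf φ := by
    rw [← Subgroup.orderOf_coe]
  rw [h2] at h1
  exact Odd.of_dvd_nat hA h1

/-- an element of odd order whose square is trivial is trivial. -/
theorem h94s_eq_one_of_sq {H : Type*} [Group H] (φ : H) (hodd : Odd (orderOf φ)) (h2 : φ * φ = 1) :
    φ = 1 := by
  have h1 : orderOf φ ∣ 2 := orderOf_dvd_of_pow_eq_one (by rw [pow_two]; exact h2)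
  have h3 : orderOf φ = 1 := by
    rcases (Nat.dvd_prime Nat.prime_two).mp h1 with h | h
    · exact h
    · exfalso; rw [h] at hodd; exact (by decide : ¬ Odd 2) hodd
  exact orderOf_eq_one_iff.mp h3

/-- a four-group is `{1, a, b, a * b}` for any two distinct nonidentity elements. -/
theorem h94s_four_group (V : Subgroup X) (hcard : Nat.card V = 4) (a b : X) (ha : a ∈ V) (hb : b ∈ V)
    (ha1 : a ≠ 1) (hb1 : b ≠ 1) (hab : a ≠ b) (hab1 : a * b ≠ 1) :
    ∀ v ∈ V, v = 1 ∨ v = a ∨ v = b ∨ v = a * b := by
  classical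
  have hsub : ({1, a, b, a * b} : Set X) ⊆ (V : Set X) := by
    intro v hv
    simp only [Set.mem_insert_iff, Set.mem_singleton_iff] at hv
    rcases hv with rfl | rfl | rfl | rfl
    · exact V.one_mem
    · exact ha
    · exact hb
    · exact V.mul_mem ha hb
  have hn : ({1, a, b, a * b} : Set X).ncard = 4 := by
    have h1 : (1 : X) ∉ ({a, b, a * b} : Set X) := by
      simp only [Set.mem_insert_iff, Set.mem_singleton_iff, not_or]
      exact ⟨fun h => ha1 h.symm, fun h => hb1 h.symm, fun h => hab1 h.symm⟩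
    have h2 : a ∉ ({b, a * b} : Set X) := by
      simp only [Set.mem_insert_iff, Set.mem_singleton_iff, not_or]
      refine ⟨hab, fun h => hb1 ?_⟩
      have : a * 1 = a * b := by rw [mul_one]; exact h
      exact (mul_left_cancel this).symm
    have h3 : b ∉ ({a * b} : Set X) := by
      simp only [Set.mem_singleton_iff]
      intro h
      have : 1 * b = a * b := by rw [one_mul]; exact h
      exact ha1 (mul_right_cancel this).symm
    rw [Set.ncard_insert_of_notMem h1, Set.ncard_insert_of_notMem h2, Set.ncard_insert_of_notMem h3,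
      Set.ncard_singleton]
  have hV : (V : Set X).ncard = 4 := by
    rw [← hcard]; rfl
  have heq : ({1, a, b, a * b} : Set X) = (V : Set X) :=
    Set.eq_of_subset_of_ncard_le hsub (by rw [hn, hV]) (Set.toFinite _)
  intro v hv
  have : v ∈ ({1, a, b, a * b} : Set X) := by rw [heq]; exact hv
  simpa only [Set.mem_insert_iff, Set.mem_singleton_iff] using this

theorem sigma_data (A : Subgroup (MulAut X)) (hA : Odd (Nat.card A)) (hXA : ComGen A)
    (V : Subgroup X) (σ : MulAut X) (hσA : σ ∈ A) (hV : VData V σ) (hVi : AInv A V)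
    (htriv : ∀ φ ∈ A, (∀ v ∈ V, φ v = v) → ∀ x : X, φ x = x) :
    (∀ x : X, σ (σ (σ x)) = x) ∧ ComGen1 σ := by
  classical
  -- pick a ≠ 1 in V
  have hVnt : ∃ a ∈ V, a ≠ 1 := by
    by_contra hcon
    push Not at hcon
    have hbot : V = ⊥ := by
      rw [eq_bot_iff]; intro v hv; rw [Subgroup.mem_bot]; exact hcon v hv
    have := hV.card
    rw [hbot, Subgroup.card_bot] at this
    omega
  obtain ⟨a, haV, ha1⟩ := hVnt
  set b := σ a with hbdef
  have hbV : b ∈ V := hV.inv a haV
  have hb1 : b ≠ 1 := by
    intro h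
    apply ha1
    have : σ a = σ 1 := by rw [map_one]; exact h
    exact σ.injective this
  have hab : a ≠ b := fun h => ha1 (hV.fpf a haV h.symm)
  have hsq : ∀ v ∈ V, v * v = 1 := fun v hv => by rw [← pow_two]; exact hV.el v hv
  have hcomm : ∀ v ∈ V, ∀ w : X, v * w = w * v := fun v hv w =>
    ((Subgroup.mem_center_iff.mp (hV.cen hv)) w).symm
  have hab1 : a * b ≠ 1 := by
    intro h
    apply hab
    have h2 : a * b = a * a := by rw [h, hsq a haV]
    exact (mul_left_cancel h2).symm
  have hfour := h94s_four_group V hV.card a b haV hbV ha1 hb1 hab hab1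
  -- basic products
  have hbab : b * (a * b) = a := by
    rw [hcomm b hbV (a * b), mul_assoc, hsq b hbV, mul_one]
  have haab : a * (a * b) = b := by
    rw [← mul_assoc, hsq a haV, one_mul]
  have habne_a : a * b ≠ a := fun h => hb1 (by
    have : a * b = a * 1 := by rw [mul_one]; exact h
    exact mul_left_cancel this)
  have habne_b : a * b ≠ b := fun h => ha1 (by
    have : a * b = 1 * b := by rw [one_mul]; exact h
    exact mul_right_cancel this)
  -- generic facts on members of A
  have hinjne : ∀ φ : MulAut X, ∀ x : X, x ≠ 1 → φ x ≠ 1 := by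
    intro φ x hx h
    apply hx
    have : φ x = φ 1 := by rw [map_one]; exact h
    exact φ.injective this
  have hagree : ∀ φ ∈ A, ∀ ψ ∈ A, φ a = ψ a → φ b = ψ b → ∀ x : X, φ x = ψ x := by
    intro φ hφ ψ hψ h1 h2 x
    have hmem : ψ⁻¹ * φ ∈ A := A.mul_mem (A.inv_mem hψ) hφ
    have hVt : ∀ v ∈ V, (ψ⁻¹ * φ) v = v := by
      intro v hv
      have hφv : φ v = ψ v := by
        rcases hfour v hv with rfl | rfl | rfl | rfl
        · rw [map_one, map_one]
        · exact h1
        · exact h2
        · rw [map_mul, map_mul, h1, h2]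
      rw [MulAut.mul_apply, hφv, MulAut.inv_apply_self]
    have := htriv _ hmem hVt x
    rw [MulAut.mul_apply] at this
    have h3 : ψ (ψ⁻¹ (φ x)) = ψ x := by rw [this]
    rwa [MulAut.apply_inv_self] at h3
  have hsqtriv : ∀ φ ∈ A, φ (φ a) = a → φ (φ b) = b → φ = 1 := by
    intro φ hφ h1 h2
    have hodd := h94s_odd_orderOf_of_mem A hA φ hφ
    apply h94s_eq_one_of_sq φ hodd
    have h11 : (1 : MulAut X) ∈ A := A.one_mem
    have := hagree (φ * φ) (A.mul_mem hφ hφ) 1 h11 (by rw [MulAut.mul_apply, h1, MulAut.one_apply])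
      (by rw [MulAut.mul_apply, h2, MulAut.one_apply])
    exact MulEquiv.ext this
  -- action of σ on V
  have hσb : σ b = a * b := by
    have hσbV : σ b ∈ V := hV.inv b hbV
    rcases hfour _ hσbV with h | h | h | h
    · exact absurd h (hinjne σ b hb1)
    · -- σ b = a : then a * b is fixed
      exfalso
      have : σ (a * b) = a * b := by rw [map_mul, h, ← hbdef, hcomm b hbV a]
      exact hab1 (hV.fpf _ (V.mul_mem haV hbV) this)
    · exact absurd (hV.fpf b hbV h) hb1
    · exact h
  have hσab : σ (a * b) = a := by rw [map_mul, hσb, ← hbdef, hbab]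
  have hσ3a : σ (σ (σ a)) = a := by rw [← hbdef, hσb, hσab]
  have hσ3b : σ (σ (σ b)) = b := by rw [hσb, hσab]
  have hσσA : σ * σ ∈ A := A.mul_mem hσA hσA
  have hσ3A : σ * σ * σ ∈ A := A.mul_mem hσσA hσA
  have hσ3 : ∀ x : X, σ (σ (σ x)) = x := by
    intro x
    have := hagree (σ * σ * σ) hσ3A 1 A.one_mem
      (by rw [MulAut.mul_apply, MulAut.mul_apply, hσ3a, MulAut.one_apply])
      (by rw [MulAut.mul_apply, MulAut.mul_apply, hσ3b, MulAut.one_apply]) x
    rwa [MulAut.mul_apply, MulAut.mul_apply, MulAut.one_apply] at this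
  refine ⟨hσ3, ?_⟩
  -- every member of A acts as 1, σ or σ²
  have hkey : ∀ φ ∈ A, (∀ x, φ x = x) ∨ (∀ x, φ x = σ x) ∨ (∀ x, φ x = σ (σ x)) := by
    intro φ hφ
    have hφaV : φ a ∈ V := hVi φ hφ a haV
    have hφbV : φ b ∈ V := hVi φ hφ b hbV
    have hφab : φ a ≠ φ b := fun h => hab (φ.injective h)
    rcases hfour _ hφaV with h | h | h | h
    · exact absurd h (hinjne φ a ha1)
    · -- φ a = a
      rcases hfour _ hφbV with h' | h' | h' | h'
      · exact absurd h' (hinjne φ b hb1)
      · exact absurd (h.trans h'.symm) hφab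
      · left
        intro x
        have := hagree φ hφ 1 A.one_mem (by rw [h, MulAut.one_apply]) (by rw [h', MulAut.one_apply]) x
        rwa [MulAut.one_apply] at this
      · exfalso
        have h1 : φ = 1 := hsqtriv φ hφ (by rw [h, h]) (by rw [h', map_mul, h, h', haab])
        rw [h1, MulAut.one_apply] at h'
        exact habne_b h'.symm
    · -- φ a = b
      rcases hfour _ hφbV with h' | h' | h' | h'
      · exact absurd h' (hinjne φ b hb1)
      · exfalso
        have h1 : φ = 1 := hsqtriv φ hφ (by rw [h, h']) (by rw [h', h])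
        rw [h1, MulAut.one_apply] at h
        exact hab h
      · exact absurd (h.trans h'.symm) hφab
      · right; left
        exact hagree φ hφ σ hσA (by rw [h]) (by rw [h', hσb])
    · -- φ a = a * b
      rcases hfour _ hφbV with h' | h' | h' | h'
      · exact absurd h' (hinjne φ b hb1)
      · right; right
        intro x
        have := hagree φ hφ (σ * σ) hσσA (by rw [h, MulAut.mul_apply, ← hbdef, hσb])
          (by rw [h', MulAut.mul_apply, hσb, hσab]) x
        rwa [MulAut.mul_apply] at this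
      · exfalso
        have h1 : φ = 1 := hsqtriv φ hφ (by rw [h, map_mul, h, h', mul_assoc, hsq b hbV, mul_one])
          (by rw [h', h'])
        rw [h1, MulAut.one_apply] at h
        exact habne_a h.symm
      · exact absurd (h.trans h'.symm) hφab
  -- generation
  unfold ComGen1
  unfold ComGen at hXA
  rw [eq_top_iff, ← hXA, Subgroup.closure_le]
  rintro g ⟨φ, hφ, x, rfl⟩
  rcases hkey φ hφ with h | h | h
  · rw [h x, inv_mul_cancel]; exact Subgroup.one_mem _
  · rw [h x]; exact Subgroup.subset_closure ⟨x, rfl⟩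
  · rw [h x]
    have h1 : x⁻¹ * σ (σ x) = (x⁻¹ * σ x) * ((σ x)⁻¹ * σ (σ x)) := by group
    rw [h1]
    exact Subgroup.mul_mem _ (Subgroup.subset_closure ⟨x, rfl⟩) (Subgroup.subset_closure ⟨σ x, rfl⟩)

end Cfsg.Agent.Helper94.N5
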