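import Mathlib
import Cfsg.Agent.Lib.Helper32.N5Defs

/-!
helper94: piece (R) `trivial_of_trivial_on_V` of helper32's lemma server "N5" (row S1904).
-/

set_option autoImplicit false

namespace Cfsg.Agent.Helper94.N5

open Cfsg Cfsg.Agent.Helper32.N5
open scoped commutatorElement

universe u

variable {X : Type u} [Group X] [Finite X]

/-- iterating an automorphism that moves `x` by a fixed element `c`. -/
theorem h94_pow_apply_of_fixed (φ : MulAut X) (x c : X) (hx : φ x = x * c) (hc : φ c = c) (n : ℕ) :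
    (φ ^ n) x = x * c ^ n := by
  induction n with
  | zero => simp
  | succ n ih =>
    rw [pow_succ', MulAut.mul_apply, ih, map_mul, map_pow, hx, hc, pow_succ', mul_assoc]

/-- a 2-element killed by an odd power is trivial. -/
theorem h94_eq_one_of_odd_pow (hX : IsPGroup 2 X) (c : X) (k : ℕ) (hk : Odd k) (hck : c ^ k = 1) :
    c = 1 := by
  obtain ⟨m, hm⟩ := hX c
  have h1 : orderOf c ∣ k := orderOf_dvd_of_pow_eq_one hck
  have h2 : orderOf c ∣ 2 ^ m := orderOf_dvd_of_pow_eq_one hm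
  have hcop : Nat.Coprime k (2 ^ m) := Nat.Coprime.pow_right m (Nat.coprime_two_right.mpr hk)
  have h3 : orderOf c ∣ 1 := by
    have := Nat.dvd_gcd h1 h2
    rwa [hcop] at this
  exact orderOf_eq_one_iff.mp (Nat.dvd_one.mp h3)

/-- elements of an odd-order subgroup have odd order. -/
theorem h94_odd_orderOf_of_mem {H : Type*} [Group H] (A : Subgroup H) (hA : Odd (Nat.card A))
    (φ : H) (hφ : φ ∈ A) : Odd (orderOf φ) := by
  have hne : Nat.card A ≠ 0 := by
    rcases hA with ⟨k, hk⟩; omega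
  haveI : Finite A := Nat.finite_of_card_ne_zero hne
  have h1 : orderOf (⟨φ, hφ⟩ : A) ∣ Nat.card A := orderOf_dvd_natCard _
  have h2 : orderOf (⟨φ, hφ⟩ : A) = orderOf φ := by
    rw [← Subgroup.orderOf_coe]
  rw [h2] at h1
  exact Odd.of_dvd_nat hA h1

theorem trivial_of_trivial_on_V (hX : IsPGroup 2 X)
    (hT1a : ∀ (H : Subgroup X), Ab H → ∀ a : MulAut X, (∀ x ∈ H, a x ∈ H) → Odd (orderOf a) →
      (∀ x ∈ H, x ^ 2 = 1 → a x = x) → ∀ x ∈ H, a x = x)
    (A : Subgroup (MulAut X)) (hA : Odd (Nat.card A))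
    (B : Subgroup X) (hBn : B.Normal) (hBi : AInv A B) (hBab : Ab B)
    (hBc : Subgroup.centralizer (B : Set X) = B) (V : Subgroup X) (hVB : V ≤ B)
    (hVΩ : ∀ b ∈ B, b ^ 2 = 1 → b ∈ V) (φ : MulAut X) (hφ : φ ∈ A) (hφV : ∀ v ∈ V, φ v = v) :
    ∀ x : X, φ x = x := by
  have hodd : Odd (orderOf φ) := h94_odd_orderOf_of_mem A hA φ hφ
  have hB : ∀ b ∈ B, φ b = b :=
    hT1a B hBab φ (hBi φ hφ) hodd (fun x hx hx2 => hφV x (hVΩ x hx hx2))
  intro x
  -- c := x⁻¹ * φ x centralizes B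
  have hc : x⁻¹ * φ x ∈ B := by
    rw [← hBc, Subgroup.mem_centralizer_iff]
    intro b hb
    have hb' : x * b * x⁻¹ ∈ B := hBn.conj_mem b hb x
    have h1 : φ (x * b * x⁻¹) = x * b * x⁻¹ := hB _ hb'
    rw [map_mul, map_mul, map_inv, hB b hb] at h1
    -- h1 : φ x * b * (φ x)⁻¹ = x * b * x⁻¹
    -- goal : b * (x⁻¹ * φ x) = x⁻¹ * φ x * b
    have h2 : φ x * b = x * b * x⁻¹ * φ x := by
      rw [← h1]; group
    calc b * (x⁻¹ * φ x) = x⁻¹ * (x * b * x⁻¹ * φ x) := by group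
      _ = x⁻¹ * (φ x * b) := by rw [h2]
      _ = x⁻¹ * φ x * b := by group
  have hx : φ x = x * (x⁻¹ * φ x) := by group
  have hcfix : φ (x⁻¹ * φ x) = x⁻¹ * φ x := hB _ hc
  have hpow := h94_pow_apply_of_fixed φ x (x⁻¹ * φ x) hx hcfix (orderOf φ)
  rw [pow_orderOf_eq_one, MulAut.one_apply] at hpow
  have hck : (x⁻¹ * φ x) ^ orderOf φ = 1 := by
    have := hpow
    exact mul_left_cancel (a := x) (by rw [mul_one]; exact this.symm)
  have hc1 : x⁻¹ * φ x = 1 := h94_eq_one_of_odd_pow hX _ _ hodd hck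
  have : φ x = x * 1 := by rw [← hc1]; group
  simpa using this

end Cfsg.Agent.Helper94.N5
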