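import Mathlib

set_option autoImplicit false

/-!
# JPC (T13c), parametrised form: `exists_isThreeCycle_of_five_of`

The statement of JPC (T13c) `exists_isThreeCycle_of_five` (helper35 server, S4150) with the two leaf
pieces (W) `witt` and (T13c2) `isThreeCycle_pow_forty` taken as hypotheses (specialised to `Ω`).
No dependency beyond Mathlib.
-/

namespace Cfsg.Agent.Helper94.JPC

open Equiv Equiv.Perm MulAction Subgroup

universe u

theorem exists_isThreeCycle_of_five_of {Ω : Type u} [Fintype Ω] [DecidableEq Ω]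
    (hW : ∀ (G : Subgroup (Perm Ω)) (Δ : Finset Ω)
      (_hk : IsMultiplyPretransitive G Ω Δ.card) (ℓ : ℕ) (_hℓ : ℓ.Prime)
      (R : Subgroup (Perm Ω)) (_hRG : R ≤ G) (_hRΔ : ∀ r ∈ R, ∀ t ∈ Δ, r t = t)
      (_hRp : IsPGroup ℓ R)
      (_hmax : ∀ R' : Subgroup (Perm Ω), R' ≤ G → (∀ r ∈ R', ∀ t ∈ Δ, r t = t) →
        IsPGroup ℓ R' → R ≤ R' → R' ≤ R)
      (σ : Perm Ω) (_hσ : ∀ t, σ t ∈ Δ ↔ t ∈ Δ),
      ∃ a ∈ G, (∀ r, a * r * a⁻¹ ∈ R ↔ r ∈ R) ∧ ∀ t ∈ Δ, a t = σ t)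
    (hT : Fintype.card Ω = 13 → ∀ (R : Subgroup (Perm Ω)) (_hR : IsPGroup 5 R) {f : Perm Ω}
      (_hfR : f ∈ R) (_hf10 : f.support.card = 10)
      (_hRfix : ∀ r ∈ R, ∀ t, t ∉ f.support → r t = t)
      {a : Perm Ω} (_ha : ∀ r, a * r * a⁻¹ ∈ R ↔ r ∈ R)
      {t₁ t₂ t₃ : Ω} (_h1 : t₁ ∉ f.support) (_h2 : t₂ ∉ f.support) (_h3 : t₃ ∉ f.support)
      (_h12 : t₁ ≠ t₂) (_h23 : t₂ ≠ t₃) (_h13 : t₁ ≠ t₃)
      (_ha1 : a t₁ = t₂) (_ha2 : a t₂ = t₃) (_ha3 : a t₃ = t₁),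
      (a ^ 40).IsThreeCycle)
    (hcard : Fintype.card Ω = 13) (G : Subgroup (Perm Ω))
    (h3 : IsMultiplyPretransitive G Ω 3) {f : Perm Ω} (hf : f ∈ G) (hf5 : f ^ 5 = 1)
    (hf10 : f.support.card = 10) : ∃ w ∈ G, w.IsThreeCycle := by
  classical
  -- Δ = complement of the support, three points
  set Δ : Finset Ω := f.supportᶜ with hΔ
  have hΔcard : Δ.card = 3 := by
    rw [hΔ, Finset.card_compl, hcard, hf10]
  have hmemΔ : ∀ t, t ∈ Δ ↔ t ∉ f.support := fun t => by rw [hΔ, Finset.mem_compl]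
  obtain ⟨t₁, t₂, t₃, h12, h13, h23, hΔeq⟩ := Finset.card_eq_three.mp hΔcard
  have ht1 : t₁ ∈ Δ := by rw [hΔeq]; simp
  have ht2 : t₂ ∈ Δ := by rw [hΔeq]; simp
  have ht3 : t₃ ∈ Δ := by rw [hΔeq]; simp
  -- the family of admissible 5-subgroups
  let s : Set (Subgroup (Perm Ω)) :=
    {R' | R' ≤ G ∧ (∀ r ∈ R', ∀ t ∈ Δ, r t = t) ∧ IsPGroup 5 R'}
  have hfixpow : ∀ (n : ℤ) t, t ∈ Δ → (f ^ n) t = t := by
    intro n t ht
    have hft : f t = t := by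
      have := (hmemΔ t).mp ht
      simpa [Perm.mem_support] using this
    exact Perm.zpow_apply_eq_self_of_apply_eq_self hft n
  have hzs : zpowers f ∈ s := by
    refine ⟨?_, ?_, ?_⟩
    · rw [zpowers_le]; exact hf
    · intro r hr t ht
      obtain ⟨n, rfl⟩ := mem_zpowers_iff.mp hr
      exact hfixpow n t ht
    · intro g
      obtain ⟨g, hg⟩ := g
      obtain ⟨n, rfl⟩ := mem_zpowers_iff.mp hg
      refine ⟨1, ?_⟩
      apply Subtype.ext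
      simp only [pow_one, SubmonoidClass.mk_pow, OneMemClass.coe_one]
      rw [← zpow_natCast, ← zpow_mul, mul_comm, zpow_mul, zpow_natCast, hf5, one_zpow]
  obtain ⟨R, hzR, hRmax⟩ := (Set.toFinite s).exists_le_maximal hzs
  obtain ⟨hRG, hRΔ, hRp⟩ := hRmax.prop
  have hmax : ∀ R' : Subgroup (Perm Ω), R' ≤ G → (∀ r ∈ R', ∀ t ∈ Δ, r t = t) →
      IsPGroup 5 R' → R ≤ R' → R' ≤ R := by
    intro R' h1 h2 h3' hle
    exact hRmax.le_of_ge ⟨h1, h2, h3'⟩ hle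
  -- the 3-cycle on Δ
  let σ : Perm Ω := swap t₁ t₂ * swap t₂ t₃
  have hσ1 : σ t₁ = t₂ := by
    simp only [σ, Perm.mul_apply]
    rw [swap_apply_of_ne_of_ne h12 h13, swap_apply_left]
  have hσ2 : σ t₂ = t₃ := by
    simp only [σ, Perm.mul_apply]
    rw [swap_apply_left, swap_apply_of_ne_of_ne h13.symm h23.symm]
  have hσ3 : σ t₃ = t₁ := by
    simp only [σ, Perm.mul_apply]
    rw [swap_apply_right, swap_apply_right]
  have hσ : ∀ t, σ t ∈ Δ ↔ t ∈ Δ := by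
    intro t
    by_cases ht : t ∈ Δ
    · have ht' := ht
      rw [hΔeq] at ht'
      simp only [Finset.mem_insert, Finset.mem_singleton] at ht'
      rcases ht' with rfl | rfl | rfl
      · rw [hσ1]; exact ⟨fun _ => ht, fun _ => ht2⟩
      · rw [hσ2]; exact ⟨fun _ => ht, fun _ => ht3⟩
      · rw [hσ3]; exact ⟨fun _ => ht, fun _ => ht1⟩
    · have hne : t ≠ t₁ ∧ t ≠ t₂ ∧ t ≠ t₃ := by
        refine ⟨?_, ?_, ?_⟩ <;> rintro rfl <;> exact ht (by assumption)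
      have hσt : σ t = t := by
        simp only [σ, Perm.mul_apply]
        rw [swap_apply_of_ne_of_ne hne.2.1 hne.2.2, swap_apply_of_ne_of_ne hne.1 hne.2.1]
      rw [hσt]
  have hk : IsMultiplyPretransitive G Ω Δ.card := by rw [hΔcard]; exact h3
  obtain ⟨a, haG, haN, haΔ⟩ := hW G Δ hk 5 (by norm_num) R hRG hRΔ hRp hmax σ hσ
  refine ⟨a ^ 40, pow_mem haG 40, ?_⟩
  have hfR : f ∈ R := hzR (mem_zpowers f)
  have hRfix : ∀ r ∈ R, ∀ t, t ∉ f.support → r t = t :=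
    fun r hr t ht => hRΔ r hr t ((hmemΔ t).mpr ht)
  exact hT hcard R hRp hfR hf10 hRfix haN ((hmemΔ _).mp ht1) ((hmemΔ _).mp ht2)
    ((hmemΔ _).mp ht3) h12 h23 h13 ((haΔ t₁ ht1).trans hσ1) ((haΔ t₂ ht2).trans hσ2)
    ((haΔ t₃ ht3).trans hσ3)

end Cfsg.Agent.Helper94.JPC
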