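import Mathlib
import Cfsg.Agent.Lib.Helper62.SLN0

/-! SLN server (helper62, S2332), piece R6 `finrank_fixSp_conj`. -/

set_option autoImplicit false

namespace Cfsg.Agent.Helper94.SLN

open Matrix Module Cfsg.Agent.Helper93.U2 Cfsg.Agent.Helper62.SLN

section REPgen

variable {G : Type*} [Group G] {𝓐 : Type*} [AddCommGroup 𝓐] [Fintype 𝓐]
  {V : Type*} [AddCommGroup V] [Module ℂ V] [FiniteDimensional ℂ V]
  (pr : Pairing 𝓐) (el : 𝓐 → G) (ρ : Representation ℂ G V)

omit [FiniteDimensional ℂ V] in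
theorem r6_inv_apply {G : Type*} [Group G] (ρ : Representation ℂ G V) (g : G) (v : V) :
    ρ g⁻¹ (ρ g v) = v := by
  rw [← Module.End.mul_apply, ← map_mul, inv_mul_cancel, map_one, Module.End.one_apply]

omit [FiniteDimensional ℂ V] in
theorem r6_apply_inv {G : Type*} [Group G] (ρ : Representation ℂ G V) (g : G) (v : V) :
    ρ g (ρ g⁻¹ v) = v := by
  rw [← Module.End.mul_apply, ← map_mul, mul_inv_cancel, map_one, Module.End.one_apply]

omit [FiniteDimensional ℂ V] in
theorem r6_map_eq {G : Type*} [Group G] (ρ : Representation ℂ G V) (s : G) (S : Set G) :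
    fixSp ρ ((fun g => s * g * s⁻¹) '' S) = (fixSp ρ S).map (ρ s) := by
  ext w
  constructor
  · intro hw
    refine ⟨ρ s⁻¹ w, ?_, r6_apply_inv ρ s w⟩
    intro g hg
    have h1 : ρ (s * g * s⁻¹) w = w := hw _ ⟨g, hg, rfl⟩
    rw [map_mul, map_mul, Module.End.mul_apply, Module.End.mul_apply] at h1
    have h2 := congrArg (ρ s⁻¹) h1
    rw [r6_inv_apply] at h2
    exact h2
  · rintro ⟨v, hv, rfl⟩
    rintro _ ⟨g, hg, rfl⟩
    rw [map_mul, map_mul, Module.End.mul_apply, Module.End.mul_apply, r6_inv_apply]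
    have h1 : ρ g v = v := hv g hg
    rw [h1]

omit [Fintype 𝓐] in
/-- piece R6 : conjugate sets have fixed spaces of the same dimension -/
theorem finrank_fixSp_conj {G : Type*} [Group G] (ρ : Representation ℂ G V) (s : G) (S : Set G) :
    finrank ℂ (fixSp ρ ((fun g => s * g * s⁻¹) '' S)) = finrank ℂ (fixSp ρ S) := by
  rw [r6_map_eq]
  have hinj : Function.Injective (ρ s) := by
    intro x y hxy
    have := congrArg (ρ s⁻¹) hxy
    rwa [r6_inv_apply, r6_inv_apply] at this
  exact (LinearEquiv.finrank_eq (Submodule.equivMapOfInjective (ρ s) hinj (fixSp ρ S))).symm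

end REPgen

end Cfsg.Agent.Helper94.SLN
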