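import Mathlib

/-!
# O5760 server (helper7, S0980): piece B1 `exists_x`

The unique subgroup of order 3 of `C(R)`, `|C(R)| ∈ {15, 30}`, `R` a Sylow 5-subgroup of order 5.
-/

set_option autoImplicit false

namespace Cfsg.Agent.Helper94.O5760

universe u v

/-- a group of order 15 or 30 with a central subgroup of order 5 has exactly one Sylow 3-subgroup -/
theorem h94_unique_sylow3 {C : Type u} [Group C] [Finite C]
    (hC : Nat.card C = 15 ∨ Nat.card C = 30) (Z : Subgroup C) (hZ : Nat.card Z = 5)
    (hZc : Z ≤ Subgroup.center C) :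
    ∀ y y' : C, orderOf y = 3 → orderOf y' = 3 → y' ∈ Subgroup.zpowers y := by
  haveI : Fact (Nat.Prime 3) := ⟨Nat.prime_three⟩
  have h3C : 3 ∣ Nat.card C := by rcases hC with h | h <;> rw [h] <;> decide
  obtain ⟨P⟩ : Nonempty (Sylow 3 C) := Sylow.nonempty
  -- |P| = 3
  have hP3 : Nat.card (P : Subgroup C) = 3 := by
    obtain ⟨k, hk⟩ := (IsPGroup.iff_card).mp P.isPGroup'
    have hdvd : 3 ∣ Nat.card (P : Subgroup C) := P.dvd_card_of_dvd_card h3C
    have hdvdC : Nat.card (P : Subgroup C) ∣ Nat.card C := Subgroup.card_subgroup_dvd_card _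
    rcases k with _ | _ | k
    · rw [hk] at hdvd; norm_num at hdvd
    · rw [hk]; norm_num
    · exfalso
      have h9 : 9 ∣ Nat.card C := by
        refine Dvd.dvd.trans ?_ hdvdC
        rw [hk]
        exact ⟨3 ^ k, by ring⟩
      rcases hC with h | h <;> rw [h] at h9 <;> omega
  -- the normalizer of P has order divisible by 15
  have hN3 : 3 ∣ Nat.card (Subgroup.normalizer ((P : Subgroup C) : Set C)) := by
    have h := Subgroup.card_dvd_of_le (Subgroup.le_normalizer (H := (P : Subgroup C)))
    rw [hP3] at h; exact h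
  have hN5 : 5 ∣ Nat.card (Subgroup.normalizer ((P : Subgroup C) : Set C)) := by
    have h := Subgroup.card_dvd_of_le (hZc.trans (Subgroup.center_le_normalizer ((P : Subgroup C) : Set C)))
    rw [hZ] at h; exact h
  have hN15 : 15 ∣ Nat.card (Subgroup.normalizer ((P : Subgroup C) : Set C)) := by
    have : (15 : ℕ) = 3 * 5 := by norm_num
    rw [this]
    exact Nat.Coprime.mul_dvd_of_dvd_of_dvd (by norm_num) hN3 hN5
  have hidx : (Subgroup.normalizer ((P : Subgroup C) : Set C)).index *
      Nat.card (Subgroup.normalizer ((P : Subgroup C) : Set C)) = Nat.card C :=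
    Subgroup.index_mul_card _
  have hn3 : Nat.card (Sylow 3 C) = (Subgroup.normalizer ((P : Subgroup C) : Set C)).index :=
    P.card_eq_index_normalizer
  have hmod : Nat.card (Sylow 3 C) ≡ 1 [MOD 3] := card_sylow_modEq_one 3 C
  have hone : Nat.card (Sylow 3 C) = 1 := by
    obtain ⟨m, hm⟩ := hN15
    rw [hm] at hidx
    rw [hn3] at hmod ⊢
    set i := (Subgroup.normalizer ((P : Subgroup C) : Set C)).index with hi
    have hmod' : i % 3 = 1 := hmod
    have hm0 : 0 < m := by
      rcases Nat.eq_zero_or_pos m with h0 | h0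
      · rw [h0] at hidx
        rcases hC with h | h <;> rw [h] at hidx <;> omega
      · exact h0
    rcases hC with h | h
    · rw [h] at hidx
      have : i * m = 1 := by nlinarith
      exact Nat.eq_one_of_mul_eq_one_right this
    · rw [h] at hidx
      have him : i * m = 2 := by nlinarith
      have hi2 : i ∣ 2 := ⟨m, him.symm⟩
      have : i ≤ 2 := Nat.le_of_dvd (by norm_num) hi2
      interval_cases i <;> omega
  haveI : Subsingleton (Sylow 3 C) := by
    rw [← Finite.card_le_one_iff_subsingleton, hone]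
  intro y y' hy hy'
  have hzp : ∀ w : C, orderOf w = 3 → Subgroup.zpowers w ≤ (P : Subgroup C) := by
    intro w hw
    have hpg : IsPGroup 3 (Subgroup.zpowers w) := by
      apply IsPGroup.of_card (n := 1)
      rw [Nat.card_zpowers, hw, pow_one]
    obtain ⟨P', hP'⟩ := hpg.exists_le_sylow
    rw [Subsingleton.elim P P']
    exact hP'
  have heq : Subgroup.zpowers y = (P : Subgroup C) := by
    apply Subgroup.eq_of_le_of_card_ge (hzp y hy)
    rw [hP3, Nat.card_zpowers, hy]
  rw [heq]
  exact hzp y' hy' (Subgroup.mem_zpowers y')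

theorem exists_x {G : Type u} [Group G] [Finite G] (R : Sylow 5 G)
    (hR : Nat.card (R : Subgroup G) = 5)
    (hC : Nat.card (Subgroup.centralizer ((R : Subgroup G) : Set G)) = 15 ∨
      Nat.card (Subgroup.centralizer ((R : Subgroup G) : Set G)) = 30) :
    ∃ x : G, orderOf x = 3 ∧ x ∈ Subgroup.centralizer ((R : Subgroup G) : Set G) ∧
      (∀ n ∈ Subgroup.normalizer ((R : Subgroup G) : Set G), n * x * n⁻¹ ∈ Subgroup.zpowers x) ∧
      (∀ x' ∈ Subgroup.centralizer ((R : Subgroup G) : Set G), orderOf x' = 3 →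
        x' ∈ Subgroup.zpowers x) := by
  haveI : Fact (Nat.Prime 3) := ⟨Nat.prime_three⟩
  haveI : Fact (Nat.Prime 5) := ⟨by norm_num⟩
  set C : Subgroup G := Subgroup.centralizer ((R : Subgroup G) : Set G) with hCdef
  -- R is commutative, so R ≤ C
  have hRcomm : ∀ a ∈ (R : Subgroup G), ∀ c ∈ (R : Subgroup G), a * c = c * a := by
    haveI : IsCyclic ↥(R : Subgroup G) := isCyclic_of_prime_card hR
    intro a ha c hc
    have := IsCyclic.commGroup.mul_comm (⟨a, ha⟩ : ↥(R : Subgroup G)) ⟨c, hc⟩
    exact congrArg Subtype.val this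
  have hRC : (R : Subgroup G) ≤ C := by
    intro a ha
    show a ∈ Subgroup.centralizer ((R : Subgroup G) : Set G)
    rw [Subgroup.mem_centralizer_iff]
    intro c hc
    exact hRcomm c hc a ha
  -- the central subgroup of order 5 of ↥C
  have hZ : Nat.card ((R : Subgroup G).subgroupOf C) = 5 := by
    rw [Nat.card_congr (Subgroup.subgroupOfEquivOfLe hRC).toEquiv, hR]
  have hZc : (R : Subgroup G).subgroupOf C ≤ Subgroup.center ↥C := by
    intro a ha
    rw [Subgroup.mem_center_iff]
    intro c
    apply Subtype.ext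
    have hc : (c : G) ∈ Subgroup.centralizer ((R : Subgroup G) : Set G) := c.2
    rw [Subgroup.mem_centralizer_iff] at hc
    have := hc a.1 (Subgroup.mem_subgroupOf.mp ha)
    simp only [Subgroup.coe_mul]
    exact this.symm
  have key := h94_unique_sylow3 (C := ↥C) hC ((R : Subgroup G).subgroupOf C) hZ hZc
  have h3C : 3 ∣ Nat.card ↥C := by rcases hC with h | h <;> rw [h] <;> decide
  obtain ⟨y, hy⟩ := exists_prime_orderOf_dvd_card' 3 h3C
  have huniq : ∀ x' ∈ C, orderOf x' = 3 → x' ∈ Subgroup.zpowers (y : G) := by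
    intro x' hx' hox'
    have h1 : orderOf (⟨x', hx'⟩ : ↥C) = 3 := by
      rw [← Subgroup.orderOf_coe]; exact hox'
    have h2 := key y ⟨x', hx'⟩ hy h1
    obtain ⟨k, hk⟩ := Subgroup.mem_zpowers_iff.mp h2
    refine Subgroup.mem_zpowers_iff.mpr ⟨k, ?_⟩
    have := congrArg Subtype.val hk
    simpa using this
  refine ⟨(y : G), ?_, y.2, ?_, huniq⟩
  · rw [Subgroup.orderOf_coe]; exact hy
  · intro n hn
    apply huniq
    · -- n y n⁻¹ ∈ C
      show n * (y : G) * n⁻¹ ∈ Subgroup.centralizer ((R : Subgroup G) : Set G)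
      rw [Subgroup.mem_centralizer_iff]
      intro r hr
      have hr' : n⁻¹ * r * n ∈ (R : Subgroup G) :=
        ((Subgroup.mem_normalizer_iff''.mp hn) r).mp hr
      have hy' : (y : G) ∈ Subgroup.centralizer ((R : Subgroup G) : Set G) := y.2
      rw [Subgroup.mem_centralizer_iff] at hy'
      have hc : n⁻¹ * r * n * (y : G) = (y : G) * (n⁻¹ * r * n) := hy' _ hr'
      calc r * (n * (y : G) * n⁻¹) = n * (n⁻¹ * r * n * (y : G)) * n⁻¹ := by group
        _ = n * ((y : G) * (n⁻¹ * r * n)) * n⁻¹ := by rw [hc]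
        _ = n * (y : G) * n⁻¹ * r := by group
    · have : n * (y : G) * n⁻¹ = MulAut.conj n (y : G) := by simp [MulAut.conj_apply]
      rw [this, MulEquiv.orderOf_eq, Subgroup.orderOf_coe]
      exact hy

end Cfsg.Agent.Helper94.O5760
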