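import Mathlib

/-!
# O5760 server (helper7, S0980): piece B2 `card_M`
-/

set_option autoImplicit false

namespace Cfsg.Agent.Helper94.O5760

universe u v

/-- an element conjugating `x` and (by its inverse) into `zpowers x` normalizes `zpowers x` -/
theorem h94_mem_normalizer_zpowers {G : Type u} [Group G] (x g : G)
    (h1 : g * x * g⁻¹ ∈ Subgroup.zpowers x) (h2 : g⁻¹ * x * g ∈ Subgroup.zpowers x) :
    g ∈ Subgroup.normalizer ((Subgroup.zpowers x : Subgroup G) : Set G) := by
  rw [Subgroup.mem_normalizer_iff]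
  intro h
  constructor
  · intro hh
    obtain ⟨k, rfl⟩ := Subgroup.mem_zpowers_iff.mp hh
    rw [← conj_zpow]
    exact Subgroup.zpow_mem _ h1 k
  · intro hh
    obtain ⟨k, hk⟩ := Subgroup.mem_zpowers_iff.mp hh
    have : h = (g⁻¹ * x * g) ^ k := by
      have h3 : g⁻¹ * x * g = g⁻¹ * x * g⁻¹⁻¹ := by rw [inv_inv]
      rw [h3, conj_zpow, hk]; group
    rw [this]
    exact Subgroup.zpow_mem _ h2 k

theorem card_M {G : Type u} [Group G] [Finite G] [IsSimpleGroup G] (hG : Nat.card G = 5760)
    (R : Sylow 5 G) (hR : Nat.card (R : Subgroup G) = 5)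
    (hN : Nat.card (Subgroup.normalizer ((R : Subgroup G) : Set G)) = 60)
    (hidx : ∀ H : Subgroup G, H ≠ ⊤ → 10 ≤ H.index)
    (hover : ∀ Y : Subgroup G, Subgroup.normalizer ((R : Subgroup G) : Set G) ≤ Y →
      ∃ a : ℕ, a % 5 = 1 ∧ Nat.card Y = a * Nat.card (Subgroup.normalizer ((R : Subgroup G) : Set G)))
    (x : G) (hx : orderOf x = 3)
    (hxN : ∀ n ∈ Subgroup.normalizer ((R : Subgroup G) : Set G), n * x * n⁻¹ ∈ Subgroup.zpowers x) :
    Nat.card (Subgroup.normalizer ((Subgroup.zpowers x : Subgroup G) : Set G)) = 360 := by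
  haveI : Fact (Nat.Prime 3) := ⟨Nat.prime_three⟩
  set M : Subgroup G := Subgroup.normalizer ((Subgroup.zpowers x : Subgroup G) : Set G) with hM
  have hNM : Subgroup.normalizer ((R : Subgroup G) : Set G) ≤ M := by
    intro n hn
    apply h94_mem_normalizer_zpowers x n (hxN n hn)
    have := hxN n⁻¹ (Subgroup.inv_mem _ hn)
    rwa [inv_inv] at this
  obtain ⟨a, ha5, haM⟩ := hover M hNM
  rw [hN] at haM
  have hdvd : Nat.card M ∣ 5760 := by rw [← hG]; exact Subgroup.card_subgroup_dvd_card M
  have hidxM : M.index * Nat.card M = 5760 := by rw [← hG]; exact Subgroup.index_mul_card M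
  have hZ3 : Nat.card (Subgroup.zpowers x) = 3 := by rw [Nat.card_zpowers, hx]
  -- a divides 96
  have ha96 : a ∣ 96 := by
    rw [haM] at hdvd
    have : a * 60 ∣ 96 * 60 := by norm_num; exact hdvd
    exact Nat.dvd_of_mul_dvd_mul_right (by norm_num) this
  have hale : a ≤ 96 := Nat.le_of_dvd (by norm_num) ha96
  have hcases : a = 1 ∨ a = 6 ∨ a = 16 ∨ a = 96 := by
    interval_cases a <;> first | omega | (exfalso; revert ha96; decide)
  rcases hcases with rfl | rfl | rfl | rfl
  · -- a = 1: a Sylow 3-subgroup containing x is abelian of order 9 and lies in M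
    exfalso
    have hpg : IsPGroup 3 (Subgroup.zpowers x) := by
      apply IsPGroup.of_card (n := 1)
      rw [hZ3, pow_one]
    obtain ⟨P, hP⟩ := hpg.exists_le_sylow
    have hP9 : Nat.card (P : Subgroup G) = 9 := by
      obtain ⟨k, hk⟩ := (IsPGroup.iff_card).mp P.isPGroup'
      have hnd : ¬ 3 ∣ (P : Subgroup G).index := P.not_dvd_index
      have hmul : (P : Subgroup G).index * Nat.card (P : Subgroup G) = 5760 := by
        rw [← hG]; exact Subgroup.index_mul_card _
      rw [hk] at hmul
      rcases k with _ | _ | _ | k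
      · exfalso; apply hnd; norm_num at hmul; rw [hmul]; decide
      · exfalso; apply hnd
        have : (P : Subgroup G).index = 1920 := by omega
        rw [this]; decide
      · rw [hk]; norm_num
      · exfalso
        have h27 : 27 ∣ 5760 := by
          rw [← hmul]
          exact Dvd.dvd.mul_left ⟨3 ^ k, by ring⟩ _
        omega
    have hcomm := IsPGroup.commutative_of_card_eq_prime_sq (p := 3) (G := ↥(P : Subgroup G))
      (by rw [hP9]; norm_num)
    have hxP : x ∈ (P : Subgroup G) := hP (Subgroup.mem_zpowers x)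
    have hPM : (P : Subgroup G) ≤ M := by
      intro p hp
      have hc : p * x = x * p := congrArg Subtype.val (hcomm ⟨p, hp⟩ ⟨x, hxP⟩)
      apply h94_mem_normalizer_zpowers x p
      · have : p * x * p⁻¹ = x := by rw [hc]; group
        rw [this]; exact Subgroup.mem_zpowers x
      · have : p⁻¹ * x * p = x := by rw [mul_assoc, ← hc]; group
        rw [this]; exact Subgroup.mem_zpowers x
    have h9 : 9 ∣ Nat.card M := by
      rw [← hP9]; exact Subgroup.card_dvd_of_le hPM
    rw [haM] at h9
    omega
  · -- a = 6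
    rw [haM]
  · -- a = 16: index 6
    exfalso
    have hne : M ≠ ⊤ := by
      intro htop
      rw [htop, Subgroup.card_top, hG] at haM
      omega
    have := hidx M hne
    rw [haM] at hidxM
    omega
  · -- a = 96: M = ⊤, zpowers x is normal
    exfalso
    have hMtop : M = ⊤ := by
      apply Subgroup.eq_top_of_card_eq
      rw [haM, hG]
    have hnorm : (Subgroup.zpowers x).Normal := by
      rw [← Subgroup.normalizer_eq_top_iff]
      exact hMtop
    rcases hnorm.eq_bot_or_eq_top with h | h
    · rw [h, Subgroup.card_bot] at hZ3; omega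
    · rw [h, Subgroup.card_top, hG] at hZ3; omega

end Cfsg.Agent.Helper94.O5760
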