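import Mathlib
import Cfsg.Agent.Lib.Helper7.O5760Defs

/-!
# O5760 server (helper7, S0980): piece D1 `K3_basic`
-/

set_option autoImplicit false

namespace Cfsg.Agent.Helper94.O5760

open Cfsg MulAction Cfsg.Agent.Helper7.O5760

universe u v

section D

variable {G : Type u} [Group G] {X : Type v} [MulAction G X]

theorem h94_K3_conj (g : G) (a b : X) (k : G) (hk : k ∈ K3 G a b) :
    g * k * g⁻¹ ∈ K3 G (g • a) (g • b) := by
  unfold K3 at hk ⊢
  induction hk using Subgroup.closure_induction with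
  | mem k hk =>
    apply Subgroup.subset_closure
    obtain ⟨h1, h2, h3⟩ := hk
    refine ⟨?_, ?_, ?_⟩
    · rw [mul_smul, mul_smul, inv_smul_smul, h1]
    · rw [mul_smul, mul_smul, inv_smul_smul, h2]
    · rw [← h3]
      have : g * k * g⁻¹ = MulAut.conj g k := by simp [MulAut.conj_apply]
      rw [this]
      exact MulEquiv.orderOf_eq (MulAut.conj g) k
  | one =>
    have : g * 1 * g⁻¹ = 1 := by group
    rw [this]; exact Subgroup.one_mem _
  | mul x y _ _ hx hy =>
    have : g * (x * y) * g⁻¹ = (g * x * g⁻¹) * (g * y * g⁻¹) := by group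
    rw [this]; exact Subgroup.mul_mem _ hx hy
  | inv x _ hx =>
    have : g * x⁻¹ * g⁻¹ = (g * x * g⁻¹)⁻¹ := by group
    rw [this]; exact Subgroup.inv_mem _ hx

theorem K3_basic :
    (∀ (g : G) (a b : X) (k : G), k ∈ K3 G a b → g * k * g⁻¹ ∈ K3 G (g • a) (g • b)) ∧
    (∀ (g : G) (a b c : X), c ∈ line G a b → g • c ∈ line G (g • a) (g • b)) ∧
    (∀ a b c d : X, c ∈ line G a b → d ∈ line G a b → K3 G a b ≤ K3 G c d) ∧
    (∀ a b : X, a ∈ line G a b ∧ b ∈ line G a b) := by
  refine ⟨h94_K3_conj, ?_, ?_, ?_⟩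
  · intro g a b c hc k hk
    -- g⁻¹ k g ∈ K3 a b
    have h1 := h94_K3_conj g⁻¹ (g • a) (g • b) k hk
    rw [inv_smul_smul, inv_smul_smul, inv_inv] at h1
    have h2 := hc _ h1
    -- (g⁻¹ * k * g) • c = c
    rw [mul_smul, mul_smul] at h2
    have h3 := congrArg (fun y => g • y) h2
    simp only [smul_inv_smul] at h3
    exact h3
  · intro a b c d hc hd
    unfold K3
    rw [Subgroup.closure_le]
    rintro k ⟨h1, h2, h3⟩
    apply Subgroup.subset_closure
    have hk : k ∈ K3 G a b := Subgroup.subset_closure ⟨h1, h2, h3⟩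
    exact ⟨hc k hk, hd k hk, h3⟩
  · intro a b
    have key : ∀ k ∈ K3 G a b, k • a = a ∧ k • b = b := by
      intro k hk
      unfold K3 at hk
      induction hk using Subgroup.closure_induction with
      | mem k hk => exact ⟨hk.1, hk.2.1⟩
      | one => exact ⟨one_smul _ _, one_smul _ _⟩
      | mul x y _ _ hx hy =>
        exact ⟨by rw [mul_smul, hy.1, hx.1], by rw [mul_smul, hy.2, hx.2]⟩
      | inv x _ hx =>
        exact ⟨by rw [inv_smul_eq_iff, hx.1], by rw [inv_smul_eq_iff, hx.2]⟩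
    exact ⟨fun k hk => (key k hk).1, fun k hk => (key k hk).2⟩

end D

end Cfsg.Agent.Helper94.O5760
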