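import Mathlib
import Cfsg.Agent.Lib.Helper7.O5760Defs

/-!
# O5760 server (helper7, S0980): piece D2 `line_eq_of_mem`
-/

set_option autoImplicit false

namespace Cfsg.Agent.Helper94.O5760

open Cfsg MulAction Cfsg.Agent.Helper7.O5760

universe u v

section D

variable {G : Type u} [Group G] {X : Type v} [MulAction G X]

theorem line_eq_of_mem [Finite G] (z : X → G) (h : Hyp G X z)
    (hbasic : (∀ (g : G) (a b : X) (k : G), k ∈ K3 G a b → g * k * g⁻¹ ∈ K3 G (g • a) (g • b)) ∧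
      (∀ (g : G) (a b c : X), c ∈ line G a b → g • c ∈ line G (g • a) (g • b)) ∧
      (∀ a b c d : X, c ∈ line G a b → d ∈ line G a b → K3 G a b ≤ K3 G c d) ∧
      (∀ a b : X, a ∈ line G a b ∧ b ∈ line G a b))
    (a b c d : X) (hab : a ≠ b) (hcd : c ≠ d) (hc : c ∈ line G a b) (hd : d ∈ line G a b) :
    K3 G c d = K3 G a b ∧ line G c d = line G a b := by
  have hle : K3 G a b ≤ K3 G c d := hbasic.2.2.1 a b c d hc hd
  obtain ⟨g, hga, hgb⟩ := h.twoTrans a b c d hab hcd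
  have hga' : g⁻¹ • c = a := by rw [← hga, inv_smul_smul]
  have hgb' : g⁻¹ • d = b := by rw [← hgb, inv_smul_smul]
  have hcard : Nat.card ↥(K3 G c d) ≤ Nat.card ↥(K3 G a b) := by
    let f : ↥(K3 G c d) → ↥(K3 G a b) := fun k => ⟨g⁻¹ * k.1 * g⁻¹⁻¹, by
      have := hbasic.1 g⁻¹ c d k.1 k.2
      rw [hga', hgb'] at this
      exact this⟩
    apply Nat.card_le_card_of_injective f
    intro k k' hkk
    have h1 : g⁻¹ * k.1 * g⁻¹⁻¹ = g⁻¹ * k'.1 * g⁻¹⁻¹ := congrArg Subtype.val hkk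
    apply Subtype.ext
    exact mul_left_cancel (mul_right_cancel h1)
  have hK : K3 G c d = K3 G a b := (Subgroup.eq_of_le_of_card_ge hle hcard).symm
  refine ⟨hK, ?_⟩
  unfold line
  rw [hK]

end D

end Cfsg.Agent.Helper94.O5760
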