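import Mathlib
import Cfsg.Agent.Lib.Helper2.SR0

/-! SR server (helper2), piece A2 `orb_act`. -/

set_option autoImplicit false

namespace Cfsg.Agent.Helper94.SR

open Matrix Cfsg Cfsg.Agent.Helper13 Cfsg.Agent.Helper84.SpRoot Cfsg.Agent.Helper5.SpAut
open Cfsg.Agent.Helper2.SR

section A
variable {F : Type*} [Field F] {n : ℕ}
  {H : Subgroup (Matrix.symplecticGroup (Fin n) F)} {e0 : Fin n ⊕ Fin n → F}

/-- (A2) -/
theorem orb_act {x : Fin n ⊕ Fin n → F} (hx : x ∈ Orb H e0)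
    {h : Matrix.symplecticGroup (Fin n) F} (hh : h ∈ H) : h.val *ᵥ x ∈ Orb H e0 := by
  obtain ⟨g, hg, rfl⟩ := hx
  refine ⟨h * g, H.mul_mem hh hg, ?_⟩
  show (h.val * g.val) *ᵥ e0 = h.val *ᵥ (g.val *ᵥ e0)
  exact (Matrix.mulVec_mulVec e0 h.val g.val).symm

end A

end Cfsg.Agent.Helper94.SR
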