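import Mathlib
import Cfsg.Agent.Lib.Helper98.SPE0

/-!
# SPE (S2333, helper98 server): piece K4a `binary_card_le_of_aniso`

An anisotropic binary quadratic form over a finite field of characteristic 2 takes every nonzero
value exactly `q + 1` times.
-/

set_option autoImplicit false

namespace Cfsg.Agent.Helper94.SPE

open Matrix Cfsg.Agent.Helper93.U2 Cfsg.Agent.Helper98.SPE

section CNT

variable {F : Type*} [Field F] [Fintype F] {q : ℕ} (hq : Fintype.card F = q) {n : ℕ}

/-- In a finite field with `2 = 0` every element is a square. -/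
theorem k4a_exists_sq (h2 : (2 : F) = 0) (y : F) : ∃ x : F, x ^ 2 = y := by
  have hinj : Function.Injective (fun x : F => x ^ 2) := by
    intro x y hxy
    simp only at hxy
    have h : (x - y) ^ 2 = 0 := by
      have e : (x - y) ^ 2 = x ^ 2 + y ^ 2 - 2 * (x * y) := by ring
      rw [e, h2, zero_mul, sub_zero, hxy, ← two_mul, h2, zero_mul]
    exact sub_eq_zero.mp (pow_eq_zero_iff (by norm_num) |>.mp h)
  exact (Finite.injective_iff_surjective.mp hinj) y

include hq in
/-- piece K4a. -/
theorem binary_card_le_of_aniso (h2 : (2 : F) = 0) (a b c : F)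
    (han : ∀ s t : F, a * s ^ 2 + b * s * t + c * t ^ 2 = 0 → s = 0 ∧ t = 0) (e : F) :
    {st : F × F | a * st.1 ^ 2 + b * st.1 * st.2 + c * st.2 ^ 2 = e}.ncard ≤ q + 1 := by
  classical
  set Qf : F × F → F := fun st => a * st.1 ^ 2 + b * st.1 * st.2 + c * st.2 ^ 2 with hQf
  set L : F → Finset (F × F) := fun e => Finset.univ.filter (fun st => Qf st = e) with hL
  have hncard : ∀ e : F, {st : F × F | a * st.1 ^ 2 + b * st.1 * st.2 + c * st.2 ^ 2 = e}.ncard
      = (L e).card := by
    intro e
    rw [← Set.ncard_coe_finset]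
    congr 1
    ext st
    simp [hL, hQf]
  rw [hncard]
  -- the level 0
  have hL0 : (L 0).card = 1 := by
    rw [Finset.card_eq_one]
    refine ⟨(0, 0), ?_⟩
    ext st
    simp only [hL, hQf, Finset.mem_filter, Finset.mem_univ, true_and, Finset.mem_singleton]
    constructor
    · intro h
      obtain ⟨h1, h2'⟩ := han st.1 st.2 h
      exact Prod.ext h1 h2'
    · rintro rfl
      simp
  -- scaling
  have hle : ∀ e e' : F, e ≠ 0 → e' ≠ 0 → (L e).card ≤ (L e').card := by
    intro e e' he he'
    obtain ⟨l, hl⟩ := k4a_exists_sq h2 (e' / e)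
    have hl0 : l ≠ 0 := by
      rintro rfl
      have : e' / e ≠ 0 := div_ne_zero he' he
      apply this
      rw [← hl]; ring
    apply Finset.card_le_card_of_injOn (fun st => (l * st.1, l * st.2))
    · intro st hst
      simp only [hL, hQf, Finset.coe_filter, Finset.mem_univ, true_and, Set.mem_setOf_eq] at hst ⊢
      have : a * (l * st.1) ^ 2 + b * (l * st.1) * (l * st.2) + c * (l * st.2) ^ 2
          = l ^ 2 * (a * st.1 ^ 2 + b * st.1 * st.2 + c * st.2 ^ 2) := by ring
      rw [this, hst, hl]
      field_simp
    · intro st _ st' _ h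
      simp only [Prod.mk.injEq] at h
      exact Prod.ext (mul_left_cancel₀ hl0 h.1) (mul_left_cancel₀ hl0 h.2)
  -- the total count
  have hsum : ∑ e' : F, (L e').card = q * q := by
    have := Finset.card_eq_sum_card_fiberwise (f := Qf) (s := (Finset.univ : Finset (F × F)))
      (t := (Finset.univ : Finset F)) (fun _ _ => Finset.mem_univ _)
    rw [Finset.card_univ, Fintype.card_prod, hq] at this
    exact this.symm
  by_cases he : e = 0
  · rw [he, hL0]; omega
  · have hconst : ∀ e' ∈ (Finset.univ : Finset F).erase 0, (L e').card = (L e).card := by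
      intro e' he'
      have he'0 : e' ≠ 0 := Finset.ne_of_mem_erase he'
      exact le_antisymm (hle e' e he'0 he) (hle e e' he he'0)
    have hsplit : (L 0).card + ∑ e' ∈ (Finset.univ : Finset F).erase 0, (L e').card
        = ∑ e' : F, (L e').card :=
      Finset.add_sum_erase (Finset.univ : Finset F) (fun e' => (L e').card) (Finset.mem_univ (0 : F))
    rw [Finset.sum_congr rfl hconst, Finset.sum_const, Finset.card_erase_of_mem (Finset.mem_univ 0),
      Finset.card_univ, hq, hL0, hsum, smul_eq_mul] at hsplit
    -- 1 + (q - 1) * N = q * q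
    have hq2 : 2 ≤ q := by
      rw [← hq]; exact Fintype.one_lt_card
    obtain ⟨k, rfl⟩ := Nat.exists_eq_add_of_le hq2
    have e1 : 2 + k - 1 = k + 1 := by omega
    rw [e1] at hsplit
    have : (k + 1) * (L e).card = (k + 1) * (k + 3) := by
      have : (k + 1) * (k + 3) + 1 = (2 + k) * (2 + k) := by ring
      omega
    have := Nat.eq_of_mul_eq_mul_left (by omega : 0 < k + 1) this
    omega

end CNT

end Cfsg.Agent.Helper94.SPE
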