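import Mathlib
import Cfsg.Agent.Lib.Helper98.SPE0

/-!
# SPE (S2333, helper98 server): piece K4b `binary_card_le_of_iso`
-/

set_option autoImplicit false

namespace Cfsg.Agent.Helper94.SPE

open Matrix Cfsg.Agent.Helper93.U2 Cfsg.Agent.Helper98.SPE

section CNT

variable {F : Type*} [Field F] [Fintype F] {q : ℕ} (hq : Fintype.card F = q) {n : ℕ}

include hq in
/-- piece K4b. -/
theorem binary_card_le_of_iso (b c : F) (hb : b ≠ 0) (e : F) :
    {st : F × F | (0 : F) * st.1 ^ 2 + b * st.1 * st.2 + c * st.2 ^ 2 = e}.ncard ≤ 2 * q - 1 := by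
  classical
  have hq1 : 1 ≤ q := by
    rw [← hq]; exact Fintype.card_pos
  have hsub : {st : F × F | (0 : F) * st.1 ^ 2 + b * st.1 * st.2 + c * st.2 ^ 2 = e} ⊆
      ((fun s : F => (s, (0 : F))) '' Set.univ) ∪
        ((fun t : F => ((e / t - c * t) / b, t)) '' ({0}ᶜ : Set F)) := by
    rintro ⟨s, t⟩ hst
    simp only [Set.mem_setOf_eq, zero_mul, zero_add] at hst
    by_cases ht : t = 0
    · left
      exact ⟨s, Set.mem_univ _, by rw [ht]⟩
    · right
      refine ⟨t, ht, ?_⟩
      have : s = (e / t - c * t) / b := by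
        rw [eq_div_iff hb, ← hst]
        field_simp
        ring
      rw [this]
  have h1 : ((fun s : F => (s, (0 : F))) '' Set.univ).ncard ≤ q := by
    refine (Set.ncard_image_le (Set.toFinite _)).trans ?_
    rw [Set.ncard_univ, Nat.card_eq_fintype_card, hq]
  have h2 : ((fun t : F => ((e / t - c * t) / b, t)) '' ({0}ᶜ : Set F)).ncard ≤ q - 1 := by
    refine (Set.ncard_image_le (Set.toFinite _)).trans ?_
    rw [Set.ncard_compl, Set.ncard_singleton, Nat.card_eq_fintype_card, hq]
  calc _ ≤ _ := Set.ncard_le_ncard hsub (Set.toFinite _)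
    _ ≤ _ := Set.ncard_union_le _ _
    _ ≤ q + (q - 1) := Nat.add_le_add h1 h2
    _ = 2 * q - 1 := by omega

end CNT

end Cfsg.Agent.Helper94.SPE
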