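import Mathlib
import Cfsg.Agent.Lib.Helper98.SPE0

/-!
# SPE (S2333, helper98 server): piece K4c `roots_card_le_two`
-/

set_option autoImplicit false

namespace Cfsg.Agent.Helper94.SPE

open Matrix Cfsg.Agent.Helper93.U2 Cfsg.Agent.Helper98.SPE

section CNT

variable {F : Type*} [Field F] [Fintype F] {q : ℕ} (hq : Fintype.card F = q) {n : ℕ}

/-- piece K4c. -/
theorem roots_card_le_two (a b d : F) (hb : b ≠ 0) :
    {s : F | a * s ^ 2 + b * s = d}.ncard ≤ 2 := by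
  by_contra hcon
  rw [not_le, Set.two_lt_ncard_iff] at hcon
  obtain ⟨s₁, s₂, s₃, h1, h2, h3, h12, h13, h23⟩ := hcon
  simp only [Set.mem_setOf_eq] at h1 h2 h3
  -- a (s₁ + s₂) + b = 0
  have e12 : (s₁ - s₂) * (a * (s₁ + s₂) + b) = 0 := by
    have : a * s₁ ^ 2 + b * s₁ - (a * s₂ ^ 2 + b * s₂) = 0 := by rw [h1, h2, sub_self]
    rw [← this]; ring
  have e13 : (s₁ - s₃) * (a * (s₁ + s₃) + b) = 0 := by
    have : a * s₁ ^ 2 + b * s₁ - (a * s₃ ^ 2 + b * s₃) = 0 := by rw [h1, h3, sub_self]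
    rw [← this]; ring
  have f12 : a * (s₁ + s₂) + b = 0 :=
    (mul_eq_zero.mp e12).resolve_left (sub_ne_zero.mpr h12)
  have f13 : a * (s₁ + s₃) + b = 0 :=
    (mul_eq_zero.mp e13).resolve_left (sub_ne_zero.mpr h13)
  have g : a * (s₂ - s₃) = 0 := by
    have : a * (s₁ + s₂) + b - (a * (s₁ + s₃) + b) = 0 := by rw [f12, f13, sub_self]
    rw [← this]; ring
  have ha : a = 0 := (mul_eq_zero.mp g).resolve_right (sub_ne_zero.mpr h23)
  rw [ha, zero_mul, zero_add] at f12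
  exact hb f12

end CNT

end Cfsg.Agent.Helper94.SPE
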