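import Mathlib
import Cfsg.Agent.Lib.Helper98.SPE0

/-!
# SPE (S2333, helper98 server): piece K4d `roots_card_le_one`
-/

set_option autoImplicit false

namespace Cfsg.Agent.Helper94.SPE

open Matrix Cfsg.Agent.Helper93.U2 Cfsg.Agent.Helper98.SPE

section CNT

variable {F : Type*} [Field F] [Fintype F] {q : ℕ} (hq : Fintype.card F = q) {n : ℕ}

/-- piece K4d. -/
theorem roots_card_le_one (b d : F) (hb : b ≠ 0) :
    {s : F | (0 : F) * s ^ 2 + b * s = d}.ncard ≤ 1 := by
  rw [Set.ncard_le_one]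
  intro s₁ h1 s₂ h2
  simp only [Set.mem_setOf_eq, zero_mul, zero_add] at h1 h2
  exact mul_left_cancel₀ hb (h1.trans h2.symm)

end CNT

end Cfsg.Agent.Helper94.SPE
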