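import Mathlib
import Cfsg.Agent.Lib.Helper87.Psl3Defs

/-!
helper94: piece (W) `exists_witness` of helper87's lemma server "PSL3F" (row S5318).
-/

set_option autoImplicit false

namespace Cfsg.Agent.Helper94.Psl3

open Matrix Cfsg Cfsg.Agent.Helper87.Psl3

variable {F : Type*} [Field F]

local notation "SL3" => Matrix.SpecialLinearGroup (Fin 3) F
local notation "GL2" => GL (Fin 2) F

/-- `(rot c c)^8 = 1` as soon as `(2 c²)^4 = 1`. -/
theorem h94_rot_pow_eight (c : F) (hc : (2 * c ^ 2) ^ 4 = 1) : (rot c c) ^ 8 = 1 := by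
  have e1 : rot c c * rot c c = rot 0 (2 * c ^ 2) := by
    rw [rot_mul]; congr 1 <;> ring
  have e2 : rot (0 : F) (2 * c ^ 2) * rot 0 (2 * c ^ 2) = rot (-(2 * c ^ 2) ^ 2) 0 := by
    rw [rot_mul]; congr 1 <;> ring
  have e3 : rot (-(2 * c ^ 2) ^ 2) (0 : F) * rot (-(2 * c ^ 2) ^ 2) 0 = rot 1 0 := by
    rw [rot_mul]; congr 1
    · rw [← hc]; ring
    · ring
  have h8 : (8 : ℕ) = 2 * 2 * 2 := by norm_num
  have p2 : rot c c ^ 2 = rot 0 (2 * c ^ 2) := by rw [pow_two, e1]
  have p4 : (rot c c ^ 2) ^ 2 = rot (-(2 * c ^ 2) ^ 2) 0 := by rw [p2, pow_two, e2]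
  have p8 : ((rot c c ^ 2) ^ 2) ^ 2 = 1 := by rw [p4, pow_two, e3, rot_one]
  rw [h8, pow_mul, pow_mul, p8]

/-- a nonzero `c` with `(2 c²)^4 = 1` exists in every finite field of odd characteristic. -/
theorem h94_exists_c [Finite F] (h2 : (2 : F) ≠ 0) : ∃ c : F, c ≠ 0 ∧ (2 * c ^ 2) ^ 4 = 1 := by
  classical
  haveI : Fintype F := Fintype.ofFinite F
  by_cases hsq : IsSquare (-1 : F)
  · -- `i² = -1`, `c = (1 + i) / 2`
    obtain ⟨i, hi⟩ := hsq
    have hi2 : i ^ 2 = -1 := by rw [pow_two]; exact hi.symm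
    refine ⟨(1 + i) / 2, ?_, ?_⟩
    · intro h
      have h1 : 1 + i = 0 := by
        rcases div_eq_zero_iff.mp h with h | h
        · exact h
        · exact absurd h h2
      have h3 : i = -1 := by linear_combination h1
      rw [h3] at hi2
      have : (2 : F) = 0 := by linear_combination hi2
      exact h2 this
    · have h4 : 2 * ((1 + i) / 2) ^ 2 = i := by
        field_simp
        linear_combination hi2
      rw [h4]
      have : i ^ 4 = (i ^ 2) ^ 2 := by ring
      rw [this, hi2]; ring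
  · -- `-1` is a nonsquare: `1/2` or `-1/2` is a square
    have hchar : ringChar F ≠ 2 := by
      intro h
      have := ringChar.Nat.cast_ringChar (R := F)
      rw [h] at this
      exact h2 (by exact_mod_cast this)
    have hhalf : (1 / 2 : F) ≠ 0 := one_div_ne_zero h2
    have hm1 : (-1 : F) ≠ 0 := neg_ne_zero.mpr one_ne_zero
    have key : IsSquare (1 / 2 : F) ∨ IsSquare (-(1 / 2) : F) := by
      by_cases h : IsSquare (1 / 2 : F)
      · exact Or.inl h
      · right
        have e1 := (FiniteField.isSquare_iff hchar hm1).not.mp hsq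
        have e2 := (FiniteField.isSquare_iff hchar hhalf).not.mp h
        have d1 := (FiniteField.pow_dichotomy hchar hm1).resolve_left e1
        have d2 := (FiniteField.pow_dichotomy hchar hhalf).resolve_left e2
        have hne : (-(1 / 2) : F) ≠ 0 := neg_ne_zero.mpr hhalf
        rw [FiniteField.isSquare_iff hchar hne]
        have : (-(1 / 2) : F) = (-1) * (1 / 2) := by ring
        rw [this, mul_pow, d1, d2]; ring
    rcases key with ⟨c, hc⟩ | ⟨c, hc⟩
    · refine ⟨c, ?_, ?_⟩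
      · intro h; rw [h, mul_zero] at hc; exact hhalf hc
      · have : 2 * c ^ 2 = 1 := by
          rw [pow_two, ← hc]; field_simp
        rw [this]; ring
    · refine ⟨c, ?_, ?_⟩
      · intro h; rw [h, mul_zero] at hc; exact hhalf (neg_eq_zero.mp hc)
      · have : 2 * c ^ 2 = -1 := by
          rw [pow_two, ← hc]; field_simp
        rw [this]; ring

theorem exists_witness [Finite F] (h2 : (2 : F) ≠ 0) :
    ∃ a b : F, a ≠ 0 ∧ b ≠ 0 ∧ ∃ W : GL2, W ∈ P2 ∧ (W : Matrix (Fin 2) (Fin 2) F) = rot a b := by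
  obtain ⟨c, hc0, hc⟩ := h94_exists_c h2
  have h8 := h94_rot_pow_eight c hc
  refine ⟨c, c, hc0, hc0, Units.ofPowEqOne (rot c c) 8 h8 (by norm_num), ?_, rfl⟩
  rw [mem_P2_iff]
  refine ⟨(mem_Eu_iff _).2 ⟨c, c, rfl⟩, 3, ?_⟩
  have : (2 : ℕ) ^ 3 = 8 := by norm_num
  rw [this]
  exact Units.pow_ofPowEqOne h8 (by norm_num)

end Cfsg.Agent.Helper94.Psl3
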