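import Mathlib
import Cfsg.Agent.Lib.Helper2.SR0

/-! SR server (helper2), piece A4 `MM_addsub`. -/

set_option autoImplicit false

namespace Cfsg.Agent.Helper94.SR

open Matrix Cfsg Cfsg.Agent.Helper13 Cfsg.Agent.Helper84.SpRoot Cfsg.Agent.Helper5.SpAut
open Cfsg.Agent.Helper2.SR

section A
variable {F : Type*} [Field F] {n : ℕ}
  {H : Subgroup (Matrix.symplecticGroup (Fin n) F)} {e0 : Fin n ⊕ Fin n → F}

/-- (A4) `sympT_mul`, `sympT_zero`, `sympT_inv` -/
theorem MM_addsub : ∃ S : AddSubgroup F, (S : Set F) = MM H e0 := by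
  refine ⟨{ carrier := MM H e0
            add_mem' := ?_
            zero_mem' := ?_
            neg_mem' := ?_ }, rfl⟩
  · intro a b ha hb
    show sympT e0 (a + b) ∈ H
    rw [← sympT_mul]
    exact H.mul_mem ha hb
  · show sympT e0 (0 : F) ∈ H
    rw [sympT_zero]
    exact H.one_mem
  · intro a ha
    show sympT e0 (-a) ∈ H
    rw [← sympT_inv]
    exact H.inv_mem ha

end A

end Cfsg.Agent.Helper94.SR
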