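import Mathlib
import Cfsg.Agent.Lib.Helper87.Psl3Defs

/-!
helper94: piece (N6) `torus_normalizer` of helper87's lemma server "PSL3F" (row S5318).
-/

set_option autoImplicit false

namespace Cfsg.Agent.Helper94.Psl3

open Matrix Cfsg Cfsg.Agent.Helper87.Psl3

variable {F : Type*} [Field F]

local notation "SL3" => Matrix.SpecialLinearGroup (Fin 3) F
local notation "GL2" => GL (Fin 2) F

theorem h94_tau_mul_tau : (tau : GL2) * tau = 1 := by
  apply Units.ext
  rw [Units.val_mul, tau_val, Units.val_one]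
  ext i j; fin_cases i <;> fin_cases j <;> simp [Matrix.mul_apply, Fin.sum_univ_two]

theorem h94_tau_inv : (tau : GL2)⁻¹ = tau := by
  rw [inv_eq_iff_mul_eq_one]; exact h94_tau_mul_tau

theorem h94_tau_conj_val (X : GL2) (a b : F) (h : (X : Matrix (Fin 2) (Fin 2) F) = rot a b) :
    ((tau * X * tau⁻¹ : GL2) : Matrix (Fin 2) (Fin 2) F) = rot a (-b) := by
  rw [h94_tau_inv, Units.val_mul, Units.val_mul, h, tau_val]
  ext i j; fin_cases i <;> fin_cases j <;> simp [rot, Matrix.mul_apply, Fin.sum_univ_two]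

theorem h94_tau_conj_mem_Eu {X : GL2} (h : X ∈ Eu) : tau * X * tau⁻¹ ∈ Eu := by
  obtain ⟨a, b, hab⟩ := (mem_Eu_iff X).1 h
  exact (mem_Eu_iff _).2 ⟨a, -b, h94_tau_conj_val X a b hab⟩

theorem h94_tau_conj_mem_P2 {X : GL2} (h : X ∈ P2) : tau * X * tau⁻¹ ∈ P2 := by
  obtain ⟨hE, m, hm⟩ := (mem_P2_iff X).1 h
  refine (mem_P2_iff _).2 ⟨h94_tau_conj_mem_Eu hE, m, ?_⟩
  rw [conj_pow, hm, mul_one, mul_inv_cancel]

theorem h94_tau_mem_normalizer_P2 : (tau : GL2) ∈ Subgroup.normalizer ((P2 : Subgroup GL2) : Set GL2) := by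
  rw [Subgroup.mem_normalizer_iff]
  intro h
  constructor
  · exact h94_tau_conj_mem_P2
  · intro hh
    have := h94_tau_conj_mem_P2 hh
    have e : tau * (tau * h * tau⁻¹) * tau⁻¹ = h := by
      rw [h94_tau_inv]
      calc tau * (tau * h * tau) * tau = (tau * tau) * h * (tau * tau) := by group
        _ = h := by rw [h94_tau_mul_tau, one_mul, mul_one]
    rwa [e] at this

theorem h94_isPGroup_S2 : IsPGroup 2 (S2 : Subgroup GL2) := by
  have hP : IsPGroup 2 (P2 : Subgroup GL2) := by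
    rintro ⟨X, hX⟩
    obtain ⟨-, m, hm⟩ := (mem_P2_iff X).1 hX
    exact ⟨m, Subtype.ext (by simpa using hm)⟩
  have hT : IsPGroup 2 (Subgroup.zpowers (tau : GL2)) := by
    rintro ⟨Y, hY⟩
    obtain ⟨k, rfl⟩ := Subgroup.mem_zpowers_iff.mp hY
    refine ⟨1, Subtype.ext ?_⟩
    have : ((tau : GL2) ^ k) ^ 2 = 1 := by
      rw [← _root_.zpow_natCast, ← _root_.zpow_mul, mul_comm, _root_.zpow_mul, _root_.zpow_natCast, pow_two, h94_tau_mul_tau,
        _root_.one_zpow]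
    simpa using this
  have hN : Subgroup.zpowers (tau : GL2) ≤ Subgroup.normalizer ((P2 : Subgroup GL2) : Set GL2) := by
    rw [Subgroup.zpowers_le]; exact h94_tau_mem_normalizer_P2
  exact IsPGroup.to_sup_of_normal_left' hP hT hN

theorem h94_sc_val (c : Fˣ) : ((sc c : GL2) : Matrix (Fin 2) (Fin 2) F) = rot (c : F) 0 := by
  ext i j
  fin_cases i <;> fin_cases j <;> simp [sc, rot, Matrix.GeneralLinearGroup.coe_scalar]

theorem h94_sc_injective : Function.Injective (sc : Fˣ →* GL2) := by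
  intro c d h
  have h1 := congrArg (fun Y : GL2 => (Y : Matrix (Fin 2) (Fin 2) F) 0 0) h
  simp only [h94_sc_val, rot] at h1
  apply Units.ext
  simpa using h1

/-- an element of the torus fixed by `tau`-conjugation is a scalar. -/
theorem h94_scalar_of_tau_fixed (h2 : (2 : F) ≠ 0) (Z : GL2) (hZ : Z ∈ Eu)
    (hfix : tau * Z * tau⁻¹ = Z) : ∃ c : Fˣ, Z = sc c := by
  obtain ⟨a, b, hab⟩ := (mem_Eu_iff Z).1 hZ
  have h1 := h94_tau_conj_val Z a b hab
  rw [hfix, hab] at h1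
  have hb : b = -b := by
    have := congrFun (congrFun h1 0) 1
    simpa [rot] using this
  have hb0 : b = 0 := by
    have : 2 * b = 0 := by linear_combination hb
    rcases mul_eq_zero.mp this with h | h
    · exact absurd h h2
    · exact h
  have ha : a ≠ 0 := by
    intro ha
    have hz : (Z : Matrix (Fin 2) (Fin 2) F) = 0 := by
      rw [hab, ha, hb0]; ext i j; fin_cases i <;> fin_cases j <;> simp [rot]
    exact Units.ne_zero Z hz
  refine ⟨Units.mk0 a ha, ?_⟩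
  apply Units.ext
  rw [h94_sc_val, hab, hb0]; rfl

theorem torus_normalizer [Finite F] (h2 : (2 : F) ≠ 0) (X : GL2) (hXE : X ∈ Eu)
    (hXN : X ∈ Subgroup.normalizer ((S2 : Subgroup GL2) : Set GL2)) :
    ∃ Y ∈ (P2 : Subgroup GL2), ∃ c : Fˣ, Odd (orderOf c) ∧ X = Y * sc c := by
  classical
  haveI : Fintype F := Fintype.ofFinite F
  -- the conjugate X' = tau X tau⁻¹
  set X' : GL2 := tau * X * tau⁻¹ with hX'
  have hX'E : X' ∈ Eu := h94_tau_conj_mem_Eu hXE
  -- Y₀ = X * X'⁻¹ lies in S2 ∩ Eu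
  have htauS : (tau : GL2) ∈ S2 := by
    unfold S2
    exact Subgroup.mem_sup_right (Subgroup.mem_zpowers tau)
  have hY0S : X * tau * X⁻¹ * tau⁻¹ ∈ (S2 : Subgroup GL2) := by
    have h1 : X * tau * X⁻¹ ∈ (S2 : Subgroup GL2) :=
      (Subgroup.mem_normalizer_iff.mp hXN tau).mp htauS
    exact Subgroup.mul_mem _ h1 (Subgroup.inv_mem _ htauS)
  have hY0eq : X * tau * X⁻¹ * tau⁻¹ = X * X'⁻¹ := by
    rw [hX']; group
  obtain ⟨m, hm⟩ := h94_isPGroup_S2 ⟨_, hY0S⟩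
  have hm' : (X * X'⁻¹) ^ (2 ^ m) = 1 := by
    have := congrArg Subtype.val hm
    rw [← hY0eq]
    simpa using this
  have hcomm : Commute X X'⁻¹ := Eu_comm hXE (Eu.inv_mem hX'E)
  have hpow : X ^ (2 ^ m) = X' ^ (2 ^ m) := by
    rw [hcomm.mul_pow, inv_pow, mul_inv_eq_one] at hm'
    exact hm'
  -- X^(2^m) is a scalar
  have hfix : tau * X ^ (2 ^ m) * tau⁻¹ = X ^ (2 ^ m) := by
    rw [← conj_pow, ← hX', ← hpow]
  obtain ⟨c0, hc0⟩ := h94_scalar_of_tau_fixed h2 (X ^ (2 ^ m)) (Eu.pow_mem hXE _) hfix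
  -- decomposition of the order
  have hn0 : orderOf X ≠ 0 := (orderOf_pos X).ne'
  obtain ⟨e, r, hr, hn⟩ := Nat.exists_eq_two_pow_mul_odd hn0
  have hcop : Nat.Coprime (2 ^ (m + e)) r :=
    Nat.Coprime.pow_left _ (Nat.coprime_two_left.mpr hr)
  have hbez := Nat.gcd_eq_gcd_ab (2 ^ (m + e)) r
  rw [hcop] at hbez
  set u := Nat.gcdA (2 ^ (m + e)) r
  set v := Nat.gcdB (2 ^ (m + e)) r
  -- S = X^(2^(m+e)) = sc (c0^(2^e))
  have hS : X ^ (2 ^ (m + e)) = sc (c0 ^ (2 ^ e)) := by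
    rw [pow_add, pow_mul, hc0, map_pow]
  have hXdecomp : X = (X ^ r) ^ v * (X ^ (2 ^ (m + e))) ^ u := by
    have h1 : X = X ^ ((1 : ℕ) : ℤ) := by simp
    rw [hbez] at h1
    rw [← _root_.zpow_natCast X r, ← _root_.zpow_natCast X (2 ^ (m + e)), ← _root_.zpow_mul, ← _root_.zpow_mul, ← _root_.zpow_add]
    conv_lhs => rw [h1]
    congr 1
    push_cast
    ring
  refine ⟨(X ^ r) ^ v, ?_, (c0 ^ (2 ^ e)) ^ u, ?_, ?_⟩
  · rw [mem_P2_iff]
    refine ⟨Eu.zpow_mem (Eu.pow_mem hXE _) _, e, ?_⟩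
    rw [← _root_.zpow_natCast, ← _root_.zpow_mul, mul_comm, _root_.zpow_mul, _root_.zpow_natCast, ← pow_mul, mul_comm, ← hn,
      pow_orderOf_eq_one, _root_.one_zpow]
  · have hr1 : ((c0 ^ (2 ^ e)) ^ u) ^ r = 1 := by
      apply h94_sc_injective
      rw [map_pow, map_zpow, ← hS, map_one, ← _root_.zpow_natCast, ← _root_.zpow_mul, mul_comm, _root_.zpow_mul,
        _root_.zpow_natCast, ← pow_mul]
      have : 2 ^ (m + e) * r = orderOf X * 2 ^ m := by rw [hn, pow_add]; ring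
      rw [this, pow_mul, pow_orderOf_eq_one, one_pow, _root_.one_zpow]
    exact Odd.of_dvd_nat hr (orderOf_dvd_of_pow_eq_one hr1)
  · rw [map_zpow, ← hS]
    exact hXdecomp

end Cfsg.Agent.Helper94.Psl3
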