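import Mathlib
import Cfsg.Agent.Lib.Helper87.Psu3Defs
import Cfsg.Agent.Lib.Helper94.Psl3N6

/-!
helper94: piece (N6U) `torus_normalizerU` of helper87's lemma server "PSU3F" (row S5319).
-/

set_option autoImplicit false

namespace Cfsg.Agent.Helper94.Psu3

open Matrix Cfsg Cfsg.Agent.Helper87.Psl3 Cfsg.Agent.Helper87.Psu3 Cfsg.Agent.Helper94.Psl3

variable {K : Type*} [Field K] {q : ℕ}

local notation "SL3" => Matrix.SpecialLinearGroup (Fin 3) K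
local notation "GL2" => GL (Fin 2) K

theorem h94_det_tau_inv : ((Matrix.GeneralLinearGroup.det (tau : GL2) : Kˣ)⁻¹ : Kˣ) = -1 := by
  have h : (Matrix.GeneralLinearGroup.det (tau : GL2) : Kˣ) = -1 := by
    apply Units.ext
    rw [Matrix.GeneralLinearGroup.val_det_apply, tau_val, Matrix.det_fin_two]
    simp
  rw [h, inv_neg_one]

theorem h94_iotaMat_tau_mulVec (w : Fin 3 → K) :
    (iotaMat (tau : GL2) *ᵥ w) 0 = w 0 ∧ (iotaMat (tau : GL2) *ᵥ w) 1 = - w 1 ∧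
      (iotaMat (tau : GL2) *ᵥ w) 2 = - w 2 := by
  refine ⟨?_, ?_, ?_⟩
  · simp [iotaMat, Matrix.mulVec, dotProduct, Fin.sum_univ_three]
  · simp [iotaMat, Matrix.mulVec, dotProduct, Fin.sum_univ_three]
  · simp [iotaMat, Matrix.mulVec, dotProduct, Fin.sum_univ_three, h94_det_tau_inv]

theorem h94_tau_mem_U2 (hodd : q % 2 = 1) : (tau : GL2) ∈ U2 q := by
  rw [mem_U2_iff, mem_SU_iff]
  intro u v
  have hq : Odd q := Nat.odd_iff.mpr hodd
  obtain ⟨u0, u1, u2⟩ := h94_iotaMat_tau_mulVec u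
  obtain ⟨v0, v1, v2⟩ := h94_iotaMat_tau_mulVec v
  simp only [iota_val, hermForm, Fin.sum_univ_three]
  rw [u0, u1, u2, v0, v1, v2, hq.neg_pow, hq.neg_pow]
  ring

theorem torus_normalizerU [Fintype K] (h2 : (2 : K) ≠ 0) (hodd : q % 2 = 1) (X : GL2)
    (hXE : X ∈ (Eu : Subgroup GL2)) (hXU : X ∈ U2 q)
    (hXN : X ∈ Subgroup.normalizer ((S2U q : Subgroup GL2) : Set GL2)) :
    ∃ Y ∈ (P2U q : Subgroup GL2), ∃ c : Kˣ, Odd (orderOf c) ∧ X = Y * sc c := by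
  classical
  -- the conjugate X' = tau X tau⁻¹
  set X' : GL2 := tau * X * tau⁻¹ with hX'
  have hX'E : X' ∈ Eu := h94_tau_conj_mem_Eu hXE
  -- Y₀ = X * X'⁻¹ lies in S2 ∩ Eu
  have htauS : (tau : GL2) ∈ S2U q := by
    unfold S2U
    refine Subgroup.mem_inf.mpr ⟨?_, h94_tau_mem_U2 hodd⟩
    unfold S2
    exact Subgroup.mem_sup_right (Subgroup.mem_zpowers tau)
  have hY0S : X * tau * X⁻¹ * tau⁻¹ ∈ (S2 : Subgroup GL2) := by
    have h1 : X * tau * X⁻¹ ∈ (S2U q : Subgroup GL2) :=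
      (Subgroup.mem_normalizer_iff.mp hXN tau).mp htauS
    have h3 : X * tau * X⁻¹ * tau⁻¹ ∈ (S2U q : Subgroup GL2) :=
      Subgroup.mul_mem _ h1 (Subgroup.inv_mem _ htauS)
    exact (Subgroup.mem_inf.mp h3).1
  have hY0eq : X * tau * X⁻¹ * tau⁻¹ = X * X'⁻¹ := by
    rw [hX']; group
  obtain ⟨m, hm⟩ := h94_isPGroup_S2 ⟨_, hY0S⟩
  have hm' : (X * X'⁻¹) ^ (2 ^ m) = 1 := by
    have := congrArg Subtype.val hm
    rw [← hY0eq]
    simpa using this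
  have hcomm : Commute X X'⁻¹ := Eu_comm hXE (Eu.inv_mem hX'E)
  have hpow : X ^ (2 ^ m) = X' ^ (2 ^ m) := by
    rw [hcomm.mul_pow, inv_pow, mul_inv_eq_one] at hm'
    exact hm'
  -- X^(2^m) is a scalar
  have hfix : tau * X ^ (2 ^ m) * tau⁻¹ = X ^ (2 ^ m) := by
    rw [← conj_pow, ← hX', ← hpow]
  obtain ⟨c0, hc0⟩ := h94_scalar_of_tau_fixed h2 (X ^ (2 ^ m)) (Eu.pow_mem hXE _) hfix
  -- decomposition of the order
  have hn0 : orderOf X ≠ 0 := (orderOf_pos X).ne'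
  obtain ⟨e, r, hr, hn⟩ := Nat.exists_eq_two_pow_mul_odd hn0
  have hcop : Nat.Coprime (2 ^ (m + e)) r :=
    Nat.Coprime.pow_left _ (Nat.coprime_two_left.mpr hr)
  have hbez := Nat.gcd_eq_gcd_ab (2 ^ (m + e)) r
  rw [hcop] at hbez
  set u := Nat.gcdA (2 ^ (m + e)) r
  set v := Nat.gcdB (2 ^ (m + e)) r
  have hS : X ^ (2 ^ (m + e)) = sc (c0 ^ (2 ^ e)) := by
    rw [pow_add, pow_mul, hc0, map_pow]
  have hXdecomp : X = (X ^ r) ^ v * (X ^ (2 ^ (m + e))) ^ u := by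
    have h1 : X = X ^ ((1 : ℕ) : ℤ) := by simp
    rw [hbez] at h1
    rw [← _root_.zpow_natCast X r, ← _root_.zpow_natCast X (2 ^ (m + e)), ← _root_.zpow_mul,
      ← _root_.zpow_mul, ← _root_.zpow_add]
    conv_lhs => rw [h1]
    congr 1
    push_cast
    ring
  refine ⟨(X ^ r) ^ v, ?_, (c0 ^ (2 ^ e)) ^ u, ?_, ?_⟩
  · unfold P2U
    refine Subgroup.mem_inf.mpr ⟨?_, (U2 q).zpow_mem ((U2 q).pow_mem hXU _) _⟩
    rw [mem_P2_iff]
    refine ⟨Eu.zpow_mem (Eu.pow_mem hXE _) _, e, ?_⟩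
    rw [← _root_.zpow_natCast, ← _root_.zpow_mul, mul_comm, _root_.zpow_mul, _root_.zpow_natCast,
      ← pow_mul, mul_comm, ← hn, pow_orderOf_eq_one, _root_.one_zpow]
  · have hr1 : ((c0 ^ (2 ^ e)) ^ u) ^ r = 1 := by
      apply h94_sc_injective
      rw [map_pow, map_zpow, ← hS, map_one, ← _root_.zpow_natCast, ← _root_.zpow_mul, mul_comm,
        _root_.zpow_mul, _root_.zpow_natCast, ← pow_mul]
      have : 2 ^ (m + e) * r = orderOf X * 2 ^ m := by rw [hn, pow_add]; ring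
      rw [this, pow_mul, pow_orderOf_eq_one, one_pow, _root_.one_zpow]
    exact Odd.of_dvd_nat hr (orderOf_dvd_of_pow_eq_one hr1)
  · rw [map_zpow, ← hS]
    exact hXdecomp

end Cfsg.Agent.Helper94.Psu3
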