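import Mathlib
import Cfsg.Prelude.Def_Local
import Cfsg.Agent.Lib.Helper89.TH1Defs
import Cfsg.Agent.Lib.Helper54.Solv
import Cfsg.Agent.Lib.Helper54.PSolv
import Cfsg.Agent.Lib.Helper70.GaschutzYenA
import Cfsg.Agent.Lib.Helper70.GaschutzYenC
import Cfsg.Agent.Lib.Helper76.SolvPSolv
import Cfsg.Agent.S3754

/-!
helper94: piece (KX) `exists_K` of helper89's lemma server "TH1" (row S3797).
-/

set_option autoImplicit false

namespace Cfsg.Agent.Helper94.TH1

open Cfsg Subgroup Cfsg.Agent.Helper89.TH1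
open scoped commutatorElement

universe u

variable {G : Type u} [Group G] [Finite G]

theorem exists_K {W : Subgroup G} (hB : Base G W) : ∃ K : Subgroup G, KData G K := by
  classical
  haveI : Group.IsSolvable G := hB.solv
  set Q : Subgroup G := pCore 2 G with hQ
  haveI hQn : Q.Normal := by rw [hQ]; infer_instance
  set π : G →* G ⧸ Q := QuotientGroup.mk' Q with hπ
  have hπs : Function.Surjective π := QuotientGroup.mk'_surjective Q
  have hker : π.ker = Q := QuotientGroup.ker_mk' Q
  set Ob : Subgroup (G ⧸ Q) := pPrimeCore 2 (G ⧸ Q) with hOb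
  set R : Subgroup G := Ob.comap π with hR
  haveI hRn : R.Normal := Subgroup.Normal.comap inferInstance π
  have hQR : Q ≤ R := by
    intro x hx
    rw [hR, Subgroup.mem_comap]
    have : π x = 1 := by
      have : x ∈ π.ker := by rw [hker]; exact hx
      exact this
    rw [this]; exact Subgroup.one_mem _
  -- |R : Q| = |O(G/Q)| is odd
  have hrel : Q.relIndex R = Nat.card Ob := by
    have h1 : (⊥ : Subgroup (G ⧸ Q)).comap π = Q := by
      rw [MonoidHom.comap_bot]; exact hker
    have h2 : ((⊥ : Subgroup (G ⧸ Q)).comap π).relIndex R = Nat.card Ob := by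
      rw [Subgroup.relIndex_comap, hR, Subgroup.map_comap_eq_self_of_surjective hπs,
        Subgroup.relIndex_bot_left]
    rw [← h2, h1]
  have hOcop : (Nat.card Ob).Coprime 2 := Cfsg.Agent.Helper54.pPrimeCore_coprime 2
  have hQp : IsPGroup 2 Q := Cfsg.Agent.Helper54.isPGroup_pCore
  obtain ⟨n, hn⟩ := IsPGroup.iff_card.mp hQp
  have hcop : (Nat.card Q).Coprime (Q.relIndex R) := by
    rw [hn, hrel]
    exact Nat.Coprime.pow_left n hOcop.symm
  have hsolvQ : Group.IsSolvable Q := inferInstance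
  obtain ⟨K, hKR, hKcard, hRle, hfr⟩ := Cfsg.Agent.Helper70.GY.hall_frattini Q R hQR hsolvQ hcop
  have hsup : Q ⊔ K = R := le_antisymm (sup_le hQR hKR) hRle
  -- elements of R are k * q
  have hRdec : ∀ r ∈ R, ∃ k ∈ K, ∃ q ∈ Q, k * q = r := by
    intro r hr
    have : r ∈ K ⊔ Q := by rw [sup_comm, hsup]; exact hr
    exact Subgroup.mem_sup_of_normal_right.mp this
  refine ⟨K, ?_, ?_, ?_, ?_⟩
  · rw [hKcard, hrel]
    exact Nat.coprime_two_right.mp hOcop
  · rw [← hQ, hsup]; exact hRn
  · intro g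
    obtain ⟨r, hr, hrg⟩ := hfr g
    obtain ⟨k, hk, q, hq, rfl⟩ := hRdec r hr
    refine ⟨q, hq, ?_⟩
    have hkN : k⁻¹ ∈ normalizer (K : Set G) := Subgroup.le_normalizer (K.inv_mem hk)
    have := Subgroup.mul_mem _ hkN hrg
    have e : k⁻¹ * (k * q * g) = q * g := by group
    rwa [e] at this
  · intro g hg
    rw [← hQ, hsup, hR, Subgroup.mem_comap]
    -- π g centralizes O(G/Q)
    have hps : IsPSolvable 2 (G ⧸ Q) :=
      Cfsg.Agent.Helper76.isPSolvable_of_isSolvable' 2
    have hcore : pCore 2 (G ⧸ Q) = ⊥ := Cfsg.Agent.Helper70.GY.pCore_quotient_pCore_eq_bot 2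
    apply Cfsg.Agent.S3754.centralizer_pPrimeCore_le hps hcore
    rw [Subgroup.mem_centralizer_iff]
    intro x hx
    obtain ⟨r, rfl⟩ := hπs x
    have hrR : r ∈ R := by rw [hR, Subgroup.mem_comap]; exact hx
    obtain ⟨k, hk, q, hq, rfl⟩ := hRdec r hrR
    have hq1 : π q = 1 := by
      have : q ∈ π.ker := by rw [hker]; exact hq
      exact this
    have hc1 : π ⁅g, k⁆ = 1 := by
      have : ⁅g, k⁆ ∈ π.ker := by rw [hker]; exact hg k hk
      exact this
    rw [map_mul, hq1, mul_one]
    -- π k * π g = π g * π k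
    rw [map_commutatorElement, commutatorElement_eq_one_iff_mul_comm] at hc1
    exact hc1.symm

end Cfsg.Agent.Helper94.TH1
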