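import Mathlib
import Cfsg.Prelude.Def_Local
import Cfsg.Agent.Lib.Helper89.TH1Defs
import Cfsg.Agent.Lib.Helper54.Solv

/-!
helper94: piece (P2a) `exists_aut_group` of helper89's lemma server "TH1" (row S3797).
-/

set_option autoImplicit false

namespace Cfsg.Agent.Helper94.TH1

open Cfsg Subgroup Cfsg.Agent.Helper89.TH1
open scoped commutatorElement

universe u

variable {G : Type u} [Group G] [Finite G]

/-- a 2-element of an odd-order normal subgroup is trivial. -/
theorem h94_eq_one_of_mem_sylow_of_mem_pPrimeCore (S : Sylow 2 G) (z : G) (hzS : z ∈ (S : Subgroup G))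
    (hzO : z ∈ pPrimeCore 2 G) : z = 1 := by
  obtain ⟨k, hk⟩ := S.isPGroup' ⟨z, hzS⟩
  have hk' : z ^ 2 ^ k = 1 := by
    have := congrArg Subtype.val hk
    simpa using this
  have hcop : (Nat.card (pPrimeCore 2 G)).Coprime 2 := Cfsg.Agent.Helper54.pPrimeCore_coprime 2
  have h1 : orderOf z ∣ 2 ^ k := orderOf_dvd_of_pow_eq_one hk'
  have h2 : orderOf z ∣ Nat.card (pPrimeCore 2 G) := by
    have : orderOf (⟨z, hzO⟩ : pPrimeCore 2 G) ∣ Nat.card (pPrimeCore 2 G) := orderOf_dvd_natCard _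
    rwa [← Subgroup.orderOf_coe] at this
  have h3 : orderOf z ∣ 1 := by
    have hc : (Nat.card (pPrimeCore 2 G)).Coprime (2 ^ k) := Nat.Coprime.pow_right k hcop
    have := Nat.dvd_gcd h2 h1
    rwa [hc] at this
  exact orderOf_eq_one_iff.mp (Nat.dvd_one.mp h3)

theorem exists_aut_group (hG : Group.IsSolvable G) (h1 : OneClass G)
    (hidx : Odd (pCore 2 (G ⧸ pPrimeCore 2 G)).index) (S : Sylow 2 G) :
    ∃ Y : Subgroup (MulAut ↥(S : Subgroup G)), Group.IsSolvable Y ∧
      ∀ x y : ↥(S : Subgroup G), x ≠ 1 → x ^ 2 = 1 → y ≠ 1 → y ^ 2 = 1 → ∃ a ∈ Y, a x = y := by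
  classical
  set O : Subgroup G := pPrimeCore 2 G with hO
  set π : G →* G ⧸ O := QuotientGroup.mk' O with hπ
  have hπs : Function.Surjective π := QuotientGroup.mk'_surjective O
  set Pb : Subgroup (G ⧸ O) := pCore 2 (G ⧸ O) with hPb
  -- the image of S is a Sylow 2-subgroup of G/O, it contains Pb
  have hPb_le : Pb ≤ (S : Subgroup G).map π := by
    have := Cfsg.Agent.Helper54.pCore_le_sylow (S.mapSurjective hπs)
    rwa [Sylow.coe_mapSurjective] at this
  -- odd index forces equality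
  have hSmap_le : (S : Subgroup G).map π ≤ Pb := by
    rw [← Subgroup.relIndex_eq_one]
    have hdiv : Pb.relIndex ((S : Subgroup G).map π) ∣ Pb.index :=
      Dvd.intro _ (Subgroup.relIndex_mul_index hPb_le)
    have hoddr : Odd (Pb.relIndex ((S : Subgroup G).map π)) := Odd.of_dvd_nat hidx hdiv
    have hpg : IsPGroup 2 ((S : Subgroup G).map π) := S.isPGroup'.map π
    obtain ⟨n, hn⟩ := IsPGroup.iff_card.mp hpg
    have hdiv2 : Pb.relIndex ((S : Subgroup G).map π) ∣ 2 ^ n := by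
      rw [← hn]; exact Subgroup.relIndex_dvd_card _ _
    obtain ⟨j, -, hj⟩ := (Nat.dvd_prime_pow Nat.prime_two).mp hdiv2
    rcases Nat.eq_zero_or_pos j with h0 | hpos
    · rw [hj, h0, pow_zero]
    · exfalso
      rw [hj] at hoddr
      have : Even (2 ^ j) := (Nat.even_pow' hpos.ne').mpr even_two
      exact (Nat.not_odd_iff_even.mpr this) hoddr
  -- L = O_{2',2}(G)
  set L : Subgroup G := Pb.comap π with hL
  haveI hLn : L.Normal := Subgroup.Normal.comap inferInstance π
  have hSL : (S : Subgroup G) ≤ L := by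
    rw [hL, ← Subgroup.map_le_iff_le_comap]; exact hSmap_le
  have hfrat : normalizer ((S : Subgroup G) : Set G) ⊔ L = ⊤ := Sylow.normalizer_sup_eq_top' S hSL
  -- every element is (element of N(S)) * (element of O)
  have hdecomp : ∀ g : G, ∃ h ∈ normalizer ((S : Subgroup G) : Set G), ∃ o ∈ O, g = h * o := by
    intro g
    have hg : g ∈ normalizer ((S : Subgroup G) : Set G) ⊔ L := by rw [hfrat]; trivial
    obtain ⟨n, hn, l, hl, rfl⟩ := Subgroup.mem_sup_of_normal_right.mp hg
    have hl' : π l ∈ (S : Subgroup G).map π := hPb_le hl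
    obtain ⟨s, hs, hsl⟩ := Subgroup.mem_map.mp hl'
    refine ⟨n * s, Subgroup.mul_mem _ hn (Subgroup.le_normalizer hs), s⁻¹ * l, ?_, by group⟩
    have : π (s⁻¹ * l) = 1 := by rw [map_mul, map_inv, hsl, inv_mul_cancel]
    rw [hO]
    have hk : s⁻¹ * l ∈ π.ker := this
    rwa [hπ, QuotientGroup.ker_mk'] at hk
  -- the automorphism group
  refine ⟨(Subgroup.normalizerMonoidHom (S : Subgroup G)).range, ?_, ?_⟩
  · haveI : Group.IsSolvable G := hG
    exact Group.isSolvable_of_surjective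
      (f := (Subgroup.normalizerMonoidHom (S : Subgroup G)).rangeRestrict)
      (Subgroup.normalizerMonoidHom (S : Subgroup G)).rangeRestrict_surjective
  · intro x y hx1 hx2 hy1 hy2
    have hx1' : (x : G) ≠ 1 := fun h => hx1 (Subtype.ext h)
    have hy1' : (y : G) ≠ 1 := fun h => hy1 (Subtype.ext h)
    have hx2' : (x : G) ^ 2 = 1 := by
      have := congrArg Subtype.val hx2; simpa using this
    have hy2' : (y : G) ^ 2 = 1 := by
      have := congrArg Subtype.val hy2; simpa using this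
    obtain ⟨g, hg⟩ := isConj_iff.mp (h1 (x : G) (y : G) hx1' hx2' hy1' hy2')
    obtain ⟨h, hh, o, ho, rfl⟩ := hdecomp g
    -- y' = h⁻¹ y h ∈ S equals o x o⁻¹
    have hy'S : h⁻¹ * (y : G) * h ∈ (S : Subgroup G) := by
      have := (Subgroup.mem_normalizer_iff.mp (Subgroup.inv_mem _ hh) (y : G)).mp y.2
      simpa using this
    have hy'eq : h⁻¹ * (y : G) * h = o * (x : G) * o⁻¹ := by
      rw [← hg]; group
    have hzO : (h⁻¹ * (y : G) * h) * (x : G)⁻¹ ∈ O := by
      rw [hy'eq]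
      have hn : (O : Subgroup G).Normal := by rw [hO]; infer_instance
      have h2 : (x : G) * o⁻¹ * (x : G)⁻¹ ∈ O := hn.conj_mem _ (Subgroup.inv_mem _ ho) _
      have h3 : o * ((x : G) * o⁻¹ * (x : G)⁻¹) ∈ O := Subgroup.mul_mem _ ho h2
      have e : o * (x : G) * o⁻¹ * (x : G)⁻¹ = o * ((x : G) * o⁻¹ * (x : G)⁻¹) := by group
      rw [e]; exact h3
    have hzS : (h⁻¹ * (y : G) * h) * (x : G)⁻¹ ∈ (S : Subgroup G) :=
      Subgroup.mul_mem _ hy'S (Subgroup.inv_mem _ x.2)
    have hz1 := h94_eq_one_of_mem_sylow_of_mem_pPrimeCore S _ hzS (by rw [← hO]; exact hzO)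
    have hyx : (y : G) = h * (x : G) * h⁻¹ := by
      have e1 : h⁻¹ * (y : G) * h = (x : G) := by
        have := mul_inv_eq_one.mp hz1
        exact this
      rw [← e1]; group
    refine ⟨Subgroup.normalizerMonoidHom (S : Subgroup G) ⟨h, hh⟩, ⟨⟨h, hh⟩, rfl⟩, ?_⟩
    apply Subtype.ext
    rw [hyx]
    rfl

end Cfsg.Agent.Helper94.TH1
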