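import Mathlib
import Cfsg.Agent.Lib.Helper32.C3Defs
import Cfsg.Agent.Lib.Helper9.C3M3Defs

/-!
# C3M3 sub-server (helper9, for helper32's C3 server, S4415): piece K4 `scalar_D`
-/

set_option autoImplicit false

namespace Cfsg.Agent.Helper94.C3M3

open Cfsg.Agent.Helper32.C3 Cfsg.Agent.Helper9.C3M3

universe u v

section Mono2

variable {G : Type u} [Group G] [Finite G] {V : Type v} [AddCommGroup V] [Module (ZMod 3) V]
  [Finite V] (ρ : Representation (ZMod 3) G V) (R Q : Subgroup G) (b : G)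
  (e : Module.Basis (Fin 4) (ZMod 3) V) (π : G →* Equiv.Perm (Fin 4))
  (s : G → Fin 4 → (ZMod 3)ˣ)

theorem scalar_D (hmono : ∀ g i, ρ g (e i) = ((s g i : (ZMod 3)ˣ) : ZMod 3) • e (π g i))
    (hs1 : ∀ i, s 1 i = 1)
    (hinj : ∀ g h : G, π g = π h → (∀ i, s g i = s h i) → g = h)
    (hscal : ∀ d ∈ R ⊓ π.ker, ∀ i j, s d i = s d j) :
    Nat.card ↥(R ⊓ π.ker) = 1 ∨ (Nat.card ↥(R ⊓ π.ker) = 2 ∧ ∃ z ∈ R, ρ z = -1) := by
  classical
  have hu : ∀ u : (ZMod 3)ˣ, u = 1 ∨ u = -1 := by decide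
  have hinjD : Function.Injective (fun d : ↥(R ⊓ π.ker) => s d.1 0) := by
    intro d d' hdd
    apply Subtype.ext
    apply hinj
    · rw [MonoidHom.mem_ker.mp d.2.2, MonoidHom.mem_ker.mp d'.2.2]
    · intro i
      rw [hscal d.1 d.2 i 0, hscal d'.1 d'.2 i 0]; exact hdd
  have hle : Nat.card ↥(R ⊓ π.ker) ≤ 2 := by
    have h1 := Nat.card_le_card_of_injective _ hinjD
    have h2 : Nat.card (ZMod 3)ˣ = 2 := by rw [Nat.card_eq_fintype_card]; decide
    omega
  have hpos : 0 < Nat.card ↥(R ⊓ π.ker) := Nat.card_pos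
  by_cases h1 : Nat.card ↥(R ⊓ π.ker) = 1
  · left; exact h1
  · right
    have h2 : Nat.card ↥(R ⊓ π.ker) = 2 := by omega
    refine ⟨h2, ?_⟩
    haveI : Nontrivial ↥(R ⊓ π.ker) := by
      rw [← Finite.one_lt_card_iff_nontrivial]; omega
    obtain ⟨d, hd⟩ := exists_ne (1 : ↥(R ⊓ π.ker))
    have hd0 : s d.1 0 ≠ 1 := by
      intro h0
      apply hd
      apply hinjD
      show s d.1 0 = s (1 : G) 0
      rw [h0, hs1]
    have hdi : ∀ i, s d.1 i = -1 := by
      intro i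
      rw [hscal d.1 d.2 i 0]
      rcases hu (s d.1 0) with h | h
      · exact absurd h hd0
      · exact h
    refine ⟨d.1, d.2.1, ?_⟩
    apply e.ext
    intro i
    rw [hmono, hdi, MonoidHom.mem_ker.mp d.2.2]
    simp

end Mono2

end Cfsg.Agent.Helper94.C3M3
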