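import Mathlib
import Cfsg.Agent.Lib.Helper92.U6Defs

/-!
# U6 server (helper92, S1684): piece TV4 `tv_smul`
-/

set_option autoImplicit false

namespace Cfsg.Agent.Helper94.U6

open Cfsg.Agent.Helper92.U6

theorem tv_smul (c : F) (hc : c ≠ 0) (v : Fin 6 → F) : tv (c • v) = tv v := by
  have h3 : ∀ c : F, c ≠ 0 → c * c ^ 2 = 1 := by decide +kernel
  ext i j
  simp only [tv, Matrix.add_apply, Matrix.vecMulVec_apply, Pi.smul_apply, smul_eq_mul]
  congr 1
  rw [mul_pow]
  calc c * v i * (c ^ 2 * v j ^ 2) = (c * c ^ 2) * (v i * v j ^ 2) := by ring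
    _ = v i * v j ^ 2 := by rw [h3 c hc, one_mul]

end Cfsg.Agent.Helper94.U6
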