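import Mathlib
import Cfsg.Agent.Lib.Helper92.U6Defs

/-!
# U6 server (helper92, S1684): piece TV5 `tv_vec_injective`

A kernel-checked decoder: from the matrix `tv (vec i)` one reads off the code `vecL[i]`, and the
codes are pairwise different.
-/

set_option autoImplicit false

namespace Cfsg.Agent.Helper94.U6

open Cfsg.Agent.Helper92.U6

/-- the digit `0, 1, 2, 3` of an element of `F4` (inverse of `F4.ofCode`) -/
def h94dig (x : F) : ℕ := (x.1 : ZMod 2).val + 2 * (x.2 : ZMod 2).val

/-- the code of a vector -/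
def h94code (v : Fin 6 → F) : ℕ :=
  h94dig (v 0) + 4 * (h94dig (v 1) + 4 * (h94dig (v 2) + 4 * (h94dig (v 3) +
    4 * (h94dig (v 4) + 4 * h94dig (v 5)))))

/-- the first index with a non-zero diagonal entry -/
def h94piv (N : Matrix (Fin 6) (Fin 6) F) : Fin 6 :=
  if N 0 0 ≠ 0 then 0 else if N 1 1 ≠ 0 then 1 else if N 2 2 ≠ 0 then 2 else
    if N 3 3 ≠ 0 then 3 else if N 4 4 ≠ 0 then 4 else 5

/-- the decoder: the code of the pivot column of `M - 1` -/
def h94dec (M : Matrix (Fin 6) (Fin 6) F) : ℕ :=
  h94code (fun i => (M - 1) i (h94piv (M - 1)))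

set_option maxRecDepth 1000000 in
theorem h94_dec_tv : ∀ i < 693, h94dec (tv (vec i)) = vecL.getD i 0 := by
  decide +kernel

set_option maxRecDepth 1000000 in
theorem h94_vecL_nodup : vecL.Nodup := by
  decide +kernel

set_option maxRecDepth 1000000 in
theorem h94_vecL_length : vecL.length = 693 := by
  decide +kernel

theorem tv_vec_injective : ∀ i < 693, ∀ j < 693, tv (vec i) = tv (vec j) → i = j := by
  intro i hi j hj h
  have h1 : vecL.getD i 0 = vecL.getD j 0 := by
    rw [← h94_dec_tv i hi, ← h94_dec_tv j hj, h]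
  have hi' : i < vecL.length := by rw [h94_vecL_length]; exact hi
  have hj' : j < vecL.length := by rw [h94_vecL_length]; exact hj
  rw [List.getD_eq_getElem _ _ hi', List.getD_eq_getElem _ _ hj'] at h1
  exact (h94_vecL_nodup.getElem_inj_iff).mp h1

end Cfsg.Agent.Helper94.U6
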