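import Mathlib
import Cfsg.Agent.Lib.Helper32.C3Defs
import Cfsg.Agent.Lib.Helper9.C3M3Defs

/-!
# C3M3 sub-server (helper9, for helper32's C3 server, S4415): piece K2 `center_facts`
-/

set_option autoImplicit false

namespace Cfsg.Agent.Helper94.C3M3

open Cfsg.Agent.Helper32.C3 Cfsg.Agent.Helper9.C3M3

universe u v

/-- a sign vector of product one separating two given distinct points -/
theorem h94_sep_dec : ∀ i j : Fin 4, i ≠ j →
    ∃ ε : Fin 4 → (ZMod 3)ˣ, ∏ k, ε k = 1 ∧ ε i ≠ ε j := by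
  decide

set_option maxRecDepth 100000 in
/-- the four-group is transitive -/
theorem h94_V4_trans_dec : ∀ i j : Fin 4, ∃ σ : Equiv.Perm (Fin 4), InV4 σ ∧ σ i = j := by
  decide

section Mono2

variable {G : Type u} [Group G] [Finite G] {V : Type v} [AddCommGroup V] [Module (ZMod 3) V]
  [Finite V] (ρ : Representation (ZMod 3) G V) (R Q : Subgroup G) (b : G)
  (e : Module.Basis (Fin 4) (ZMod 3) V) (π : G →* Equiv.Perm (Fin 4))
  (s : G → Fin 4 → (ZMod 3)ˣ)

theorem center_facts (hsm : ∀ g h i, s (g * h) i = s h i * s g (π h i)) (hs1 : ∀ i, s 1 i = 1)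
    (hinj : ∀ g h : G, π g = π h → (∀ i, s g i = s h i) → g = h)
    (hV4 : ∀ r ∈ R, InV4 (π r))
    (hsurj : ∀ σ : Equiv.Perm (Fin 4), InV4 σ → ∃ r ∈ R, π r = σ)
    (hall : ∀ ε : Fin 4 → (ZMod 3)ˣ, ∏ i, ε i = 1 → ∃ d ∈ R ⊓ π.ker, ∀ i, s d i = ε i)
    (z : G) (hzπ : π z = 1) (hzs : ∀ i, s z i = -1) :
    ∀ r ∈ R, (∀ r' ∈ R, r * r' = r' * r) → r = 1 ∨ r = z := by
  intro r hr hcen
  have hu : ∀ u : (ZMod 3)ˣ, u = 1 ∨ u = -1 := by decide
  -- Step 1: π r = 1
  have hπr : π r = 1 := by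
    rcases (hV4 r hr).2 with h1 | hmove
    · exact h1
    · exfalso
      obtain ⟨ε', hε'1, hε'⟩ := h94_sep_dec 0 (π r 0) (fun h => hmove 0 h.symm)
      obtain ⟨d, hd, hds⟩ := hall ε' hε'1
      have hπd : π d = 1 := MonoidHom.mem_ker.mp hd.2
      have hcomm := hcen d hd.1
      have h1 := hsm r d 0
      have h2 := hsm d r 0
      rw [hπd] at h1
      rw [hcomm, h2] at h1
      -- h1 : s r 0 * s d (π r 0) = s d 0 * s r ((1 : Perm) 0)
      have h3 : s r 0 * s d (π r 0) = s r 0 * s d 0 := by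
        rw [h1]; simp [mul_comm]
      have h4 : s d (π r 0) = s d 0 := mul_left_cancel h3
      apply hε'
      rw [← hds 0, ← hds (π r 0), h4]
  -- Step 2: s r is constant
  have hconst : ∀ i, s r i = s r 0 := by
    intro i
    obtain ⟨σ, hσ, hσi⟩ := h94_V4_trans_dec 0 i
    obtain ⟨r', hr', hπr'⟩ := hsurj σ hσ
    have hcomm := hcen r' hr'
    have h1 := hsm r r' 0
    have h2 := hsm r' r 0
    rw [hcomm, h2, hπr, hπr'] at h1
    -- h1 : s r 0 * s r' ((1:Perm) 0) = s r' 0 * s r (σ 0)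
    rw [hσi] at h1
    have h3 : s r' 0 * s r 0 = s r' 0 * s r i := by
      rw [← h1]; simp [mul_comm]
    exact (mul_left_cancel h3).symm
  rcases hu (s r 0) with h0 | h0
  · left
    apply hinj
    · rw [hπr, map_one]
    · intro i; rw [hconst i, h0, hs1]
  · right
    apply hinj
    · rw [hπr, hzπ]
    · intro i; rw [hconst i, h0, hzs]

end Mono2

end Cfsg.Agent.Helper94.C3M3
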