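import Mathlib
import Cfsg.Agent.Lib.Helper32.C3Defs
import Cfsg.Agent.Lib.Helper9.C3M3Defs

/-!
# C3M3 sub-server (helper9, for helper32's C3 server, S4415): piece K3 `card_D`
-/

set_option autoImplicit false

namespace Cfsg.Agent.Helper94.C3M3

open Cfsg.Agent.Helper32.C3 Cfsg.Agent.Helper9.C3M3

universe u v

/-- there are eight sign vectors of product one -/
theorem h94_card_signs :
    Fintype.card {ε : Fin 4 → (ZMod 3)ˣ // ∏ i, ε i = 1} = 8 := by
  decide

section Mono2

variable {G : Type u} [Group G] [Finite G] {V : Type v} [AddCommGroup V] [Module (ZMod 3) V]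
  [Finite V] (ρ : Representation (ZMod 3) G V) (R Q : Subgroup G) (b : G)
  (e : Module.Basis (Fin 4) (ZMod 3) V) (π : G →* Equiv.Perm (Fin 4))
  (s : G → Fin 4 → (ZMod 3)ˣ)

theorem card_D (hinj : ∀ g h : G, π g = π h → (∀ i, s g i = s h i) → g = h)
    (hprod : ∀ r ∈ R, ∏ i, s r i = 1)
    (hall : ∀ ε : Fin 4 → (ZMod 3)ˣ, ∏ i, ε i = 1 → ∃ d ∈ R ⊓ π.ker, ∀ i, s d i = ε i) :
    Nat.card ↥(R ⊓ π.ker) = 8 := by
  classical
  let f : ↥(R ⊓ π.ker) → {ε : Fin 4 → (ZMod 3)ˣ // ∏ i, ε i = 1} :=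
    fun d => ⟨s d.1, hprod d.1 d.2.1⟩
  have hf : Function.Bijective f := by
    constructor
    · intro d d' hdd
      apply Subtype.ext
      apply hinj
      · rw [MonoidHom.mem_ker.mp d.2.2, MonoidHom.mem_ker.mp d'.2.2]
      · intro i
        have := congrArg Subtype.val hdd
        exact congrFun this i
    · rintro ⟨ε, hε⟩
      obtain ⟨d, hd, hds⟩ := hall ε hε
      refine ⟨⟨d, hd⟩, ?_⟩
      apply Subtype.ext
      funext i
      exact hds i
  rw [Nat.card_eq_of_bijective f hf, Nat.card_eq_fintype_card]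
  exact h94_card_signs

end Mono2

end Cfsg.Agent.Helper94.C3M3
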