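import Mathlib
import Cfsg.Agent.Lib.Helper32.C3Defs

/-!
# C3 server (helper32, S4415): piece O2 `two_reflections`
-/

set_option autoImplicit false

namespace Cfsg.Agent.Helper94.C3

open Cfsg.Agent.Helper32.C3

universe u v

theorem two_reflections {G : Type u} [Group G] [Finite G] {V : Type v} [AddCommGroup V]
    [Module (ZMod 3) V] [Finite V] (ρ : Representation (ZMod 3) G V) (q y : G) (hq : q * q = 1)
    (hinv : q * y * q⁻¹ = y⁻¹) (hy : Odd (orderOf y)) (C : Submodule (ZMod 3) V)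
    (hCq : ∀ v ∈ C, ρ q v ∈ C) (hCy : ∀ v ∈ C, ρ y v ∈ C)
    (hrefl : Module.finrank (ZMod 3) ↥(C.map (dl ρ q)) ≤ 1) :
    Module.finrank (ZMod 3) ↥(C.map (dl ρ y)) ≤ 2 := by
  haveI : Module.Finite (ZMod 3) V := Module.Finite.of_finite
  obtain ⟨k, hk⟩ := hy
  set y₂ : G := y ^ (k + 1) with hy₂
  have hy22 : y₂ * y₂ = y := by
    rw [hy₂, ← pow_add]
    have : k + 1 + (k + 1) = orderOf y + 1 := by omega
    rw [this, pow_succ, pow_orderOf_eq_one, one_mul]
  have hqinv : q⁻¹ = q := inv_eq_of_mul_eq_one_right hq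
  have hconj : q * y₂ * q⁻¹ = y₂⁻¹ := by
    rw [hy₂, ← conj_pow, hinv, inv_pow]
  have hpow : ∀ n : ℕ, ∀ v ∈ C, ρ (y ^ n) v ∈ C := by
    intro n
    induction n with
    | zero => intro v hv; simpa using hv
    | succ n ih =>
      intro v hv
      rw [pow_succ, map_mul, Module.End.mul_apply]
      exact ih _ (hCy v hv)
  have hCy₂ : ∀ v ∈ C, ρ y₂ v ∈ C := hpow (k + 1)
  set g : G := q * y₂⁻¹ with hg
  -- group identities
  have hg1 : g * q * y₂ = y := by
    have h1 : q * y₂⁻¹ * q = y₂ := by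
      have h0 : q * y₂⁻¹ * q⁻¹ = (q * y₂ * q⁻¹)⁻¹ := by group
      rw [hconj, inv_inv, hqinv] at h0
      exact h0
    rw [hg, h1, hy22]
  have hg2 : g * y₂ = q := by
    rw [hg]; group
  -- the key identity
  have key : ∀ v : V, dl ρ y v = ρ g (dl ρ q (ρ y₂ v)) + dl ρ q v := by
    intro v
    rw [dl_apply, dl_apply, dl_apply, map_sub]
    have e1 : ρ g (ρ q (ρ y₂ v)) = ρ y v := by
      rw [← Module.End.mul_apply, ← Module.End.mul_apply, ← map_mul, ← map_mul, hg1]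
    have e2 : ρ g (ρ y₂ v) = ρ q v := by
      rw [← Module.End.mul_apply, ← map_mul, hg2]
    rw [e1, e2]; abel
  have hle : C.map (dl ρ y) ≤ (C.map (dl ρ q)).map (ρ g) ⊔ C.map (dl ρ q) := by
    rintro w ⟨v, hv, rfl⟩
    rw [key v]
    apply Submodule.add_mem_sup
    · exact ⟨_, ⟨ρ y₂ v, hCy₂ v hv, rfl⟩, rfl⟩
    · exact ⟨v, hv, rfl⟩
  calc Module.finrank (ZMod 3) ↥(C.map (dl ρ y))
      ≤ Module.finrank (ZMod 3) ↥((C.map (dl ρ q)).map (ρ g) ⊔ C.map (dl ρ q)) :=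
        Submodule.finrank_mono hle
    _ ≤ Module.finrank (ZMod 3) ↥((C.map (dl ρ q)).map (ρ g)) +
          Module.finrank (ZMod 3) ↥(C.map (dl ρ q)) :=
        Submodule.finrank_add_le_finrank_add_finrank _ _
    _ ≤ Module.finrank (ZMod 3) ↥(C.map (dl ρ q)) +
          Module.finrank (ZMod 3) ↥(C.map (dl ρ q)) :=
        Nat.add_le_add_right (Submodule.finrank_map_le _ _) _
    _ ≤ 2 := by omega

end Cfsg.Agent.Helper94.C3
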