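import Mathlib
import Cfsg.Agent.Lib.Helper32.C3Defs

/-!
# C3 server (helper32, S4415): piece S3c `three_mul_card_orbits` (Burnside for `σ ^ 3 = 1`)
-/

set_option autoImplicit false

namespace Cfsg.Agent.Helper94.C3

open Cfsg.Agent.Helper32.C3

universe u v

theorem three_mul_card_orbits {α : Type u} [Finite α] (σ : Equiv.Perm α) (hσ : σ ^ 3 = 1) :
    3 * Nat.card (MulAction.orbitRel.Quotient (Subgroup.zpowers σ) α) =
      Nat.card α + 2 * Nat.card {x : α // σ x = x} := by
  classical
  haveI : Fintype α := Fintype.ofFinite α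
  haveI : Fintype (Subgroup.zpowers σ) := Fintype.ofFinite _
  haveI : Fintype (MulAction.orbitRel.Quotient (Subgroup.zpowers σ) α) := Fintype.ofFinite _
  have burn := MulAction.sum_card_fixedBy_eq_card_orbits_mul_card_group (Subgroup.zpowers σ) α
  have hfix : ∀ g : Subgroup.zpowers σ, Fintype.card (MulAction.fixedBy α g) =
      Nat.card {x : α // (g : Equiv.Perm α) x = x} := by
    intro g
    rw [← Nat.card_eq_fintype_card]
    rfl
  have hsum : ∑ g : Subgroup.zpowers σ, Fintype.card (MulAction.fixedBy α g) =
      ∑ k ∈ Finset.range (orderOf σ), Nat.card {x : α // (σ ^ k) x = x} := by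
    rw [← Fin.sum_univ_eq_sum_range (fun k => Nat.card {x : α // (σ ^ k) x = x}),
      ← Equiv.sum_comp (finEquivZPowers (isOfFinOrder_of_finite σ))]
    apply Finset.sum_congr rfl
    intro i _
    rw [hfix, finEquivZPowers_apply]
  have hcardG : Fintype.card (Subgroup.zpowers σ) = orderOf σ := by
    rw [← Nat.card_eq_fintype_card, Nat.card_zpowers]
  rw [hsum, hcardG, ← Nat.card_eq_fintype_card] at burn
  have h0 : Nat.card {x : α // (σ ^ 0) x = x} = Nat.card α :=
    Nat.card_congr (Equiv.subtypeUnivEquiv (fun x => by simp))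
  have hord : orderOf σ ∣ 3 := orderOf_dvd_of_pow_eq_one hσ
  have h13 : orderOf σ = 1 ∨ orderOf σ = 3 := (Nat.dvd_prime Nat.prime_three).mp hord
  rcases h13 with h1 | h3
  · have hσ1 : σ = 1 := orderOf_eq_one_iff.mp h1
    rw [h1, Finset.sum_range_one, h0, mul_one] at burn
    have hfx : Nat.card {x : α // σ x = x} = Nat.card α :=
      Nat.card_congr (Equiv.subtypeUnivEquiv (fun x => by rw [hσ1]; rfl))
    have burn' : Nat.card α =
        Nat.card (MulAction.orbitRel.Quotient (Subgroup.zpowers σ) α) := burn
    rw [hfx, ← burn']; ring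
  · rw [h3, Finset.sum_range_succ, Finset.sum_range_succ, Finset.sum_range_one, h0] at burn
    have e1 : Nat.card {x : α // (σ ^ 1) x = x} = Nat.card {x : α // σ x = x} := by
      rw [pow_one]
    have e2 : Nat.card {x : α // (σ ^ 2) x = x} = Nat.card {x : α // σ x = x} := by
      apply Nat.card_congr
      apply Equiv.subtypeEquivRight
      intro x
      have h3x : σ (σ (σ x)) = x := by
        have := congrArg (fun τ : Equiv.Perm α => τ x) hσ
        simpa [pow_succ, Equiv.Perm.mul_apply] using this
      constructor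
      · intro hx
        have hx' : σ (σ x) = x := by simpa [pow_two, Equiv.Perm.mul_apply] using hx
        rw [hx'] at h3x
        exact h3x
      · intro hx
        simp only [pow_two, Equiv.Perm.mul_apply]
        rw [hx, hx]
    rw [e1, e2] at burn
    have burn' : Nat.card α + Nat.card {x : α // σ x = x} + Nat.card {x : α // σ x = x} =
        Nat.card (MulAction.orbitRel.Quotient (Subgroup.zpowers σ) α) * 3 := burn
    omega

end Cfsg.Agent.Helper94.C3
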