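import Mathlib
import Cfsg.Agent.Lib.Helper32.C3Defs

/-!
# C3 server (helper32, S4415): piece S3z `b_moves_T`
-/

set_option autoImplicit false

namespace Cfsg.Agent.Helper94.C3

open Cfsg.Agent.Helper32.C3

universe u v

theorem b_moves_T {G : Type u} [Group G] [Finite G] {V : Type v} [AddCommGroup V]
    [Module (ZMod 3) V] [Finite V] (ρ : Representation (ZMod 3) G V) (R Q : Subgroup G) (b : G)
    (h : Cfg ρ R Q b) (T : Subgroup G) (hT : IsO2 R T) (z : G) (hES : ESLike ρ T z)
    (hP1 : Subgroup.normalClosure ({b} : Set G) = ⊤) :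
    ∃ t ∈ T, b * t * b⁻¹ ≠ t ∧ b * t * b⁻¹ ≠ z * t := by
  by_contra hcon
  push Not at hcon
  obtain ⟨q, hqQ, hqb⟩ := h.four.2.2.2
  -- z * z = 1
  have hzz : z * z = 1 := by
    apply h.faith
    rw [map_mul, hES.rz, map_one]
    simp
  -- b centralises T
  have hbT : ∀ t ∈ T, b * t * b⁻¹ = t := by
    intro t ht
    by_contra hne
    have h1 : b * t * b⁻¹ = z * t := hcon t ht hne
    have hzb : b * z = z * b := hES.zc b
    have h2 : b * (z * t) * b⁻¹ = t := by
      have : b * (z * t) * b⁻¹ = z * (b * t * b⁻¹) := by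
        rw [← mul_assoc, hzb]; simp only [mul_assoc]
      rw [this, h1, ← mul_assoc, hzz, one_mul]
    have h3 : b ^ 3 * t * (b ^ 3)⁻¹ = z * t := by
      have : b ^ 3 * t * (b ^ 3)⁻¹ = b * (b * (b * t * b⁻¹) * b⁻¹) * b⁻¹ := by
        have hb3' : b ^ 3 = b * b * b := by rw [pow_succ, pow_two]
        rw [hb3']; simp only [mul_inv_rev, mul_assoc]
      rw [this, h1, h2, h1]
    rw [h.b3] at h3
    apply hne
    rw [h1, ← h3]; group
  haveI := hT.normal
  have hbC : b ∈ Subgroup.centralizer (T : Set G) := by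
    rw [Subgroup.mem_centralizer_iff]
    intro t ht
    have := hbT t ht
    calc t * b = (b * t * b⁻¹) * b := by rw [this]
      _ = b * t := by group
  have hC : Subgroup.centralizer (T : Set G) = ⊤ := by
    rw [eq_top_iff, ← hP1]
    apply Subgroup.normalClosure_le_normal
    intro x hx
    rw [Set.mem_singleton_iff] at hx
    rw [hx]; exact hbC
  have hcent : ∀ g : G, ∀ t ∈ T, g * t = t * g := by
    intro g t ht
    have hg : g ∈ Subgroup.centralizer (T : Set G) := by rw [hC]; trivial
    rw [Subgroup.mem_centralizer_iff] at hg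
    exact (hg t ht).symm
  have hT2 : ∀ t ∈ T, t = 1 ∨ t = z := fun t ht =>
    hES.cen t ht (fun u hu => hcent t u hu)
  have hqT : q ∈ T := hT.selfc q (h.QR hqQ) (fun t ht => hcent q t ht)
  rcases hT2 q hqT with rfl | rfl
  · apply hqb; group
  · apply hqb
    rw [hES.zc b]; group

end Cfsg.Agent.Helper94.C3
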