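import Mathlib
import Cfsg.Agent.Lib.Helper92.G24Defs

/-! G24 server (helper92, S1679), piece XE `xMat_eq_table`: the frozen root matrices of `chevG2`
over `F4` are the tables `XT`. -/

set_option autoImplicit false
set_option maxRecDepth 100000

namespace Cfsg.Agent.Helper94.G24

open Cfsg.Agent.Helper92.G24

/-- all `12 * 3 * 196` entries, checked by the kernel -/
theorem xe_all : ∀ p : Fin 12 × Fin 3 × D.Idx × D.Idx,
    D.xMat F (p.1 : Fin D.nroots) (fc (p.2.1.val + 1)) p.2.2.1 p.2.2.2 =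
      XT p.1.val (p.2.1.val + 1) p.2.2.1 p.2.2.2 := by
  decide +kernel

/-- (XE) [M, kernel] the frozen matrices `xMat r (fc t)` are the tables `XT r t` (36 matrices x 196 entries; unfold
`Cfsg.Lie.ChevalleyDatum.xMat`, `chainCoeff`; entries are integer casts into `F4`, char 2). `Matrix.ext` + `decide +kernel` per root, or `Fin.cases`. -/
theorem xMat_eq_table (r : Fin D.nroots) (t : ℕ) (h1 : 1 ≤ t) (h3 : t ≤ 3) : D.xMat F r (fc t) = XT r.val t := by
  obtain ⟨s, rfl⟩ : ∃ s, t = s + 1 := ⟨t - 1, by omega⟩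
  have hs : s < 3 := by omega
  ext i j
  exact xe_all (r, ⟨s, hs⟩, i, j)

end Cfsg.Agent.Helper94.G24
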