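import Mathlib
import Cfsg.Agent.Lib.Helper7.M11UDefs
import Cfsg.Agent.Lib.Helper94.M11UU3

set_option autoImplicit false

/-!
# M11U (U2) (helper7 server, S0420): the stabiliser of a 4-set fixes exactly one more point.
-/

namespace Cfsg.Agent.Helper94.M11U

open Subgroup Cfsg.Agent.Helper7.M11U
open scoped Pointwise

section U

variable {α : Type*} [Fintype α] [DecidableEq α]

/-- two elements of a sharply 4-transitive group agreeing on four distinct points are equal -/
theorem u2_eq_of_agree {K : Subgroup (Equiv.Perm α)} (hK : Sharp4 K) (x : Fin 4 ↪ α)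
    (g h : Equiv.Perm α) (hg : g ∈ K) (hh : h ∈ K) (hagree : ∀ i, g (x i) = h (x i)) : g = h := by
  have h1 : h⁻¹ * g = 1 := by
    apply u3_eq_one hK x _ (K.mul_mem (K.inv_mem hh) hg)
    intro i
    show h⁻¹ (g (x i)) = x i
    rw [hagree i]
    exact Equiv.Perm.inv_eq_iff_eq.mpr rfl
  exact (inv_mul_eq_one.mp h1).symm

/-- (U2) -/
theorem exists_unique_fixed (hα : Fintype.card α = 11) (K : Subgroup (Equiv.Perm α)) (hK : Sharp4 K)
    (X : Finset α) (hX : X.card = 4) :
    ∃! e : α, e ∉ X ∧ ∀ g ∈ K, X.image (g : α → α) = X → g e = e := by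
  obtain ⟨x1, x2, x3, x4, h12, h13, h14, h23, h24, h34, hXeq⟩ := Finset.card_eq_four.mp hX
  have hx1 : x1 ∈ X := by rw [hXeq]; simp
  have hx2 : x2 ∈ X := by rw [hXeq]; simp
  have hx3 : x3 ∈ X := by rw [hXeq]; simp
  have hx4 : x4 ∈ X := by rw [hXeq]; simp
  have hmemX : ∀ x ∈ X, x = x1 ∨ x = x2 ∨ x = x3 ∨ x = x4 := by
    intro x hx; rw [hXeq] at hx; simpa using hx
  -- agreement on `X` gives equality
  have hagree : ∀ g ∈ K, ∀ h ∈ K, g x1 = h x1 → g x2 = h x2 → g x3 = h x3 → g x4 = h x4 → g = h := by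
    intro g hg h hh a1 a2 a3 a4
    apply u2_eq_of_agree hK (u3_emb x1 x2 x3 x4 h12 h13 h14 h23 h24 h34) g h hg hh
    intro i
    fin_cases i
    · exact a1
    · exact a2
    · exact a3
    · exact a4
  -- the 3-cycle `s`
  obtain ⟨s, hsK, hs⟩ := u3_exists hK (u3_emb x1 x2 x3 x4 h12 h13 h14 h23 h24 h34)
    (u3_emb x2 x3 x1 x4 h23 h12.symm h24 h13.symm h34 h14)
  have hs1 : s x1 = x2 := hs 0
  have hs2 : s x2 = x3 := hs 1
  have hs3 : s x3 = x1 := hs 2
  have hs4 : s x4 = x4 := hs 3
  have hs_cube : s ^ 3 = 1 := by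
    apply hagree _ (K.pow_mem hsK 3) _ K.one_mem
    · show (s ^ 3) x1 = x1
      simp [pow_succ, Equiv.Perm.mul_apply, hs1, hs2, hs3]
    · show (s ^ 3) x2 = x2
      simp [pow_succ, Equiv.Perm.mul_apply, hs1, hs2, hs3]
    · show (s ^ 3) x3 = x3
      simp [pow_succ, Equiv.Perm.mul_apply, hs1, hs2, hs3]
    · show (s ^ 3) x4 = x4
      simp [pow_succ, Equiv.Perm.mul_apply, hs4]
  -- the fixed points of `s`
  have hfixmem : ∀ z, z ∈ s.supportᶜ ↔ s z = z := by
    intro z
    rw [Finset.mem_compl, Equiv.Perm.mem_support, not_not]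
  haveI : Fact (Nat.Prime 3) := ⟨by norm_num⟩
  have hmod : s.supportᶜ.card ≡ Fintype.card α [MOD 3] :=
    Equiv.Perm.card_compl_support_modEq (p := 3) (n := 1) (by rw [pow_one]; exact hs_cube)
  have hle : s.supportᶜ.card ≤ 3 := by
    by_contra hgt
    push Not at hgt
    obtain ⟨a, b, c, d, ha, hb, hc, hd, hab, hac, had, hbc, hbd, hcd⟩ :=
      Finset.three_lt_card_iff.mp hgt
    have hs1' : s = 1 := by
      apply u3_eq_one hK (u3_emb a b c d hab hac had hbc hbd hcd) s hsK
      intro i
      fin_cases i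
      · exact (hfixmem a).mp ha
      · exact (hfixmem b).mp hb
      · exact (hfixmem c).mp hc
      · exact (hfixmem d).mp hd
    rw [hs1'] at hs1
    exact h12 hs1
  have hcard2 : s.supportᶜ.card = 2 := by
    rw [hα] at hmod
    have h1 : s.supportᶜ.card % 3 = 11 % 3 := hmod
    omega
  obtain ⟨a, b, hab, hFeq⟩ := Finset.card_eq_two.mp hcard2
  have hx4F : x4 ∈ s.supportᶜ := (hfixmem x4).mpr hs4
  obtain ⟨e, hex4, hse, hFe⟩ : ∃ e, e ≠ x4 ∧ s e = e ∧ ∀ z, s z = z → z = x4 ∨ z = e := by
    have haF : a ∈ s.supportᶜ := by rw [hFeq]; simp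
    have hbF : b ∈ s.supportᶜ := by rw [hFeq]; simp
    have hall : ∀ z, s z = z → z = a ∨ z = b := by
      intro z hz
      have : z ∈ s.supportᶜ := (hfixmem z).mpr hz
      rw [hFeq] at this
      simpa using this
    rcases hall x4 hs4 with h4 | h4
    · refine ⟨b, ?_, (hfixmem b).mp hbF, ?_⟩
      · rw [h4]; exact hab.symm
      · intro z hz
        rcases hall z hz with h | h
        · left; rw [h, h4]
        · right; exact h
    · refine ⟨a, ?_, (hfixmem a).mp haF, ?_⟩
      · rw [h4]; exact hab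
      · intro z hz
        rcases hall z hz with h | h
        · right; exact h
        · left; rw [h, h4]
  have hex1 : e ≠ x1 := by
    intro hh; rw [hh, hs1] at hse; exact h12 hse.symm
  have hex2 : e ≠ x2 := by
    intro hh; rw [hh, hs2] at hse; exact h23 hse.symm
  have hex3 : e ≠ x3 := by
    intro hh; rw [hh, hs3] at hse; exact h13 hse
  have heX : e ∉ X := by
    intro hh
    rcases hmemX e hh with h | h | h | h
    · exact hex1 h
    · exact hex2 h
    · exact hex3 h
    · exact hex4 h
  -- the transposition `t = (x1 x2)`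
  obtain ⟨t, htK, ht⟩ := u3_exists hK (u3_emb x1 x2 x3 x4 h12 h13 h14 h23 h24 h34)
    (u3_emb x2 x1 x3 x4 h12.symm h23 h24 h13 h14 h34)
  have ht1 : t x1 = x2 := ht 0
  have ht2 : t x2 = x1 := ht 1
  have ht3 : t x3 = x3 := ht 2
  have ht4 : t x4 = x4 := ht 3
  have hsts : s * t * s = t := by
    apply hagree _ (K.mul_mem (K.mul_mem hsK htK) hsK) _ htK
    · show s (t (s x1)) = t x1
      rw [hs1, ht2, hs1, ht1]
    · show s (t (s x2)) = t x2
      rw [hs2, ht3, hs3, ht2]
    · show s (t (s x3)) = t x3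
      rw [hs3, ht1, hs2, ht3]
    · show s (t (s x4)) = t x4
      rw [hs4, ht4, hs4]
  have hte : t e = e := by
    have h1 : (s * t * s) e = t e := by rw [hsts]
    have h2 : s (t (s e)) = t e := h1
    rw [hse] at h2
    rcases hFe (t e) h2 with h | h
    · exfalso
      have : t e = t x4 := by rw [ht4]; exact h
      exact hex4 (t.injective this)
    · exact h
  have hFt : ∀ z, t z = z → z = x3 ∨ z = x4 ∨ z = e := by
    intro z hz
    by_contra hne
    push Not at hne
    obtain ⟨n3, n4, ne⟩ := hne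
    have ht1' : t = 1 := by
      apply u3_eq_one hK (u3_emb x3 x4 e z h34 (Ne.symm hex3) (Ne.symm n3) (Ne.symm hex4)
        (Ne.symm n4) (Ne.symm ne)) t htK
      intro i
      fin_cases i
      · exact ht3
      · exact ht4
      · exact hte
      · exact hz
    rw [ht1'] at ht1
    exact h12 ht1
  -- the transposition `w = (x3 x4)`
  obtain ⟨w, hwK, hw⟩ := u3_exists hK (u3_emb x1 x2 x3 x4 h12 h13 h14 h23 h24 h34)
    (u3_emb x1 x2 x4 x3 h12 h14 h13 h24 h23 h34.symm)
  have hw1 : w x1 = x1 := hw 0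
  have hw2 : w x2 = x2 := hw 1
  have hw3 : w x3 = x4 := hw 2
  have hw4 : w x4 = x3 := hw 3
  have htw : t * w = w * t := by
    apply hagree _ (K.mul_mem htK hwK) _ (K.mul_mem hwK htK)
    · show t (w x1) = w (t x1)
      rw [hw1, ht1, hw2]
    · show t (w x2) = w (t x2)
      rw [hw2, ht2, hw1]
    · show t (w x3) = w (t x3)
      rw [hw3, ht4, ht3, hw3]
    · show t (w x4) = w (t x4)
      rw [hw4, ht3, ht4, hw4]
  have hwe : w e = e := by
    have h1 : (t * w) e = (w * t) e := by rw [htw]
    have h2 : t (w e) = w (t e) := h1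
    rw [hte] at h2
    rcases hFt (w e) h2 with h | h | h
    · exfalso
      have : w e = w x4 := by rw [hw4]; exact h
      exact hex4 (w.injective this)
    · exfalso
      have : w e = w x3 := by rw [hw3]; exact h
      exact hex3 (w.injective this)
    · exact h
  -- elements preserving `X`
  have hsX : ∀ x ∈ X, s x ∈ X := by
    intro x hx
    rcases hmemX x hx with rfl | rfl | rfl | rfl
    · rw [hs1]; exact hx2
    · rw [hs2]; exact hx3
    · rw [hs3]; exact hx1
    · rw [hs4]; exact hx4
  have hwX : ∀ x ∈ X, w x ∈ X := by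
    intro x hx
    rcases hmemX x hx with rfl | rfl | rfl | rfl
    · rw [hw1]; exact hx1
    · rw [hw2]; exact hx2
    · rw [hw3]; exact hx4
    · rw [hw4]; exact hx3
  -- Lemma A
  have hA : ∀ g ∈ K, (∀ x ∈ X, g x ∈ X) → g x3 = x3 → g x4 = x4 → g e = e := by
    intro g hgK hgX g3 g4
    have hne : ∀ a b : α, a ≠ b → g a ≠ g b := fun a b hab hh => hab (g.injective hh)
    rcases hmemX _ (hgX x1 hx1) with g1 | g1 | g1 | g1
    · -- g x1 = x1
      have g2 : g x2 = x2 := by
        rcases hmemX _ (hgX x2 hx2) with h | h | h | h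
        · exfalso; exact hne x2 x1 h12.symm (by rw [h, g1])
        · exact h
        · exfalso; exact hne x2 x3 h23 (by rw [h, g3])
        · exfalso; exact hne x2 x4 h24 (by rw [h, g4])
      have : g = 1 := hagree g hgK 1 K.one_mem g1 g2 g3 g4
      rw [this]; rfl
    · -- g x1 = x2
      have g2 : g x2 = x1 := by
        rcases hmemX _ (hgX x2 hx2) with h | h | h | h
        · exact h
        · exfalso; exact hne x2 x1 h12.symm (by rw [h, g1])
        · exfalso; exact hne x2 x3 h23 (by rw [h, g3])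
        · exfalso; exact hne x2 x4 h24 (by rw [h, g4])
      have : g = t := hagree g hgK t htK (by rw [g1, ht1]) (by rw [g2, ht2]) (by rw [g3, ht3])
        (by rw [g4, ht4])
      rw [this]; exact hte
    · exfalso; exact hne x1 x3 h13 (by rw [g1, g3])
    · exfalso; exact hne x1 x4 h14 (by rw [g1, g4])
  -- Lemma B
  have hB : ∀ g ∈ K, (∀ x ∈ X, g x ∈ X) → g x4 = x4 → g e = e := by
    intro g hgK hgX g4
    rcases hmemX _ (hgX x3 hx3) with g3 | g3 | g3 | g3
    · -- g x3 = x1 : use s * s * g
      have h1 : (s * s * g) e = e := by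
        apply hA _ (K.mul_mem (K.mul_mem hsK hsK) hgK)
        · intro x hx; exact hsX _ (hsX _ (hgX x hx))
        · show s (s (g x3)) = x3
          rw [g3, hs1, hs2]
        · show s (s (g x4)) = x4
          rw [g4, hs4, hs4]
      have h2 : s (s (g e)) = e := h1
      have h3 : s (s (g e)) = s (s e) := by rw [h2, hse, hse]
      exact s.injective (s.injective h3)
    · -- g x3 = x2 : use s * g
      have h1 : (s * g) e = e := by
        apply hA _ (K.mul_mem hsK hgK)
        · intro x hx; exact hsX _ (hgX x hx)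
        · show s (g x3) = x3
          rw [g3, hs2]
        · show s (g x4) = x4
          rw [g4, hs4]
      have h2 : s (g e) = e := h1
      have h3 : s (g e) = s e := by rw [h2, hse]
      exact s.injective h3
    · exact hA g hgK hgX g3 g4
    · exfalso; exact h34 (g.injective (by rw [g3, g4]))
  -- Lemma C
  have hC : ∀ g ∈ K, (∀ x ∈ X, g x ∈ X) → g e = e := by
    intro g hgK hgX
    rcases hmemX _ (hgX x4 hx4) with g4 | g4 | g4 | g4
    · -- g x4 = x1 : w * s * s * g
      have h1 : (w * s * s * g) e = e := by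
        apply hB _ (K.mul_mem (K.mul_mem (K.mul_mem hwK hsK) hsK) hgK)
        · intro x hx; exact hwX _ (hsX _ (hsX _ (hgX x hx)))
        · show w (s (s (g x4))) = x4
          rw [g4, hs1, hs2, hw3]
      have h2 : w (s (s (g e))) = e := h1
      have h3 : w (s (s (g e))) = w (s (s e)) := by rw [h2, hse, hse, hwe]
      exact s.injective (s.injective (w.injective h3))
    · -- g x4 = x2 : w * s * g
      have h1 : (w * s * g) e = e := by
        apply hB _ (K.mul_mem (K.mul_mem hwK hsK) hgK)
        · intro x hx; exact hwX _ (hsX _ (hgX x hx))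
        · show w (s (g x4)) = x4
          rw [g4, hs2, hw3]
      have h2 : w (s (g e)) = e := h1
      have h3 : w (s (g e)) = w (s e) := by rw [h2, hse, hwe]
      exact s.injective (w.injective h3)
    · -- g x4 = x3 : w * g
      have h1 : (w * g) e = e := by
        apply hB _ (K.mul_mem hwK hgK)
        · intro x hx; exact hwX _ (hgX x hx)
        · show w (g x4) = x4
          rw [g4, hw3]
      have h2 : w (g e) = e := h1
      have h3 : w (g e) = w e := by rw [h2, hwe]
      exact w.injective h3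
    · exact hB g hgK hgX g4
  -- conclusion
  refine ⟨e, ⟨heX, ?_⟩, ?_⟩
  · intro g hgK hg
    exact hC g hgK ((u3_image_eq_iff g X).mp hg)
  · rintro e' ⟨he'X, he'⟩
    have htX : ∀ x ∈ X, t x ∈ X := by
      intro x hx
      rcases hmemX x hx with rfl | rfl | rfl | rfl
      · rw [ht1]; exact hx2
      · rw [ht2]; exact hx1
      · rw [ht3]; exact hx3
      · rw [ht4]; exact hx4
    have h1 : t e' = e' := he' t htK ((u3_image_eq_iff t X).mpr htX)
    rcases hFt e' h1 with h | h | h
    · exfalso; exact he'X (h ▸ hx3)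
    · exfalso; exact he'X (h ▸ hx4)
    · exact h

end U

end Cfsg.Agent.Helper94.M11U
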