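import Mathlib
import Cfsg.Agent.Lib.Helper25.N5400Defs

/-!
# N5400 sub-server (helper25, order 5400 of O6232, S0983): piece K36 `exists_not_le`
-/

set_option autoImplicit false

namespace Cfsg.Agent.Helper94.N5400

open Cfsg MulAction Cfsg.Agent.Helper25.N5400

universe u

section Simple

variable {G : Type u} [Group G] [Finite G] [IsSimpleGroup G]

theorem exists_not_le (hG : Nat.card G = 5400) (hP25 : ∀ Q : Sylow 5 G, Nat.card (Q : Subgroup G) = 25)
    (F : Subgroup G) (hF : Nat.card F = 5) : ∃ Q : Sylow 5 G, ¬ F ≤ (Q : Subgroup G) := by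
  by_contra hcon
  push Not at hcon
  haveI : Fact (Nat.Prime 5) := ⟨by norm_num⟩
  obtain ⟨P⟩ : Nonempty (Sylow 5 G) := Sylow.nonempty
  have key : ∀ c a : G, a ∈ F → c * a * c⁻¹ ∈ (P : Subgroup G) := by
    intro c a ha
    have h1 : a ∈ ((c⁻¹ • P : Sylow 5 G) : Subgroup G) := hcon (c⁻¹ • P) ha
    rw [Sylow.coe_subgroup_smul, Subgroup.mem_pointwise_smul_iff_inv_smul_mem] at h1
    simpa using h1
  have hle : Subgroup.normalClosure (F : Set G) ≤ (P : Subgroup G) := by
    unfold Subgroup.normalClosure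
    rw [Subgroup.closure_le]
    intro x hx
    rw [Group.mem_conjugatesOfSet_iff] at hx
    obtain ⟨a, ha, hax⟩ := hx
    rw [isConj_iff] at hax
    obtain ⟨c, rfl⟩ := hax
    exact key c a ha
  have hFle : F ≤ Subgroup.normalClosure (F : Set G) := Subgroup.le_normalClosure
  rcases (Subgroup.normalClosure_normal (s := (F : Set G))).eq_bot_or_eq_top with h | h
  · rw [h, le_bot_iff] at hFle
    rw [hFle, Subgroup.card_bot] at hF
    omega
  · rw [h, top_le_iff] at hle
    have := hP25 P
    rw [hle, Subgroup.card_top, hG] at this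
    omega

end Simple

end Cfsg.Agent.Helper94.N5400
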