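import Mathlib
import Cfsg.Agent.Lib.Helper25.N5400Defs

/-!
# N5400 sub-server (helper25, order 5400 of O6232, S0983): piece PART `card_partition`
-/

set_option autoImplicit false

namespace Cfsg.Agent.Helper94.N5400

open Cfsg MulAction Cfsg.Agent.Helper25.N5400

universe u

section NoSimple

variable {G : Type u} [Group G] [Finite G]

theorem card_partition (P : Sylow 5 G) (hP : Nat.card (P : Subgroup G) = 25) :
    Nat.card (Sylow 5 G) =
      1 + Nat.card {R : Sylow 5 G // (P : Subgroup G) ⊓ (R : Subgroup G) = ⊥} +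
        Nat.card {R : Sylow 5 G // R ≠ P ∧ (P : Subgroup G) ⊓ (R : Subgroup G) ≠ ⊥} := by
  classical
  haveI : Fintype (Sylow 5 G) := Fintype.ofFinite _
  have hPP : (P : Subgroup G) ⊓ (P : Subgroup G) ≠ ⊥ := by
    rw [inf_idem]
    intro h
    rw [h, Subgroup.card_bot] at hP
    omega
  rw [Nat.card_eq_fintype_card, Nat.card_eq_fintype_card, Nat.card_eq_fintype_card,
    Fintype.card_subtype, Fintype.card_subtype, ← Finset.card_univ,
    ← Finset.card_filter_add_card_filter_not (s := Finset.univ)
      (fun R : Sylow 5 G => (P : Subgroup G) ⊓ (R : Subgroup G) = ⊥)]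
  have hset : Finset.filter (fun R : Sylow 5 G => ¬ (P : Subgroup G) ⊓ (R : Subgroup G) = ⊥)
      Finset.univ =
      insert P (Finset.filter
        (fun R : Sylow 5 G => R ≠ P ∧ (P : Subgroup G) ⊓ (R : Subgroup G) ≠ ⊥) Finset.univ) := by
    ext R
    simp only [Finset.mem_filter, Finset.mem_univ, true_and, Finset.mem_insert]
    constructor
    · intro h
      by_cases hRP : R = P
      · left; exact hRP
      · right; exact ⟨hRP, h⟩
    · rintro (rfl | ⟨_, h⟩)
      · exact hPP
      · exact h
  rw [hset, Finset.card_insert_of_notMem]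
  · omega
  · simp

end NoSimple

end Cfsg.Agent.Helper94.N5400
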