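import Mathlib
import Cfsg.Agent.Lib.Helper25.N5400Defs

/-!
# N5400 sub-server (helper25, order 5400 of O6232, S0983): piece SIX `card_shared_le`
-/

set_option autoImplicit false

namespace Cfsg.Agent.Helper94.N5400

open Cfsg MulAction Cfsg.Agent.Helper25.N5400

universe u

section NoSimple

variable {G : Type u} [Group G] [Finite G]

/-- a subgroup of order 5 is generated by each of its nonidentity elements -/
theorem h94_zpowers_eq (F : Subgroup G) (hF : Nat.card F = 5) (x : G) (hx : x ∈ F) (hx1 : x ≠ 1) :
    Subgroup.zpowers x = F := by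
  have hle : Subgroup.zpowers x ≤ F := by
    rw [Subgroup.zpowers_le]; exact hx
  apply Subgroup.eq_of_le_of_card_ge hle
  rw [Nat.card_zpowers, hF]
  have hdvd : orderOf x ∣ 5 := by
    rw [← hF]; exact Subgroup.orderOf_dvd_natCard F hx
  have h5 : Nat.Prime 5 := by norm_num
  rcases (Nat.dvd_prime h5).mp hdvd with h | h
  · exact absurd (orderOf_eq_one_iff.mp h) hx1
  · rw [h]

theorem card_shared_le (P : Sylow 5 G) (hP : Nat.card (P : Subgroup G) = 25) :
    Nat.card {F : Subgroup G // Shared P F} ≤ 6 := by
  classical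
  haveI : Fintype G := Fintype.ofFinite G
  haveI : Fintype {F : Subgroup G // Shared P F} := Fintype.ofFinite _
  have hcardsub : ∀ H : Subgroup G, (Finset.univ.filter (fun x : G => x ∈ H)).card = Nat.card H := by
    intro H
    rw [Nat.card_eq_fintype_card, Fintype.card_subtype]
  let A : {F : Subgroup G // Shared P F} → Finset G :=
    fun F => (Finset.univ.filter (fun x : G => x ∈ F.1)).erase 1
  have hA4 : ∀ F : {F : Subgroup G // Shared P F}, (A F).card = 4 := by
    intro F
    show ((Finset.univ.filter (fun x : G => x ∈ F.1)).erase 1).card = 4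
    rw [Finset.card_erase_of_mem (by simp [Subgroup.one_mem]), hcardsub, F.2.2.1]
  have hdisj : ∀ F ∈ (Finset.univ : Finset {F : Subgroup G // Shared P F}),
      ∀ F' ∈ (Finset.univ : Finset {F : Subgroup G // Shared P F}), F ≠ F' →
      Disjoint (A F) (A F') := by
    intro F _ F' _ hne
    rw [Finset.disjoint_left]
    intro x hx hx'
    simp only [A, Finset.mem_erase, Finset.mem_filter, Finset.mem_univ, true_and] at hx hx'
    apply hne
    apply Subtype.ext
    rw [← h94_zpowers_eq F.1 F.2.2.1 x hx.2 hx.1, ← h94_zpowers_eq F'.1 F'.2.2.1 x hx'.2 hx'.1]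
  have hsub : (Finset.univ : Finset {F : Subgroup G // Shared P F}).biUnion A ⊆
      (Finset.univ.filter (fun x : G => x ∈ (P : Subgroup G))).erase 1 := by
    intro x hx
    rw [Finset.mem_biUnion] at hx
    obtain ⟨F, _, hxF⟩ := hx
    simp only [A, Finset.mem_erase, Finset.mem_filter, Finset.mem_univ, true_and] at hxF ⊢
    exact ⟨hxF.1, F.2.1 hxF.2⟩
  have hcard := Finset.card_le_card hsub
  rw [Finset.card_biUnion hdisj, Finset.card_erase_of_mem (by simp [Subgroup.one_mem]), hcardsub, hP,
    Finset.sum_congr rfl (fun F _ => hA4 F), Finset.sum_const, Finset.card_univ, smul_eq_mul] at hcard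
  rw [Nat.card_eq_fintype_card]
  omega

end NoSimple

end Cfsg.Agent.Helper94.N5400
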