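import Mathlib
import Cfsg.Prelude.Def_Blocks
import Cfsg.Agent.Lib.Helper55.O2520Defs

/-! O2520 / S3C sub-server (helper86, S0984), piece K4 `local36`. -/

set_option autoImplicit false
set_option maxHeartbeats 1000000

namespace Cfsg.Agent.Helper94.O2520

open Cfsg Cfsg.Agent.Helper55.O2520
open scoped Classical

universe u

/-- the elements of a group of order 3 -/
theorem h94_mem_of_card_three {G : Type u} [Group G] (H : Subgroup G) (hH : Nat.card H = 3) {p q : G}
    (hp : p ∈ H) (hp1 : p ≠ 1) (hq : q ∈ H) : q = 1 ∨ q = p ∨ q = p⁻¹ := by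
  haveI : Fact (Nat.Prime 3) := ⟨Nat.prime_three⟩
  have hne : (⟨p, hp⟩ : H) ≠ 1 := by
    intro h
    exact hp1 (congrArg Subtype.val h)
  have hmem : (⟨q, hq⟩ : H) ∈ Subgroup.zpowers (⟨p, hp⟩ : H) := mem_zpowers_of_prime_card hH hne
  obtain ⟨k, hk⟩ := Subgroup.mem_zpowers_iff.mp hmem
  have hk2 : p ^ k = q := by
    have := congrArg Subtype.val hk
    simpa using this
  have hp3 : p ^ (3 : ℤ) = 1 := by
    have h1 : (⟨p, hp⟩ : H) ^ Nat.card H = 1 := pow_card_eq_one'
    rw [hH] at h1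
    have := congrArg Subtype.val h1
    simp only [Subgroup.coe_pow, Subgroup.coe_one] at this
    exact_mod_cast this
  have hmod : p ^ k = p ^ (k % 3) := by
    conv_lhs => rw [← Int.emod_add_mul_ediv k 3]
    rw [zpow_add, zpow_mul, hp3, one_zpow, mul_one]
  have h3 : k % 3 = 0 ∨ k % 3 = 1 ∨ k % 3 = 2 := by omega
  rcases h3 with h | h | h
  · left
    rw [← hk2, hmod, h, zpow_zero]
  · right; left
    rw [← hk2, hmod, h, zpow_one]
  · right; right
    rw [← hk2, hmod, h]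
    have : p ^ (2 : ℤ) * p = 1 := by
      rw [← zpow_add_one]
      exact hp3
    exact eq_inv_of_mul_eq_one_left this

theorem h94_eq_one_of_sq_cube {G : Type u} [Group G] {t : G} (h2 : t * t = 1) (h3 : t ^ 3 = 1) :
    t = 1 := by
  calc t = t ^ 3 * (t * t)⁻¹ := by group
    _ = 1 := by rw [h3, h2]; simp

/-- `N ≤ N(⟨x⟩)` from `n x n⁻¹ ∈ ⟨x⟩` for all `n ∈ N` -/
theorem h94_le_normalizer_zpowers {G : Type u} [Group G] (N : Subgroup G) (x : G)
    (h : ∀ n ∈ N, n * x * n⁻¹ ∈ Subgroup.zpowers x) :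
    N ≤ Subgroup.normalizer ((Subgroup.zpowers x : Subgroup G) : Set G) := by
  intro n hn
  rw [Subgroup.mem_normalizer_iff]
  intro g
  constructor
  · intro hg
    obtain ⟨k, rfl⟩ := Subgroup.mem_zpowers_iff.mp hg
    rw [← conj_zpow]
    exact Subgroup.zpow_mem _ (h n hn) k
  · intro hg
    obtain ⟨k, hk⟩ := Subgroup.mem_zpowers_iff.mp hg
    have e : g = n⁻¹ * (n * g * n⁻¹) * (n⁻¹)⁻¹ := by group
    rw [e, ← hk, ← conj_zpow]
    exact Subgroup.zpow_mem _ (h n⁻¹ (N.inv_mem hn)) k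

/-- (K4) [L, pure local group theory] `N = N(P)` of order 36, `P = C(P)` of order 9 and exponent 3, no element of
order 4 in `N`: the two `N`-invariant subgroups `⟨x⟩`, `⟨x'⟩` of order 3 of `P`. -/
theorem local36 {G : Type u} [Group G] [Finite G] (P : Subgroup G) (hP : Nat.card P = 9)
    (hexp : ∀ x ∈ P, x ^ 3 = 1) (hC : Subgroup.centralizer (P : Set G) = P)
    (hN : Nat.card (Subgroup.normalizer (P : Set G)) = 36)
    (h4 : ∀ u ∈ Subgroup.normalizer (P : Set G), orderOf u ≠ 4) :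
    ∃ x x' y : G, x ∈ P ∧ x' ∈ P ∧ y ∈ P ∧ x ≠ 1 ∧ x' ≠ 1 ∧ y ≠ 1 ∧
      Subgroup.normalizer (P : Set G) ≤ Subgroup.normalizer ((Subgroup.zpowers x : Subgroup G) : Set G) ∧
      Subgroup.normalizer (P : Set G) ≤ Subgroup.normalizer ((Subgroup.zpowers x' : Subgroup G) : Set G) ∧
      (∀ n ∈ Subgroup.normalizer (P : Set G), n * x * n⁻¹ ≠ x') ∧
      (∀ n ∈ Subgroup.normalizer (P : Set G), n * y = y * n → n ∈ P) ∧
      Nat.card (Subgroup.normalizer (P : Set G) ⊓ Subgroup.centralizer ({x} : Set G) : Subgroup G) = 18 ∧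
      Nat.card (Subgroup.normalizer (P : Set G) ⊓ Subgroup.centralizer ({x'} : Set G) : Subgroup G) = 18 ∧
      3 ≤ Nat.card {j : G // orderOf j = 2 ∧ j * x = x * j} ∧
      3 ≤ Nat.card {j : G // orderOf j = 2 ∧ j * x' = x' * j} := by
  haveI : Fact (Nat.Prime 2) := ⟨Nat.prime_two⟩
  haveI : Fact (Nat.Prime 3) := ⟨Nat.prime_three⟩
  set N := Subgroup.normalizer (P : Set G) with hNdef
  have hPN : P ≤ N := Subgroup.le_normalizer
  have hab : ∀ x ∈ P, ∀ y ∈ P, x * y = y * x := by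
    intro x hx y hy
    have hx' : x ∈ Subgroup.centralizer (P : Set G) := by rw [hC]; exact hx
    exact (Subgroup.mem_centralizer_iff.mp hx' y hy).symm
  have hnorm : ∀ n ∈ N, ∀ p ∈ P, n * p * n⁻¹ ∈ P :=
    fun n hn p hp => (Subgroup.mem_normalizer_iff.mp hn p).mp hp
  have hcent1 : ∀ t : G, t * t = 1 → (∀ p ∈ P, t * p * t⁻¹ = p) → t = 1 := by
    intro t ht hc
    have htC : t ∈ Subgroup.centralizer (P : Set G) := by
      rw [Subgroup.mem_centralizer_iff]
      intro p hp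
      have := hc p hp
      rw [mul_inv_eq_iff_eq_mul] at this
      exact this.symm
    rw [hC] at htC
    exact h94_eq_one_of_sq_cube ht (hexp t htC)
  have hnotP : ∀ t : G, t * t = 1 → t ≠ 1 → t ∉ P :=
    fun t ht ht1 htP => ht1 (h94_eq_one_of_sq_cube ht (hexp t htP))
  have hsq1 : ∀ p ∈ P, p * p = 1 → p = 1 := fun p hp h => h94_eq_one_of_sq_cube h (hexp p hp)
  -- Step A: a Sylow 2-subgroup of N
  obtain ⟨K, hK⟩ := Sylow.exists_subgroup_card_pow_prime 2
    (show 2 ^ 2 ∣ Nat.card ↥N by rw [hN]; norm_num)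
  set T : Subgroup G := K.map N.subtype with hTdef
  have hTcard : Nat.card T = 4 := by
    rw [hTdef, Subgroup.card_map_of_injective N.subtype_injective, hK]
    norm_num
  have hTN : T ≤ N := Subgroup.map_subtype_le K
  have hT2 : ∀ t ∈ T, t * t = 1 := by
    intro t ht
    have ho : orderOf t ∣ 2 ^ 2 := by
      have := Subgroup.orderOf_dvd_natCard T ht
      rw [hTcard] at this
      exact this
    have h4' := h4 t (hTN ht)
    obtain ⟨k, hk, hk'⟩ := (Nat.dvd_prime_pow Nat.prime_two).mp ho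
    have h2 : orderOf t ∣ 2 := by
      interval_cases k
      · rw [hk']; norm_num
      · rw [hk']; norm_num
      · exfalso; apply h4'; rw [hk']; norm_num
    rw [← pow_two]
    exact orderOf_dvd_iff_pow_eq_one.mp h2
  have hdecomp : ∀ n ∈ N, ∃ t ∈ T, ∃ p ∈ P, n = t * p := by
    haveI : (P.subgroupOf N).Normal := Subgroup.normal_in_normalizer
    have hP' : Nat.card (P.subgroupOf N) = 9 := by
      rw [Nat.card_congr (Subgroup.subgroupOfEquivOfLe hPN).toEquiv, hP]
    have htop : K ⊔ P.subgroupOf N = ⊤ := by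
      apply Subgroup.eq_top_of_card_eq
      have h1 : 4 ∣ Nat.card (K ⊔ P.subgroupOf N : Subgroup N) := by
        have := Subgroup.card_dvd_of_le (le_sup_left : K ≤ K ⊔ P.subgroupOf N)
        rw [hK] at this
        exact this
      have h2 : 9 ∣ Nat.card (K ⊔ P.subgroupOf N : Subgroup N) := by
        have := Subgroup.card_dvd_of_le (le_sup_right : P.subgroupOf N ≤ K ⊔ P.subgroupOf N)
        rw [hP'] at this
        exact this
      have h3 : Nat.card (K ⊔ P.subgroupOf N : Subgroup N) ∣ 36 := by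
        have := Subgroup.card_subgroup_dvd_card (K ⊔ P.subgroupOf N)
        rw [hN] at this
        exact this
      have h36 : 36 ∣ Nat.card (K ⊔ P.subgroupOf N : Subgroup N) :=
        Nat.Coprime.mul_dvd_of_dvd_of_dvd (by norm_num : Nat.Coprime 4 9) h1 h2
      rw [hN]
      exact Nat.dvd_antisymm h3 h36
    intro n hn
    have hmem : (⟨n, hn⟩ : N) ∈ (K ⊔ P.subgroupOf N : Subgroup N) := by rw [htop]; trivial
    rw [← SetLike.mem_coe, Subgroup.mul_normal] at hmem
    obtain ⟨k, hk, p', hp', hkp⟩ := Set.mem_mul.mp hmem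
    refine ⟨k.1, ⟨k, hk, rfl⟩, p'.1, Subgroup.mem_subgroupOf.mp hp', ?_⟩
    have := congrArg Subtype.val hkp
    simpa using this.symm
  -- Step B: two distinct involutions of T, one of them not inverting P
  have hTne : ∃ a1 ∈ T, a1 ≠ 1 := by
    by_contra hcon
    push Not at hcon
    have : T = ⊥ := (Subgroup.eq_bot_iff_forall T).mpr hcon
    rw [this, Subgroup.card_bot] at hTcard
    norm_num at hTcard
  obtain ⟨a1, ha1T, ha11⟩ := hTne
  have ha1o : orderOf a1 = 2 :=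
    orderOf_eq_prime (by rw [pow_two]; exact hT2 a1 ha1T) ha11
  have hz : Subgroup.zpowers a1 < T := by
    refine lt_of_le_of_ne (Subgroup.zpowers_le.mpr ha1T) ?_
    intro h
    have := congrArg (fun H : Subgroup G => Nat.card H) h
    simp only [Nat.card_zpowers, ha1o, hTcard] at this
    norm_num at this
  obtain ⟨a2, ha2T, ha2z⟩ := SetLike.exists_of_lt hz
  have ha21 : a2 ≠ 1 := fun h => ha2z (h ▸ Subgroup.one_mem _)
  have ha12 : a1 ≠ a2 := fun h => ha2z (h ▸ Subgroup.mem_zpowers a1)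
  have hinv2 : ∀ s ∈ T, ∀ t ∈ T, (∀ p ∈ P, s * p * s⁻¹ = p⁻¹) → (∀ p ∈ P, t * p * t⁻¹ = p⁻¹) →
      s = t := by
    intro s hs t ht his hit
    have hst : (s * t) * (s * t) = 1 := hT2 _ (T.mul_mem hs ht)
    have hc : ∀ p ∈ P, (s * t) * p * (s * t)⁻¹ = p := by
      intro p hp
      have e : (s * t) * p * (s * t)⁻¹ = s * (t * p * t⁻¹) * s⁻¹ := by group
      rw [e, hit p hp, his _ (P.inv_mem hp), inv_inv]
    have h1 := hcent1 _ hst hc
    have ht' : t⁻¹ = t := inv_eq_of_mul_eq_one_right (hT2 t ht)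
    rw [← ht']
    exact eq_inv_of_mul_eq_one_left h1
  obtain ⟨a, b0, haT, hb0T, ha1, hb01, hab0, hanot⟩ : ∃ a b0, a ∈ T ∧ b0 ∈ T ∧ a ≠ 1 ∧ b0 ≠ 1 ∧
      a ≠ b0 ∧ ¬ (∀ p ∈ P, a * p * a⁻¹ = p⁻¹) := by
    by_cases h : ∀ p ∈ P, a1 * p * a1⁻¹ = p⁻¹
    · refine ⟨a2, a1, ha2T, ha1T, ha21, ha11, fun e => ha12 e.symm, ?_⟩
      intro h'
      exact ha12 (hinv2 a1 ha1T a2 ha2T h h')
    · exact ⟨a1, a2, ha1T, ha2T, ha11, ha21, ha12, h⟩
  -- Step C: the fixed and the inverted subgroup of `a`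
  have haa : a * a = 1 := hT2 a haT
  have hainv : a⁻¹ = a := inv_eq_of_mul_eq_one_right haa
  have haN : a ∈ N := hTN haT
  have hσσ : ∀ p : G, a * (a * p * a⁻¹) * a⁻¹ = p := by
    intro p
    calc a * (a * p * a⁻¹) * a⁻¹ = (a * a) * p * (a * a)⁻¹ := by group
      _ = p := by rw [haa]; simp
  let F : Subgroup G :=
    { carrier := {p | p ∈ P ∧ a * p * a⁻¹ = p}
      one_mem' := ⟨P.one_mem, by simp⟩
      mul_mem' := by
        rintro p q ⟨hp, hp'⟩ ⟨hq, hq'⟩
        refine ⟨P.mul_mem hp hq, ?_⟩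
        calc a * (p * q) * a⁻¹ = (a * p * a⁻¹) * (a * q * a⁻¹) := by group
          _ = p * q := by rw [hp', hq']
      inv_mem' := by
        rintro p ⟨hp, hp'⟩
        refine ⟨P.inv_mem hp, ?_⟩
        calc a * p⁻¹ * a⁻¹ = (a * p * a⁻¹)⁻¹ := by group
          _ = p⁻¹ := by rw [hp'] }
  let I : Subgroup G :=
    { carrier := {p | p ∈ P ∧ a * p * a⁻¹ = p⁻¹}
      one_mem' := ⟨P.one_mem, by simp⟩
      mul_mem' := by
        rintro p q ⟨hp, hp'⟩ ⟨hq, hq'⟩
        refine ⟨P.mul_mem hp hq, ?_⟩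
        calc a * (p * q) * a⁻¹ = (a * p * a⁻¹) * (a * q * a⁻¹) := by group
          _ = p⁻¹ * q⁻¹ := by rw [hp', hq']
          _ = (p * q)⁻¹ := by
              rw [mul_inv_rev]
              exact hab _ (P.inv_mem hp) _ (P.inv_mem hq)
      inv_mem' := by
        rintro p ⟨hp, hp'⟩
        refine ⟨P.inv_mem hp, ?_⟩
        calc a * p⁻¹ * a⁻¹ = (a * p * a⁻¹)⁻¹ := by group
          _ = (p⁻¹)⁻¹ := by rw [hp'] }
  have hFmem : ∀ p, p ∈ F ↔ p ∈ P ∧ a * p * a⁻¹ = p := fun p => Iff.rfl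
  have hImem : ∀ p, p ∈ I ↔ p ∈ P ∧ a * p * a⁻¹ = p⁻¹ := fun p => Iff.rfl
  have hFP : F ≤ P := fun p hp => hp.1
  have hIP : I ≤ P := fun p hp => hp.1
  have hFI : ∀ p, p ∈ F → p ∈ I → p = 1 := by
    intro p hpF hpI
    have h1 : p = p⁻¹ := by rw [← hpI.2]; exact hpF.2.symm
    apply hsq1 p hpF.1
    calc p * p = p * p⁻¹ := by rw [← h1]
      _ = 1 := mul_inv_cancel p
  have hdiv3 : ∀ H : Subgroup G, H ≤ P → H ≠ ⊥ → H ≠ P → Nat.card H = 3 := by
    intro H hHP hbot hne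
    have hd : Nat.card H ∣ 3 ^ 2 := by
      have := Subgroup.card_dvd_of_le hHP
      rw [hP] at this
      exact this
    obtain ⟨k, hk, hk'⟩ := (Nat.dvd_prime_pow Nat.prime_three).mp hd
    interval_cases k
    · exact absurd (Subgroup.card_eq_one.mp (by rw [hk']; norm_num)) hbot
    · rw [hk']; norm_num
    · exact absurd (Subgroup.eq_of_le_of_card_ge hHP (by rw [hP, hk']; norm_num)) hne
  -- `p * σ p ∈ F`, `p * (σ p)⁻¹ ∈ I`
  have hpF : ∀ p ∈ P, p * (a * p * a⁻¹) ∈ F := by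
    intro p hp
    rw [hFmem]
    refine ⟨P.mul_mem hp (hnorm a haN p hp), ?_⟩
    calc a * (p * (a * p * a⁻¹)) * a⁻¹ = (a * p * a⁻¹) * (a * (a * p * a⁻¹) * a⁻¹) := by group
      _ = (a * p * a⁻¹) * p := by rw [hσσ]
      _ = p * (a * p * a⁻¹) := hab _ (hnorm a haN p hp) _ hp
  have hpI : ∀ p ∈ P, p * (a * p * a⁻¹)⁻¹ ∈ I := by
    intro p hp
    rw [hImem]
    refine ⟨P.mul_mem hp (P.inv_mem (hnorm a haN p hp)), ?_⟩
    calc a * (p * (a * p * a⁻¹)⁻¹) * a⁻¹ = (a * p * a⁻¹) * (a * (a * p * a⁻¹) * a⁻¹)⁻¹ := by group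
      _ = (a * p * a⁻¹) * p⁻¹ := by rw [hσσ]
      _ = (p * (a * p * a⁻¹)⁻¹)⁻¹ := by rw [mul_inv_rev, inv_inv]
  have hFne : F ≠ P := by
    intro h
    apply ha1
    apply hcent1 a haa
    intro p hp
    have : p ∈ F := by rw [h]; exact hp
    exact this.2
  have hIne : I ≠ P := by
    intro h
    apply hanot
    intro p hp
    have : p ∈ I := by rw [h]; exact hp
    exact this.2
  have hFbot : F ≠ ⊥ := by
    intro h
    apply hanot
    intro p hp
    have h1 := hpF p hp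
    rw [h, Subgroup.mem_bot] at h1
    exact (eq_inv_of_mul_eq_one_right h1)
  have hIbot : I ≠ ⊥ := by
    intro h
    apply ha1
    apply hcent1 a haa
    intro p hp
    have h1 := hpI p hp
    rw [h, Subgroup.mem_bot] at h1
    exact (mul_inv_eq_one.mp h1).symm
  have hFcard : Nat.card F = 3 := hdiv3 F hFP hFbot hFne
  have hIcard : Nat.card I = 3 := hdiv3 I hIP hIbot hIne
  obtain ⟨⟨x, hxF⟩, hx1'⟩ := (Subgroup.ne_bot_iff_exists_ne_one).mp hFbot
  obtain ⟨⟨x', hx'I⟩, hx'1'⟩ := (Subgroup.ne_bot_iff_exists_ne_one).mp hIbot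
  have hx1 : x ≠ 1 := fun h => hx1' (Subtype.ext h)
  have hx'1 : x' ≠ 1 := fun h => hx'1' (Subtype.ext h)
  have hxP : x ∈ P := hxF.1
  have hx'P : x' ∈ P := hx'I.1
  have hax : a * x * a⁻¹ = x := hxF.2
  have hax' : a * x' * a⁻¹ = x'⁻¹ := hx'I.2
  -- Step D: the action of `T` on `x`, `x'`
  have hcomm : ∀ t ∈ T, a * t = t * a := by
    intro t ht
    have h1 := hT2 _ (T.mul_mem haT ht)
    have ht' : t⁻¹ = t := inv_eq_of_mul_eq_one_right (hT2 t ht)
    have h2 : (a * t)⁻¹ = a * t := inv_eq_of_mul_eq_one_right h1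
    rw [← h2, mul_inv_rev, ht', hainv]
  have hFinvT : ∀ t ∈ T, ∀ p ∈ F, t * p * t⁻¹ ∈ F := by
    intro t ht p hp
    rw [hFmem]
    refine ⟨hnorm t (hTN ht) p hp.1, ?_⟩
    calc a * (t * p * t⁻¹) * a⁻¹ = (a * t) * p * (a * t)⁻¹ := by group
      _ = (t * a) * p * (t * a)⁻¹ := by rw [hcomm t ht]
      _ = t * (a * p * a⁻¹) * t⁻¹ := by group
      _ = t * p * t⁻¹ := by rw [hp.2]
  have hIinvT : ∀ t ∈ T, ∀ p ∈ I, t * p * t⁻¹ ∈ I := by
    intro t ht p hp
    rw [hImem]
    refine ⟨hnorm t (hTN ht) p hp.1, ?_⟩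
    calc a * (t * p * t⁻¹) * a⁻¹ = (a * t) * p * (a * t)⁻¹ := by group
      _ = (t * a) * p * (t * a)⁻¹ := by rw [hcomm t ht]
      _ = t * (a * p * a⁻¹) * t⁻¹ := by group
      _ = t * p⁻¹ * t⁻¹ := by rw [hp.2]
      _ = (t * p * t⁻¹)⁻¹ := by group
  have hconj1 : ∀ t z : G, t * z * t⁻¹ = 1 → z = 1 := by
    intro t z h
    exact conj_eq_one_iff.mp h
  have hTx : ∀ t ∈ T, t * x * t⁻¹ = x ∨ t * x * t⁻¹ = x⁻¹ := by
    intro t ht
    rcases h94_mem_of_card_three F hFcard hxF hx1 (hFinvT t ht x hxF) with h | h | h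
    · exact absurd (hconj1 t x h) hx1
    · exact Or.inl h
    · exact Or.inr h
  have hTx' : ∀ t ∈ T, t * x' * t⁻¹ = x' ∨ t * x' * t⁻¹ = x'⁻¹ := by
    intro t ht
    rcases h94_mem_of_card_three I hIcard hx'I hx'1 (hIinvT t ht x' hx'I) with h | h | h
    · exact absurd (hconj1 t x' h) hx'1
    · exact Or.inl h
    · exact Or.inr h
  -- `P = F * I`
  have hPFI : ∀ p ∈ P, ∃ f ∈ F, ∃ m ∈ I, p = f * m := by
    intro p hp
    have hq : a * p * a⁻¹ ∈ P := hnorm a haN p hp
    refine ⟨(p * (a * p * a⁻¹))⁻¹, F.inv_mem (hpF p hp), (p * (a * p * a⁻¹)⁻¹)⁻¹,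
      I.inv_mem (hpI p hp), ?_⟩
    have h3 : p ^ 3 = 1 := hexp p hp
    have e1 : (p * (a * p * a⁻¹))⁻¹ * (p * (a * p * a⁻¹)⁻¹)⁻¹ =
        (a * p * a⁻¹)⁻¹ * (p⁻¹ * (a * p * a⁻¹)) * p⁻¹ := by group
    rw [e1, hab _ (P.inv_mem hp) _ hq]
    have e2 : (a * p * a⁻¹)⁻¹ * (a * p * a⁻¹ * p⁻¹) * p⁻¹ = p⁻¹ * p⁻¹ := by group
    rw [e2]
    calc p = p ^ 3 * (p⁻¹ * p⁻¹) := by group
      _ = p⁻¹ * p⁻¹ := by rw [h3, one_mul]
  have hFfix : ∀ t : G, t * x * t⁻¹ = x → ∀ f ∈ F, t * f * t⁻¹ = f := by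
    intro t ht f hf
    rcases h94_mem_of_card_three F hFcard hxF hx1 hf with h | h | h
    · rw [h]; simp
    · rw [h]; exact ht
    · rw [h]
      calc t * x⁻¹ * t⁻¹ = (t * x * t⁻¹)⁻¹ := by group
        _ = x⁻¹ := by rw [ht]
  have hFinv : ∀ t : G, t * x * t⁻¹ = x⁻¹ → ∀ f ∈ F, t * f * t⁻¹ = f⁻¹ := by
    intro t ht f hf
    rcases h94_mem_of_card_three F hFcard hxF hx1 hf with h | h | h
    · rw [h]; simp
    · rw [h]; exact ht
    · rw [h]
      calc t * x⁻¹ * t⁻¹ = (t * x * t⁻¹)⁻¹ := by group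
        _ = (x⁻¹)⁻¹ := by rw [ht]
  have hIfix : ∀ t : G, t * x' * t⁻¹ = x' → ∀ m ∈ I, t * m * t⁻¹ = m := by
    intro t ht f hf
    rcases h94_mem_of_card_three I hIcard hx'I hx'1 hf with h | h | h
    · rw [h]; simp
    · rw [h]; exact ht
    · rw [h]
      calc t * x'⁻¹ * t⁻¹ = (t * x' * t⁻¹)⁻¹ := by group
        _ = x'⁻¹ := by rw [ht]
  have hIinv : ∀ t : G, t * x' * t⁻¹ = x'⁻¹ → ∀ m ∈ I, t * m * t⁻¹ = m⁻¹ := by
    intro t ht f hf
    rcases h94_mem_of_card_three I hIcard hx'I hx'1 hf with h | h | h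
    · rw [h]; simp
    · rw [h]; exact ht
    · rw [h]
      calc t * x'⁻¹ * t⁻¹ = (t * x' * t⁻¹)⁻¹ := by group
        _ = (x'⁻¹)⁻¹ := by rw [ht]
  have hcentP : ∀ t : G, t * x * t⁻¹ = x → t * x' * t⁻¹ = x' → ∀ p ∈ P, t * p * t⁻¹ = p := by
    intro t h1 h2 p hp
    obtain ⟨f, hf, m, hm, rfl⟩ := hPFI p hp
    calc t * (f * m) * t⁻¹ = (t * f * t⁻¹) * (t * m * t⁻¹) := by group
      _ = f * m := by rw [hFfix t h1 f hf, hIfix t h2 m hm]
  -- the element `b`
  obtain ⟨b, hbT, hbx, hbx'⟩ : ∃ b ∈ T, b * x * b⁻¹ = x⁻¹ ∧ b * x' * b⁻¹ = x' := by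
    rcases hTx b0 hb0T with h1 | h1 <;> rcases hTx' b0 hb0T with h2 | h2
    · exact absurd (hcent1 b0 (hT2 b0 hb0T) (hcentP b0 h1 h2)) hb01
    · exfalso
      have hc : ∀ p ∈ P, (a * b0) * p * (a * b0)⁻¹ = p := by
        apply hcentP
        · calc a * b0 * x * (a * b0)⁻¹ = a * (b0 * x * b0⁻¹) * a⁻¹ := by group
            _ = x := by rw [h1, hax]
        · calc a * b0 * x' * (a * b0)⁻¹ = a * (b0 * x' * b0⁻¹) * a⁻¹ := by group
            _ = a * x'⁻¹ * a⁻¹ := by rw [h2]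
            _ = (a * x' * a⁻¹)⁻¹ := by group
            _ = x' := by rw [hax', inv_inv]
      have h3 := hcent1 _ (hT2 _ (T.mul_mem haT hb0T)) hc
      apply hab0
      have hb' : b0⁻¹ = b0 := inv_eq_of_mul_eq_one_right (hT2 b0 hb0T)
      rw [← hb']
      exact eq_inv_of_mul_eq_one_left h3
    · exact ⟨b0, hb0T, h1, h2⟩
    · refine ⟨a * b0, T.mul_mem haT hb0T, ?_, ?_⟩
      · calc a * b0 * x * (a * b0)⁻¹ = a * (b0 * x * b0⁻¹) * a⁻¹ := by group
          _ = a * x⁻¹ * a⁻¹ := by rw [h1]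
          _ = (a * x * a⁻¹)⁻¹ := by group
          _ = x⁻¹ := by rw [hax]
      · calc a * b0 * x' * (a * b0)⁻¹ = a * (b0 * x' * b0⁻¹) * a⁻¹ := by group
          _ = a * x'⁻¹ * a⁻¹ := by rw [h2]
          _ = (a * x' * a⁻¹)⁻¹ := by group
          _ = x' := by rw [hax', inv_inv]
  -- Step E: conclusions
  have hbb : b * b = 1 := hT2 b hbT
  have hbinv : b⁻¹ = b := inv_eq_of_mul_eq_one_right hbb
  have hbN : b ∈ N := hTN hbT
  have hb1 : b ≠ 1 := by
    intro h
    rw [h] at hbx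
    simp only [one_mul, inv_one, mul_one] at hbx
    apply hx1
    apply hsq1 x hxP
    calc x * x = x * x⁻¹ := by rw [← hbx]
      _ = 1 := mul_inv_cancel x
  have hxne : x ≠ x⁻¹ := by
    intro h
    apply hx1
    apply hsq1 x hxP
    calc x * x = x * x⁻¹ := by rw [← h]
      _ = 1 := mul_inv_cancel x
  have hx'ne : x' ≠ x'⁻¹ := by
    intro h
    apply hx'1
    apply hsq1 x' hx'P
    calc x' * x' = x' * x'⁻¹ := by rw [← h]
      _ = 1 := mul_inv_cancel x'
  -- the action of `N`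
  have hNx : ∀ n ∈ N, n * x * n⁻¹ = x ∨ n * x * n⁻¹ = x⁻¹ := by
    intro n hn
    obtain ⟨t, ht, p, hp, rfl⟩ := hdecomp n hn
    have e : t * p * x * (t * p)⁻¹ = t * (p * x * p⁻¹) * t⁻¹ := by group
    have e2 : p * x * p⁻¹ = x := by rw [hab p hp x hxP]; group
    rw [e, e2]
    exact hTx t ht
  have hNx' : ∀ n ∈ N, n * x' * n⁻¹ = x' ∨ n * x' * n⁻¹ = x'⁻¹ := by
    intro n hn
    obtain ⟨t, ht, p, hp, rfl⟩ := hdecomp n hn
    have e : t * p * x' * (t * p)⁻¹ = t * (p * x' * p⁻¹) * t⁻¹ := by group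
    have e2 : p * x' * p⁻¹ = x' := by rw [hab p hp x' hx'P]; group
    rw [e, e2]
    exact hTx' t ht
  have hy1 : x * x' ≠ 1 := by
    intro h
    have h1 : x = x'⁻¹ := eq_inv_of_mul_eq_one_left h
    have h2 : x ∈ I := by rw [h1]; exact I.inv_mem hx'I
    exact hx1 (hFI x hxF h2)
  have hK18 : ∀ (z c d : G), (∀ p ∈ P, p * z = z * p) → c ∈ N → c * z = z * c → c ∉ P → d ∈ N →
      d * z ≠ z * d → Nat.card (N ⊓ Subgroup.centralizer ({z} : Set G) : Subgroup G) = 18 := by
    intro z c d hPz hcN hcz hcP hdN hdz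
    have hPK : P ≤ N ⊓ Subgroup.centralizer ({z} : Set G) := by
      intro p hp
      refine ⟨hPN hp, ?_⟩
      show p ∈ Subgroup.centralizer ({z} : Set G)
      rw [Subgroup.mem_centralizer_singleton_iff]
      exact hPz p hp
    have hcK : c ∈ N ⊓ Subgroup.centralizer ({z} : Set G) := by
      refine ⟨hcN, ?_⟩
      show c ∈ Subgroup.centralizer ({z} : Set G)
      rw [Subgroup.mem_centralizer_singleton_iff]
      exact hcz
    have h1 : 9 ∣ Nat.card (N ⊓ Subgroup.centralizer ({z} : Set G) : Subgroup G) := by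
      have := Subgroup.card_dvd_of_le hPK
      rw [hP] at this
      exact this
    have h2 : Nat.card (N ⊓ Subgroup.centralizer ({z} : Set G) : Subgroup G) ∣ 36 := by
      have := Subgroup.card_dvd_of_le
        (inf_le_left : N ⊓ Subgroup.centralizer ({z} : Set G) ≤ N)
      rw [hN] at this
      exact this
    have h3 : Nat.card (N ⊓ Subgroup.centralizer ({z} : Set G) : Subgroup G) ≠ 9 := by
      intro h
      have he : P = N ⊓ Subgroup.centralizer ({z} : Set G) :=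
        Subgroup.eq_of_le_of_card_ge hPK (by rw [hP, h])
      apply hcP
      rw [he]
      exact hcK
    have h4 : Nat.card (N ⊓ Subgroup.centralizer ({z} : Set G) : Subgroup G) ≠ 36 := by
      intro h
      have he : N ⊓ Subgroup.centralizer ({z} : Set G) = N :=
        Subgroup.eq_of_le_of_card_ge inf_le_left (by rw [hN, h])
      have hd : d ∈ N ⊓ Subgroup.centralizer ({z} : Set G) := by rw [he]; exact hdN
      exact hdz (Subgroup.mem_centralizer_singleton_iff.mp hd.2)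
    obtain ⟨m, hm⟩ := h1
    rw [hm] at h2 h3 h4 ⊢
    have hm4 : m ∣ 4 := Nat.dvd_of_mul_dvd_mul_left (by norm_num : 0 < 9) (by simpa using h2)
    have hle : m ≤ 4 := Nat.le_of_dvd (by norm_num) hm4
    interval_cases m <;> first | omega | simp_all
  have hinvol : ∀ (H : Subgroup G) (c z : G), Nat.card H = 3 → H ≤ P → c * c = 1 → c ∉ P →
      (∀ m ∈ H, c * m * c⁻¹ = m⁻¹) → c * z = z * c → z ∈ P →
      3 ≤ Nat.card {j : G // orderOf j = 2 ∧ j * z = z * j} := by
    intro H c z hH hHP hcc hcP hcinv hcz hzP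
    have hcinv' : c⁻¹ = c := inv_eq_of_mul_eq_one_right hcc
    have hmc : ∀ m ∈ H, orderOf (m * c) = 2 ∧ (m * c) * z = z * (m * c) := by
      intro m hm
      constructor
      · apply orderOf_eq_prime
        · rw [pow_two]
          have h1 := hcinv m hm
          rw [hcinv'] at h1
          calc m * c * (m * c) = m * (c * m * c) := by group
            _ = 1 := by rw [h1, mul_inv_cancel]
        · intro h
          apply hcP
          have : c = m⁻¹ := eq_inv_of_mul_eq_one_right h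
          rw [this]
          exact P.inv_mem (hHP hm)
      · calc m * c * z = m * (c * z) := by group
          _ = m * (z * c) := by rw [hcz]
          _ = (m * z) * c := by group
          _ = (z * m) * c := by rw [hab m (hHP hm) z hzP]
          _ = z * (m * c) := by group
    have hinj : Function.Injective
        (fun m : H => (⟨m.1 * c, hmc m.1 m.2⟩ : {j : G // orderOf j = 2 ∧ j * z = z * j})) := by
      intro m1 m2 h
      have := congrArg Subtype.val h
      simp only [mul_left_inj] at this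
      exact Subtype.ext this
    have := Nat.card_le_card_of_injective _ hinj
    rw [hH] at this
    exact this
  refine ⟨x, x', x * x', hxP, hx'P, P.mul_mem hxP hx'P, hx1, hx'1, hy1, ?_, ?_, ?_, ?_, ?_, ?_, ?_, ?_⟩
  · apply h94_le_normalizer_zpowers
    intro n hn
    rcases hNx n hn with h | h
    · rw [h]; exact Subgroup.mem_zpowers x
    · rw [h]; exact Subgroup.inv_mem _ (Subgroup.mem_zpowers x)
  · apply h94_le_normalizer_zpowers
    intro n hn
    rcases hNx' n hn with h | h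
    · rw [h]; exact Subgroup.mem_zpowers x'
    · rw [h]; exact Subgroup.inv_mem _ (Subgroup.mem_zpowers x')
  · intro n hn h
    rcases hNx n hn with h1 | h1
    · rw [h1] at h
      have : x ∈ I := by rw [h]; exact hx'I
      exact hx1 (hFI x hxF this)
    · rw [h1] at h
      have : x' ∈ F := by rw [← h]; exact F.inv_mem hxF
      exact hx'1 (hFI x' this hx'I)
  · intro n hn hny
    obtain ⟨t, ht, p, hp, rfl⟩ := hdecomp n hn
    -- `t` commutes with `y`
    have hpy : p * (x * x') = (x * x') * p := hab p hp _ (P.mul_mem hxP hx'P)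
    have hty : t * (x * x') * t⁻¹ = x * x' := by
      have h1 : t * (p * (x * x')) = (x * x') * t * p := by
        rw [← mul_assoc, hny]; group
      rw [hpy] at h1
      have h2 : t * (x * x') = (x * x') * t := by
        have := congrArg (fun z => z * p⁻¹) h1
        simpa [mul_assoc] using this
      rw [h2]; group
    have hsplit : t * (x * x') * t⁻¹ = (t * x * t⁻¹) * (t * x' * t⁻¹) := by group
    rw [hsplit] at hty
    have htx : t * x * t⁻¹ = x := by
      rcases hTx t ht with h | h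
      · exact h
      · exfalso
        rcases hTx' t ht with h' | h'
        · rw [h, h'] at hty
          -- x⁻¹ * x' = x * x' → x⁻¹ = x
          exact hxne (mul_right_cancel hty).symm
        · rw [h, h'] at hty
          -- x⁻¹ * x'⁻¹ = x * x' : then x⁻¹ x⁻¹ = x' x' ∈ F ∩ I
          have h3 : x⁻¹ * x⁻¹ = x' * x' := by
            have := congrArg (fun z => x⁻¹ * z * x') hty
            simp only [mul_assoc, inv_mul_cancel, mul_one, inv_mul_cancel_left] at this
            exact this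
          have h4 : x⁻¹ * x⁻¹ ∈ I := by rw [h3]; exact I.mul_mem hx'I hx'I
          have h5 := hFI _ (F.mul_mem (F.inv_mem hxF) (F.inv_mem hxF)) h4
          apply hx1
          apply hsq1 x hxP
          calc x * x = (x⁻¹ * x⁻¹)⁻¹ := by rw [mul_inv_rev, inv_inv]
            _ = 1 := by rw [h5, inv_one]
    have htx' : t * x' * t⁻¹ = x' := by
      rw [htx] at hty
      exact mul_left_cancel hty
    have ht1 : t = 1 := hcent1 t (hT2 t ht) (hcentP t htx htx')
    rw [ht1, one_mul]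
    exact hp
  · -- |C_N(x)| = 18
    refine hK18 x a b (fun p hp => hab p hp x hxP) haN ?_ (hnotP a haa ha1) hbN ?_
    · have := hax
      rw [mul_inv_eq_iff_eq_mul] at this
      exact this
    · intro h
      apply hxne
      rw [← hbx, h]
      group
  · -- |C_N(x')| = 18
    refine hK18 x' b a (fun p hp => hab p hp x' hx'P) hbN ?_ (hnotP b hbb hb1) haN ?_
    · have := hbx'
      rw [mul_inv_eq_iff_eq_mul] at this
      exact this
    · intro h
      apply hx'ne
      rw [← hax', h]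
      group
  · -- three involutions commuting with x : m * a, m ∈ I
    refine hinvol I a x hIcard hIP haa (hnotP a haa ha1) (fun m hm => hm.2) ?_ hxP
    have := hax
    rw [mul_inv_eq_iff_eq_mul] at this
    exact this
  · -- three involutions commuting with x' : f * b, f ∈ F
    refine hinvol F b x' hFcard hFP hbb (hnotP b hbb hb1) (fun f hf => hFinv b hbx f hf) ?_ hx'P
    have := hbx'
    rw [mul_inv_eq_iff_eq_mul] at this
    exact this

end Cfsg.Agent.Helper94.O2520
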