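import Mathlib
import Cfsg.Prelude.Def_Blocks
import Cfsg.Agent.Lib.Helper55.O2520Defs

/-! O2520 server (helper55, S0984), wave 2 piece S3D `inverts_of_order4`. -/

set_option autoImplicit false

namespace Cfsg.Agent.Helper94.O2520

open Cfsg Cfsg.Agent.Helper55.O2520
open scoped Classical

universe u

/-- (S3D) [pure group theory] u induces an automorphism φ of P of order 4 (faithful: u² ∉ C(P) = P as
orderOf (u²) = 2 ∤ 9). The subgroup `N` of the elements of `P` inverted by `u²` is `u`-invariant and has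
order 1, 3 or 9; order 1 puts `u²` in `C(P) = P`; order 3: `u` acts on `N = ⟨n⟩` by `n ↦ n^k`, so `u²` acts
by `n ↦ n^(k²)`, and `k² ≡ -1 mod 3` is impossible. -/
theorem inverts_of_order4 {G : Type u} [Group G] (P : Subgroup G) (hP : Nat.card P = 9)
    (hexp : ∀ x ∈ P, x ^ 3 = 1)
    (hC : Subgroup.centralizer (P : Set G) = P) (u : G) (hu : orderOf u = 4)
    (hn : u ∈ Subgroup.normalizer (P : Set G)) :
    ∀ x ∈ P, u ^ 2 * x * (u ^ 2)⁻¹ = x⁻¹ := by
  haveI : Finite P := Nat.finite_of_card_ne_zero (by rw [hP]; norm_num)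
  haveI : Fact (Nat.Prime 3) := ⟨Nat.prime_three⟩
  have hab : ∀ x ∈ P, ∀ y ∈ P, x * y = y * x := by
    intro x hx y hy
    have hx' : x ∈ Subgroup.centralizer (P : Set G) := by rw [hC]; exact hx
    exact (Subgroup.mem_centralizer_iff.mp hx' y hy).symm
  have hu4 : u ^ 4 = 1 := by rw [← hu]; exact pow_orderOf_eq_one u
  set s := u ^ 2 with hs
  have hs2 : s * s = 1 := by rw [hs, ← pow_add]; exact hu4
  have hsinv : s⁻¹ = s := inv_eq_of_mul_eq_one_right hs2
  have hsne : s ≠ 1 := by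
    intro h
    have h2 : orderOf u ∣ 2 := orderOf_dvd_of_pow_eq_one h
    rw [hu] at h2
    norm_num at h2
  have hτ : ∀ x ∈ P, u * x * u⁻¹ ∈ P := fun x hx => (Subgroup.mem_normalizer_iff.mp hn x).mp hx
  have hσeq : ∀ x : G, s * x * s⁻¹ = u * (u * x * u⁻¹) * u⁻¹ := by
    intro x
    rw [hs, pow_two, mul_inv_rev]
    simp only [mul_assoc]
  have hσ : ∀ x ∈ P, s * x * s⁻¹ ∈ P := by
    intro x hx
    rw [hσeq]
    exact hτ _ (hτ x hx)
  let N : Subgroup G :=
    { carrier := {x | x ∈ P ∧ s * x * s⁻¹ = x⁻¹}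
      one_mem' := ⟨P.one_mem, by simp⟩
      mul_mem' := by
        rintro a b ⟨ha, ha'⟩ ⟨hb, hb'⟩
        refine ⟨P.mul_mem ha hb, ?_⟩
        calc s * (a * b) * s⁻¹ = (s * a * s⁻¹) * (s * b * s⁻¹) := by group
          _ = a⁻¹ * b⁻¹ := by rw [ha', hb']
          _ = (a * b)⁻¹ := by
              rw [mul_inv_rev]
              exact hab _ (P.inv_mem ha) _ (P.inv_mem hb)
      inv_mem' := by
        rintro a ⟨ha, ha'⟩
        refine ⟨P.inv_mem ha, ?_⟩
        calc s * a⁻¹ * s⁻¹ = (s * a * s⁻¹)⁻¹ := by group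
          _ = (a⁻¹)⁻¹ := by rw [ha'] }
  have hNmem : ∀ x, x ∈ N ↔ x ∈ P ∧ s * x * s⁻¹ = x⁻¹ := fun x => Iff.rfl
  have hNP : N ≤ P := fun x hx => hx.1
  have hdvd : Nat.card N ∣ 3 ^ 2 := by
    have := Subgroup.card_dvd_of_le hNP
    rw [hP] at this
    exact this
  obtain ⟨k, hk, hk'⟩ := (Nat.dvd_prime_pow Nat.prime_three).mp hdvd
  interval_cases k
  · -- card N = 1
    exfalso
    have hbot : N = ⊥ := Subgroup.card_eq_one.mp (by rw [hk']; norm_num)
    have hfix : ∀ x ∈ P, s * x * s⁻¹ = x := by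
      intro x hx
      have hy : x * (s * x * s⁻¹)⁻¹ ∈ N := by
        rw [hNmem]
        refine ⟨P.mul_mem hx (P.inv_mem (hσ x hx)), ?_⟩
        rw [hsinv]
        have e1 : s * (x * (s * x * s)⁻¹) * s = s * x * (s⁻¹ * x⁻¹ * (s⁻¹ * s)) := by group
        have e2 : (x * (s * x * s)⁻¹)⁻¹ = s * x * (s * x⁻¹) := by group
        rw [e1, e2, hsinv, hs2, mul_one]
      rw [hbot, Subgroup.mem_bot] at hy
      have := mul_inv_eq_one.mp hy
      exact this.symm
    have hsC : s ∈ Subgroup.centralizer (P : Set G) := by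
      rw [Subgroup.mem_centralizer_iff]
      intro x hx
      have := hfix x hx
      rw [mul_inv_eq_iff_eq_mul] at this
      exact this.symm
    rw [hC] at hsC
    have h3 := hexp s hsC
    apply hsne
    calc s = s ^ 3 * (s * s)⁻¹ := by group
      _ = 1 := by rw [h3, hs2]; simp
  · -- card N = 3
    exfalso
    have hcard : Nat.card N = 3 := by rw [hk']; norm_num
    have hne : N ≠ ⊥ := by
      intro h
      rw [h, Subgroup.card_bot] at hcard
      norm_num at hcard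
    obtain ⟨⟨n, hnN⟩, hn1'⟩ := (Subgroup.ne_bot_iff_exists_ne_one).mp hne
    have hn1 : n ≠ 1 := by
      intro h
      apply hn1'
      exact Subtype.ext h
    have hnP : n ∈ P := hnN.1
    have hnσ : s * n * s⁻¹ = n⁻¹ := hnN.2
    -- `u n u⁻¹ ∈ N`
    have hτN : u * n * u⁻¹ ∈ N := by
      rw [hNmem]
      refine ⟨hτ n hnP, ?_⟩
      have e1 : s * (u * n * u⁻¹) * s⁻¹ = u * (s * n * s⁻¹) * u⁻¹ := by
        rw [hs, pow_two, mul_inv_rev]
        simp only [mul_assoc]
      rw [e1, hnσ]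
      group
    -- `u n u⁻¹ = n ^ k`
    have hmem : (⟨u * n * u⁻¹, hτN⟩ : N) ∈ Subgroup.zpowers (⟨n, hnN⟩ : N) :=
      mem_zpowers_of_prime_card hcard hn1'
    obtain ⟨k, hk⟩ := Subgroup.mem_zpowers_iff.mp hmem
    have hk2 : n ^ k = u * n * u⁻¹ := by
      have := congrArg Subtype.val hk
      simpa using this
    -- `s n s⁻¹ = n ^ (k * k)`
    have h1 : s * n * s⁻¹ = n ^ (k * k) := by
      rw [hσeq, ← hk2, ← conj_zpow, ← hk2, ← zpow_mul]
    have h2 : n ^ (k * k + 1) = 1 := by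
      rw [zpow_add_one, ← h1, hnσ, inv_mul_cancel]
    have ho : orderOf n = 3 := orderOf_eq_prime (hexp n hnP) hn1
    have h3 : ((orderOf n : ℕ) : ℤ) ∣ k * k + 1 := orderOf_dvd_iff_zpow_eq_one.mpr h2
    rw [ho] at h3
    have h3' : (3 : ℤ) ∣ k * k + 1 := by exact_mod_cast h3
    have h4 := Int.emod_eq_zero_of_dvd h3'
    have hk3 : k % 3 = 0 ∨ k % 3 = 1 ∨ k % 3 = 2 := by omega
    rcases hk3 with h | h | h <;>
    · rw [Int.add_emod, Int.mul_emod, h] at h4
      norm_num at h4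
  · -- card N = 9
    have hNeq : N = P := Subgroup.eq_of_le_of_card_ge hNP (by rw [hP, hk']; norm_num)
    intro x hx
    have : x ∈ N := by rw [hNeq]; exact hx
    exact this.2

end Cfsg.Agent.Helper94.O2520
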