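import Mathlib
import Cfsg.Prelude.Def_Solvable
import Cfsg.Agent.Lib.Helper94.Solvable

set_option autoImplicit false

namespace Cfsg.Agent.Helper94

variable {G : Type*} [Group G]

/-- The join of two normal subgroups of order prime to `p` has order prime to `p`. -/
theorem coprime_card_sup [Finite G] (p : ℕ) (A B : Subgroup G) [hB : B.Normal]
    (hA : (Nat.card A).Coprime p) (hB' : (Nat.card B).Coprime p) :
    (Nat.card (A ⊔ B : Subgroup G)).Coprime p := by
  have h1 : Nat.card (B.subgroupOf (A ⊔ B)) * (B.subgroupOf (A ⊔ B)).index = Nat.card (A ⊔ B : Subgroup G) :=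
    Subgroup.card_mul_index _
  have h2 : Nat.card (B.subgroupOf (A ⊔ B)) = Nat.card B :=
    Nat.card_congr (Subgroup.subgroupOfEquivOfLe (le_sup_right : B ≤ A ⊔ B)).toEquiv
  have h3 : (B.subgroupOf (A ⊔ B)).index = B.relIndex A := Subgroup.relIndex_sup_right A B
  rw [h2, h3] at h1
  rw [← h1]
  apply Nat.Coprime.mul_left hB'
  exact Nat.Coprime.coprime_dvd_left (Subgroup.relIndex_dvd_card B A) hA

/-- `O_{p'}(G)` has order prime to `p` (finite `G`). -/
theorem pPrimeCore_card_coprime [Finite G] (p : ℕ) : (Nat.card (Cfsg.pPrimeCore p G)).Coprime p := by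
  classical
  have hfin : Set.Finite {N : Subgroup G | N.Normal ∧ (Nat.card N).Coprime p} := Set.toFinite _
  have h1 : Cfsg.pPrimeCore p G = hfin.toFinset.sup id := by
    rw [Finset.sup_id_eq_sSup, Set.Finite.coe_toFinset]
    rfl
  rw [h1]
  have key : ((hfin.toFinset.sup id : Subgroup G).Normal ∧
      (Nat.card (hfin.toFinset.sup id : Subgroup G)).Coprime p) := by
    apply Finset.sup_induction (p := fun N : Subgroup G => N.Normal ∧ (Nat.card N).Coprime p)
    · exact ⟨inferInstance, by simp⟩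
    · intro A hA B hB
      have := hA.1
      have := hB.1
      exact ⟨inferInstance, coprime_card_sup p A B hA.2 hB.2⟩
    · intro N hN
      exact (Set.Finite.mem_toFinset hfin).mp hN
  exact key.2

/-- `O_{p'}(G / O_{p'}(G)) = 1`. -/
theorem pPrimeCore_quotient_eq_bot [Finite G] (p : ℕ) :
    Cfsg.pPrimeCore p (G ⧸ Cfsg.pPrimeCore p G) = ⊥ := by
  rw [eq_bot_iff]
  apply sSup_le
  rintro M ⟨hMn, hMc⟩
  set N := Cfsg.pPrimeCore p G with hN
  set f := QuotientGroup.mk' N with hf
  have hsurj : Function.Surjective f := QuotientGroup.mk'_surjective N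
  -- the preimage
  have hcn : (M.comap f).Normal := inferInstance
  have hidx : (M.comap f).index = M.index := Subgroup.index_comap_of_surjective M hsurj
  have hc1 := (M.comap f).card_mul_index
  have hc2 := M.card_mul_index
  have hc3 : Nat.card G = Nat.card (G ⧸ N) * Nat.card N := Subgroup.card_eq_card_quotient_mul_card_subgroup N
  have hpos : 0 < M.index := Nat.pos_of_ne_zero (Subgroup.index_ne_zero_of_finite)
  have hcard : Nat.card (M.comap f) = Nat.card M * Nat.card N := by
    apply Nat.eq_of_mul_eq_mul_right hpos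
    rw [← hidx, hc1, hidx, hc3, ← hc2]
    ring
  have hcop : (Nat.card (M.comap f)).Coprime p := by
    rw [hcard]
    exact Nat.Coprime.mul_left hMc (pPrimeCore_card_coprime p)
  have hle : M.comap f ≤ N := le_sSup ⟨hcn, hcop⟩
  intro x hx
  obtain ⟨y, rfl⟩ := hsurj x
  have hy : y ∈ M.comap f := hx
  have := hle hy
  rw [Subgroup.mem_bot]
  exact (QuotientGroup.eq_one_iff y).mpr this

/-- A normal `p`-subgroup lies in every Sylow `p`-subgroup. -/
theorem normal_pGroup_le_sylow [Finite G] (p : ℕ) [Fact p.Prime] (N : Subgroup G) [hN : N.Normal]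
    (hp : IsPGroup p N) (P : Sylow p G) : N ≤ (P : Subgroup G) := by
  obtain ⟨Q, hQ⟩ := hp.exists_le_sylow
  obtain ⟨g, rfl⟩ := MulAction.exists_smul_eq G Q P
  intro x hx
  rw [Sylow.coe_subgroup_smul, Subgroup.mem_pointwise_smul_iff_inv_smul_mem]
  apply hQ
  have : (MulAut.conj g)⁻¹ • x = g⁻¹ * x * g⁻¹⁻¹ := by
    rw [← map_inv]; rfl
  rw [this]
  exact hN.conj_mem x hx g⁻¹

/-- `O_p(G)` lies in every Sylow `p`-subgroup. -/
theorem pCore_le_sylow [Finite G] (p : ℕ) [Fact p.Prime] (P : Sylow p G) :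
    Cfsg.pCore p G ≤ (P : Subgroup G) := by
  apply sSup_le
  rintro N ⟨hNn, hNp⟩
  exact normal_pGroup_le_sylow p N hNp P

/-- A finite solvable group with abelian Sylow `p`-subgroups has `p`-length one. -/
theorem abelian_sylow_sup_pPrimeCore_normal [Finite G] [Group.IsSolvable G]
    (p : ℕ) [Fact p.Prime] (P : Sylow p G) (hP : IsMulCommutative P) :
    ((P : Subgroup G) ⊔ Cfsg.pPrimeCore p G).Normal := by
  set N := Cfsg.pPrimeCore p G with hN
  set f := QuotientGroup.mk' N with hf
  have hsurj : Function.Surjective f := QuotientGroup.mk'_surjective N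
  have hsol : Group.IsSolvable (G ⧸ N) := inferInstance
  set Pbar : Sylow p (G ⧸ N) := P.mapSurjective hsurj with hPbar
  have hPbar_coe : (Pbar : Subgroup (G ⧸ N)) = (P : Subgroup G).map f := Sylow.coe_mapSurjective hsurj P
  have h1 : Cfsg.pCore p (G ⧸ N) ≤ (Pbar : Subgroup (G ⧸ N)) := pCore_le_sylow p Pbar
  have h2 : Subgroup.centralizer (Cfsg.pCore p (G ⧸ N) : Set (G ⧸ N)) ≤ Cfsg.pCore p (G ⧸ N) :=
    centralizer_pCore_le p (pPrimeCore_quotient_eq_bot p)
  -- Pbar is abelian, so centralizes the p-core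
  have h3 : (Pbar : Subgroup (G ⧸ N)) ≤ Subgroup.centralizer (Cfsg.pCore p (G ⧸ N) : Set (G ⧸ N)) := by
    intro x hx
    rw [Subgroup.mem_centralizer_iff]
    intro y hy
    have hy' : y ∈ (Pbar : Subgroup (G ⧸ N)) := h1 hy
    rw [hPbar_coe] at hx hy'
    obtain ⟨a, ha, rfl⟩ := hx
    obtain ⟨b, hb, rfl⟩ := hy'
    rw [← map_mul, ← map_mul]
    congr 1
    have := hP.is_comm.comm ⟨b, hb⟩ ⟨a, ha⟩
    exact congrArg Subtype.val this
  have h4 : (Pbar : Subgroup (G ⧸ N)) = Cfsg.pCore p (G ⧸ N) := le_antisymm (h3.trans h2) h1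
  have h5 : ((Pbar : Subgroup (G ⧸ N)).comap f).Normal := by
    rw [h4]; infer_instance
  have h6 : (Pbar : Subgroup (G ⧸ N)).comap f = (P : Subgroup G) ⊔ N := by
    rw [hPbar_coe, Subgroup.comap_map_eq, QuotientGroup.ker_mk']
  rw [← h6]
  exact h5

end Cfsg.Agent.Helper94
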