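import Mathlib
import Cfsg.Agent.Lib.Helper48.Pet.Defs

/-!
# Pet.Basic, SECOND HALF (piece (A) of helper48's PET server for S1472), by helper94

Same names and statements as in `tools/pet_stubs/Basic.lean.txt` (with `C` as first explicit
argument), in namespace `Cfsg.Agent.Helper94.Pet`; self-contained (imports only `Pet.Defs`): the
few first-half facts used are re-proved here with prefix `h94_`.
-/

set_option autoImplicit false

namespace Cfsg.Agent.Helper94.Pet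

open Cfsg.Agent.Helper48.Pet

variable {G : Type*} [Group G] {F : Type*} [Field F] {p q : ℕ}

theorem h94_val_one : val (1 : NN F p q) = 1 := by
  simp [val]

theorem h94_val_ne_zero (a : NN F p q) : val a ≠ 0 := Units.ne_zero _

theorem h94_val_injective : Function.Injective (val : NN F p q → F) := by
  intro a b h
  exact Subtype.ext (Units.ext h)

theorem h94_X_zero (C : Cfg G F p q) : C.X 0 = 1 := by
  have h := C.X_add 0 0
  rw [add_zero] at h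
  have h2 : C.X 0 * C.X 0 = C.X 0 * 1 := by rw [mul_one]; exact h.symm
  exact mul_left_cancel h2

theorem h94_X_neg (C : Cfg G F p q) (a : F) : C.X (-a) = (C.X a)⁻¹ := by
  apply eq_inv_of_mul_eq_one_left
  rw [← C.X_add, neg_add_cancel, h94_X_zero]

theorem h94_X_comm (C : Cfg G F p q) (a b : F) : C.X a * C.X b = C.X b * C.X a := by
  rw [← C.X_add, ← C.X_add, add_comm]

theorem h94_s_pow (C : Cfg G F p q) (n : ℕ) : C.s ^ n = C.X (n : F) := by
  induction n with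
  | zero => rw [pow_zero, Nat.cast_zero, h94_X_zero]
  | succ k ih =>
    rw [pow_succ, ih, Nat.cast_succ, C.X_add]
    rfl

theorem h94_s_zpow (C : Cfg G F p q) (k : ℤ) : C.s ^ k = C.X (k : F) := by
  obtain ⟨n, rfl | rfl⟩ := Int.eq_nat_or_neg k
  · rw [zpow_natCast, Int.cast_natCast, h94_s_pow]
  · rw [zpow_neg, zpow_natCast, Int.cast_neg, Int.cast_natCast, h94_X_neg, h94_s_pow]

theorem h94_cast_eq_iff (C : Cfg G F p q) (i j : ℤ) : (i : F) = (j : F) ↔ (p : ℤ) ∣ (i - j) := by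
  haveI := C.hchar
  rw [CharP.intCast_eq_intCast F p, Int.modEq_iff_dvd, dvd_sub_comm]

theorem h94_s_zpow_eq (C : Cfg G F p q) (i j : ℤ) (h : (i : F) = (j : F)) : C.s ^ i = C.s ^ j := by
  rw [h94_s_zpow, h94_s_zpow, h]

theorem r_X' (C : Cfg G F p q) (ν : NN F p q) (c : F) : C.r ν * C.X c = C.X (val ν * c) * C.r ν := by
  rw [← C.r_X ν c]
  group
theorem X_r (C : Cfg G F p q) (ν : NN F p q) (c : F) : C.X c * C.r ν = C.r ν * C.X ((val ν)⁻¹ * c) := by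
  rw [(r_X' C), mul_inv_cancel_left₀ (h94_val_ne_zero ν)]
/-- uniqueness of the decomposition `H = P U` -/
theorem X_r_inj (C : Cfg G F p q) {c c' : F} {ν ν' : NN F p q} (h : C.X c * C.r ν = C.X c' * C.r ν') : c = c' ∧ ν = ν' := by
  have h1 : C.X (-c' + c) = C.r (ν' * ν⁻¹) := by
    rw [C.X_add, (h94_X_neg C), map_mul, map_inv]
    have h2 : C.X c = C.X c' * C.r ν' * (C.r ν)⁻¹ := by
      rw [← h]
      group
    rw [h2]
    group
  have h2 := C.disj _ _ h1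
  have hc : c = c' := by linear_combination h2
  subst hc
  exact ⟨rfl, C.r_inj (mul_left_cancel h)⟩

/-- the multiplication formula in `H = P U` -/
theorem h94_mul_formula (C : Cfg G F p q) (c c' : F) (ν ν' : NN F p q) :
    C.X c * C.r ν * (C.X c' * C.r ν') = C.X (c + val ν * c') * C.r (ν * ν') := by
  rw [C.X_add, map_mul]
  calc C.X c * C.r ν * (C.X c' * C.r ν') = C.X c * (C.r ν * C.X c') * C.r ν' := by group
    _ = C.X c * (C.X (val ν * c') * C.r ν) * C.r ν' := by rw [(r_X' C)]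
    _ = C.X c * C.X (val ν * c') * (C.r ν * C.r ν') := by group
theorem one_mem_H (C : Cfg G F p q) : (1 : G) ∈ C.H := ⟨0, 1, by rw [(h94_X_zero C), map_one, mul_one]⟩
theorem mul_mem_H (C : Cfg G F p q) {g h : G} (hg : g ∈ C.H) (hh : h ∈ C.H) : g * h ∈ C.H := by
  obtain ⟨c, ν, rfl⟩ := hg
  obtain ⟨c', ν', rfl⟩ := hh
  exact ⟨c + val ν * c', ν * ν', (h94_mul_formula C) c c' ν ν'⟩
theorem inv_mem_H (C : Cfg G F p q) {g : G} (hg : g ∈ C.H) : g⁻¹ ∈ C.H := by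
  obtain ⟨c, ν, rfl⟩ := hg
  refine ⟨val ν⁻¹ * (-c), ν⁻¹, ?_⟩
  rw [← (r_X' C), map_inv, (h94_X_neg C)]
  group
theorem X_mem_H (C : Cfg G F p q) (c : F) : C.X c ∈ C.H := ⟨c, 1, by rw [map_one, mul_one]⟩
theorem r_mem_H (C : Cfg G F p q) (ν : NN F p q) : C.r ν ∈ C.H := ⟨0, ν, by rw [(h94_X_zero C), one_mul]⟩
theorem s_zpow_mem_H (C : Cfg G F p q) (i : ℤ) : C.s ^ i ∈ C.H := by
  rw [(h94_s_zpow C)]
  exact (X_mem_H C) _
theorem U_subset_H (C : Cfg G F p q) : C.U ⊆ C.H := by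
  rintro g ⟨ν, rfl⟩
  exact (r_mem_H C) ν
theorem one_mem_U (C : Cfg G F p q) : (1 : G) ∈ C.U := ⟨1, (map_one _).symm⟩
theorem mul_mem_U (C : Cfg G F p q) {g h : G} (hg : g ∈ C.U) (hh : h ∈ C.U) : g * h ∈ C.U := by
  obtain ⟨ν, rfl⟩ := hg
  obtain ⟨ν', rfl⟩ := hh
  exact ⟨ν * ν', (map_mul _ _ _).symm⟩
theorem inv_mem_U (C : Cfg G F p q) {g : G} (hg : g ∈ C.U) : g⁻¹ ∈ C.U := by
  obtain ⟨ν, rfl⟩ := hg
  exact ⟨ν⁻¹, (map_inv _ _).symm⟩
/-- `P ∩ U = 1` -/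
theorem X_mem_U_iff (C : Cfg G F p q) (c : F) : C.X c ∈ C.U ↔ c = 0 := by
  constructor
  · rintro ⟨ν, h⟩
    exact C.disj c ν h
  · rintro rfl
    rw [(h94_X_zero C)]
    exact (one_mem_U C)
/-- Frobenius action -/
theorem frob (C : Cfg G F p q) {ν : NN F p q} {c : F} (h : C.r ν * C.X c * (C.r ν)⁻¹ = C.X c) : ν = 1 ∨ c = 0 := by
  rw [C.r_X] at h
  have h1 : val ν * c = c := C.X_inj h
  have h2 : (val ν - 1) * c = 0 := by linear_combination h1
  rcases mul_eq_zero.1 h2 with h3 | h3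
  · left
    apply h94_val_injective
    rw [h94_val_one]
    linear_combination h3
  · right
    exact h3
/-- `H` normalises `P` -/
theorem conj_X_mem (C : Cfg G F p q) {g : G} (hg : g ∈ C.H) (c : F) : ∃ c' : F, g * C.X c * g⁻¹ = C.X c' := by
  obtain ⟨a, ν, rfl⟩ := hg
  refine ⟨val ν * c, ?_⟩
  calc C.X a * C.r ν * C.X c * (C.X a * C.r ν)⁻¹
      = C.X a * (C.r ν * C.X c * (C.r ν)⁻¹) * (C.X a)⁻¹ := by group
    _ = C.X a * C.X (val ν * c) * (C.X a)⁻¹ := by rw [C.r_X]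
    _ = C.X (val ν * c) := by rw [(h94_X_comm C), mul_inv_cancel_right]

/-- `p` is coprime to `n = (p^q-1)/(p-1)` -/
theorem h94_coprime_n (C : Cfg G F p q) : Nat.Coprime p ((p ^ q - 1) / (p - 1)) := by
  have hp := C.hp
  have hq := C.hq
  have h2 : 2 ≤ p := hp.two_le
  rw [← Nat.geomSum_eq h2 q]
  obtain ⟨k, hk⟩ : ∃ k, q = k + 1 := ⟨q - 1, (Nat.succ_pred_eq_of_pos hq.pos).symm⟩
  rw [hk, Finset.sum_range_succ', pow_zero]
  have h3 : ∑ i ∈ Finset.range k, p ^ (i + 1) = p * ∑ i ∈ Finset.range k, p ^ i := by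
    rw [Finset.mul_sum]
    exact Finset.sum_congr rfl (fun i _ => pow_succ' p i)
  rw [h3]
  have h4 : Nat.Coprime p (p * ∑ i ∈ Finset.range k, p ^ i + 1) := by
    rw [Nat.coprime_mul_left_add_right]
    exact Nat.coprime_one_right p
  exact h4

theorem h94_pow_formula (C : Cfg G F p q) (c : F) (ν : NN F p q) (k : ℕ) :
    ∃ c' : F, (C.X c * C.r ν) ^ k = C.X c' * C.r (ν ^ k) := by
  induction k with
  | zero => exact ⟨0, by rw [pow_zero, pow_zero, (h94_X_zero C), map_one, mul_one]⟩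
  | succ k ih =>
    obtain ⟨c', hc'⟩ := ih
    exact ⟨c' + val (ν ^ k) * c, by rw [pow_succ, hc', (h94_mul_formula C), pow_succ]⟩
/-- elements of `H` of order dividing `p` lie in `P` (uses `gcd(p, n) = 1`, `n ≡ 1 mod p`) -/
theorem mem_P_of_pow_p (C : Cfg G F p q) {g : G} (hg : g ∈ C.H) (h : g ^ p = 1) : ∃ c : F, g = C.X c := by
  obtain ⟨c, ν, rfl⟩ := hg
  obtain ⟨c', hc'⟩ := (h94_pow_formula C) c ν p
  rw [h] at hc'
  have h1 : C.X 0 * C.r 1 = C.X c' * C.r (ν ^ p) := by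
    rw [(h94_X_zero C), map_one, mul_one]
    exact hc'
  have h2 : (1 : NN F p q) = ν ^ p := ((X_r_inj C) h1).2
  have h3 : ν ^ ((p ^ q - 1) / (p - 1)) = 1 := by
    have := ν.2
    rw [mem_rootsOfUnity] at this
    exact Subtype.ext this
  have h4 : ν ^ Nat.gcd p ((p ^ q - 1) / (p - 1)) = 1 := pow_gcd_eq_one.2 ⟨h2.symm, h3⟩
  rw [(h94_coprime_n C), pow_one] at h4
  exact ⟨c, by rw [h4, map_one, mul_one]⟩
/-- a `p`-element of `Q` is trivial -/
theorem eq_one_of_mem_Q_of_pow_p (C : Cfg G F p q) {g : G} (hg : g ∈ C.Q) (h : g ^ p = 1) : g = 1 := by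
  have h1 : (⟨g, hg⟩ : C.Q) ^ p = 1 := Subtype.ext h
  have h2 : (⟨g, hg⟩ : C.Q) ^ Nat.card C.Q = 1 := pow_card_eq_one'
  have h3 : (⟨g, hg⟩ : C.Q) ^ Nat.gcd (Nat.card C.Q) p = 1 := pow_gcd_eq_one.2 ⟨h2, h1⟩
  have h4 : Nat.gcd (Nat.card C.Q) p = 1 := C.Q_cop
  rw [h4, pow_one] at h3
  exact congrArg Subtype.val h3

theorem h94_s_pow_conj (C : Cfg G F p q) (k : ℕ) {m : G} (hm : m ∈ C.Q) : C.s ^ k * m * (C.s ^ k)⁻¹ ∈ C.Q := by
  induction k with
  | zero => simpa using hm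
  | succ k ih =>
    have h1 := C.Q_norm _ ih
    have h2 : C.s ^ (k + 1) * m * (C.s ^ (k + 1))⁻¹ =
        C.X 1 * (C.s ^ k * m * (C.s ^ k)⁻¹) * (C.X 1)⁻¹ := by
      rw [pow_succ']
      show C.X 1 * C.s ^ k * m * (C.X 1 * C.s ^ k)⁻¹ = _
      group
    rw [h2]
    exact h1
/-- `s` normalises `Q` (all powers, both directions) -/
theorem s_zpow_conj_mem_Q (C : Cfg G F p q) (i : ℤ) {m : G} (hm : m ∈ C.Q) : C.s ^ i * m * C.s ^ (-i) ∈ C.Q := by
  have hp0 : (p : ℤ) ≠ 0 := by exact_mod_cast C.hp.ne_zero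
  have hk : ((i % (p : ℤ)).toNat : ℤ) = i % (p : ℤ) := Int.toNat_of_nonneg (Int.emod_nonneg _ hp0)
  have h1 : ((i : ℤ) : F) = (((i % (p : ℤ)).toNat : ℤ) : F) := by
    rw [(h94_cast_eq_iff C), hk]
    exact ⟨i / (p : ℤ), by have := Int.emod_add_mul_ediv i (p : ℤ); linarith⟩
  have h2 : C.s ^ i = C.s ^ (i % (p : ℤ)).toNat := by
    rw [(h94_s_zpow_eq C) i _ h1, zpow_natCast]
  rw [zpow_neg, h2]
  exact (h94_s_pow_conj C) _ hm
/-- `t s⁻¹ ∈ Q` -/
theorem q_mem_Q (C : Cfg G F p q) : C.t * C.s⁻¹ ∈ C.Q := by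
  have h1 := C.Q.mul_mem C.y_mem (C.Q_norm _ (C.Q.inv_mem C.y_mem))
  have h2 : C.t * C.s⁻¹ = C.y * (C.X 1 * C.y⁻¹ * (C.X 1)⁻¹) := by
    show C.y * C.X 1 * C.y⁻¹ * (C.X 1)⁻¹ = _
    group
  rw [h2]
  exact h1
theorem Q1_le_Q (C : Cfg G F p q) : C.Q1 ≤ C.Q := by
  unfold Cfg.Q1
  rw [Subgroup.closure_le]
  rintro m ⟨i, rfl⟩
  exact (s_zpow_conj_mem_Q C) i (q_mem_Q C)
/-- `s^i` does not normalise `U` unless `p ∣ i` -/
theorem s_zpow_not_norm_U (C : Cfg G F p q) (i : ℤ) (h : ∀ ν : NN F p q, C.s ^ i * C.r ν * C.s ^ (-i) ∈ C.U) : (i : F) = 0 := by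
  obtain ⟨ν, hν⟩ := C.nontriv
  obtain ⟨ν', hν'⟩ := h ν
  have h1 : C.s ^ i * C.r ν * C.s ^ (-i) = C.X ((i : F) + val ν * (-(i : F))) * C.r ν := by
    rw [zpow_neg, (h94_s_zpow C)]
    calc C.X (i : F) * C.r ν * (C.X (i : F))⁻¹ = C.X (i : F) * (C.r ν * C.X (-(i : F))) := by
          rw [(h94_X_neg C)]; group
      _ = C.X (i : F) * (C.X (val ν * (-(i : F))) * C.r ν) := by rw [(r_X' C)]
      _ = C.X ((i : F) + val ν * (-(i : F))) * C.r ν := by rw [C.X_add]; group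
  have h2 : C.X ((i : F) + val ν * (-(i : F))) * C.r ν = C.X 0 * C.r ν' := by
    rw [← h1, hν', (h94_X_zero C), one_mul]
  have h3 := ((X_r_inj C) h2).1
  have h4 : (1 - val ν) * (i : F) = 0 := by linear_combination h3
  rcases mul_eq_zero.1 h4 with h5 | h5
  · exfalso
    apply hν
    apply h94_val_injective
    rw [h94_val_one]
    linear_combination -h5
  · exact h5
theorem normQ1_one (C : Cfg G F p q) : C.NormQ1 1 := by
  intro m
  rw [one_mul, inv_one, mul_one]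
theorem normQ1_mul (C : Cfg G F p q) {g h : G} (hg : C.NormQ1 g) (hh : C.NormQ1 h) : C.NormQ1 (g * h) := by
  intro m
  rw [hh m, hg (h * m * h⁻¹)]
  have : g * (h * m * h⁻¹) * g⁻¹ = g * h * m * (g * h)⁻¹ := by group
  rw [this]
theorem normQ1_inv (C : Cfg G F p q) {g : G} (hg : C.NormQ1 g) : C.NormQ1 g⁻¹ := by
  intro m
  rw [hg (g⁻¹ * m * g⁻¹⁻¹)]
  have : g * (g⁻¹ * m * g⁻¹⁻¹) * g⁻¹ = m := by group
  rw [this]
theorem h94_normQ1_pow (C : Cfg G F p q) {g : G} (hg : C.NormQ1 g) (k : ℕ) : C.NormQ1 (g ^ k) := by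
  induction k with
  | zero => rw [pow_zero]; exact (normQ1_one C)
  | succ k ih => rw [pow_succ]; exact (normQ1_mul C) ih hg

theorem normQ1_zpow (C : Cfg G F p q) {g : G} (hg : C.NormQ1 g) (k : ℤ) : C.NormQ1 (g ^ k) := by
  obtain ⟨n, rfl | rfl⟩ := Int.eq_nat_or_neg k
  · rw [zpow_natCast]
    exact (h94_normQ1_pow C) hg n
  · rw [zpow_neg, zpow_natCast]
    exact (normQ1_inv C) ((h94_normQ1_pow C) hg n)


end Cfsg.Agent.Helper94.Pet
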