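import Mathlib

/-!
# REE server (helper36, S1069/S1091/S1073): piece CNT `card_rank_one`
-/

set_option autoImplicit false

namespace Cfsg.Agent.Helper94.REE

universe u

theorem card_rank_one {M : Type u} [Group M] (T B U : Subgroup M) [Finite ↥T] (hBT : B ≤ T) (hUT : U ≤ T)
    (n0 : M) (hn0T : n0 ∈ T)
    (hG : ∀ g ∈ T, g ∈ B ∨ ∃ b ∈ B, ∃ u ∈ U, g = b * n0 * u)
    (hdisj : ∀ b ∈ B, ∀ u ∈ U, b * n0 * u ∉ B)
    (hinj : ∀ u ∈ U, n0 * u * n0⁻¹ ∈ B → u = 1) :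
    Nat.card ↥T = Nat.card ↥B * (1 + Nat.card ↥U) := by
  haveI : Finite ↥B := Finite.of_injective (Subgroup.inclusion hBT) (Subgroup.inclusion_injective hBT)
  haveI : Finite ↥U := Finite.of_injective (Subgroup.inclusion hUT) (Subgroup.inclusion_injective hUT)
  let f : ↥B ⊕ (↥B × ↥U) → ↥T :=
    Sum.elim (fun b => ⟨b.1, hBT b.2⟩)
      (fun p => ⟨p.1.1 * n0 * p.2.1, T.mul_mem (T.mul_mem (hBT p.1.2) hn0T) (hUT p.2.2)⟩)
  have hf : Function.Bijective f := by
    constructor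
    · rintro (⟨b, hb⟩ | ⟨⟨b, hb⟩, ⟨u, hu⟩⟩) (⟨b', hb'⟩ | ⟨⟨b', hb'⟩, ⟨u', hu'⟩⟩) he
      · have he' : b = b' := congrArg Subtype.val he
        subst he'; rfl
      · exfalso
        have he' : b = b' * n0 * u' := congrArg Subtype.val he
        exact hdisj b' hb' u' hu' (he' ▸ hb)
      · exfalso
        have he' : b * n0 * u = b' := congrArg Subtype.val he
        exact hdisj b hb u hu (he'.symm ▸ hb')
      · have he' : b * n0 * u = b' * n0 * u' := congrArg Subtype.val he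
        have h1 : n0 * (u * u'⁻¹) * n0⁻¹ = b⁻¹ * b' := by
          have : b⁻¹ * (b * n0 * u) * u'⁻¹ * n0⁻¹ = b⁻¹ * (b' * n0 * u') * u'⁻¹ * n0⁻¹ := by rw [he']
          calc n0 * (u * u'⁻¹) * n0⁻¹ = b⁻¹ * (b * n0 * u) * u'⁻¹ * n0⁻¹ := by group
            _ = b⁻¹ * (b' * n0 * u') * u'⁻¹ * n0⁻¹ := this
            _ = b⁻¹ * b' := by group
        have h2 : u * u'⁻¹ = 1 := by
          apply hinj _ (U.mul_mem hu (U.inv_mem hu'))
          rw [h1]; exact B.mul_mem (B.inv_mem hb) hb'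
        have hu_eq : u = u' := mul_inv_eq_one.mp h2
        subst hu_eq
        have hb_eq : b = b' := by
          have := mul_right_cancel he'
          exact mul_right_cancel this
        subst hb_eq
        rfl
    · rintro ⟨g, hg⟩
      rcases hG g hg with hb | ⟨b, hb, u, hu, rfl⟩
      · exact ⟨Sum.inl ⟨g, hb⟩, rfl⟩
      · exact ⟨Sum.inr (⟨b, hb⟩, ⟨u, hu⟩), rfl⟩
  rw [← Nat.card_eq_of_bijective f hf, Nat.card_sum, Nat.card_prod]
  ring

end Cfsg.Agent.Helper94.REE
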