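import Mathlib

/-!
# REE server (helper36, S1069/S1091/S1073): piece SEMI `card_semidirect`
-/

set_option autoImplicit false

namespace Cfsg.Agent.Helper94.REE

universe u

theorem card_semidirect {M : Type u} [Group M] (B U H : Subgroup M) [Finite ↥B] (hUB : U ≤ B) (hHB : H ≤ B)
    (hdec : ∀ b ∈ B, ∃ u ∈ U, ∃ h ∈ H, b = u * h) (hUH : ∀ x ∈ U, x ∈ H → x = 1) :
    Nat.card ↥B = Nat.card ↥U * Nat.card ↥H := by
  let f : ↥U × ↥H → ↥B := fun p => ⟨p.1.1 * p.2.1, B.mul_mem (hUB p.1.2) (hHB p.2.2)⟩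
  have hf : Function.Bijective f := by
    constructor
    · rintro ⟨⟨u, hu⟩, ⟨h, hh⟩⟩ ⟨⟨u', hu'⟩, ⟨h', hh'⟩⟩ he
      have he' : u * h = u' * h' := congrArg Subtype.val he
      have h1 : u'⁻¹ * u = h' * h⁻¹ := by
        have : u'⁻¹ * (u * h) * h⁻¹ = u'⁻¹ * (u' * h') * h⁻¹ := by rw [he']
        calc u'⁻¹ * u = u'⁻¹ * (u * h) * h⁻¹ := by group
          _ = u'⁻¹ * (u' * h') * h⁻¹ := this
          _ = h' * h⁻¹ := by group
      have h2 : u'⁻¹ * u = 1 := by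
        apply hUH _ (U.mul_mem (U.inv_mem hu') hu)
        rw [h1]; exact H.mul_mem hh' (H.inv_mem hh)
      have hu_eq : u = u' := by
        have := inv_mul_eq_one.mp h2
        exact this.symm
      subst hu_eq
      have hh_eq : h = h' := mul_left_cancel he'
      subst hh_eq
      rfl
    · rintro ⟨b, hb⟩
      obtain ⟨u, hu, h, hh, rfl⟩ := hdec b hb
      exact ⟨(⟨u, hu⟩, ⟨h, hh⟩), rfl⟩
  rw [← Nat.card_eq_of_bijective f hf, Nat.card_prod]

end Cfsg.Agent.Helper94.REE
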