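import Mathlib
import Cfsg.Agent.Lib.Helper98.RT0
import Cfsg.Agent.Lib.Helper82.RUA

/-!
# RT server (helper98, S2278): piece K10 `e2_mem_W`
-/

set_option autoImplicit false

namespace Cfsg.Agent.Helper94.RT

open Matrix Cfsg.Agent.Helper93.RU Cfsg.Agent.Helper98.RT

variable {F : Type*} [Field F]

theorem h94_smul_eV_dot' (μ : F) (i j : Fin (0 + 3)) (hij : i ≠ j) :
    (μ • (eV i : Fin (0 + 3) → F)) ⬝ᵥ (eV j) = 0 := by
  unfold eV
  rw [smul_dotProduct, dotProduct_single, mul_one, Pi.single_eq_of_ne hij.symm, smul_zero]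

theorem e2_mem_W (H : Subgroup (G3 F)) (h21 : ∀ μ : F, tvS (eV 2) (μ • eV 1) ∈ H)
    (h20 : ∀ ν : F, tvS (eV 2) (ν • eV 0) ∈ H) : eV 2 ∈ Wset H := by
  intro φ hφ
  have h2 : φ 2 = 0 := by
    unfold eV at hφ
    rw [dotProduct_single, mul_one] at hφ
    exact hφ
  have hdec : φ = φ 0 • (eV 0 : Fin (0 + 3) → F) + φ 1 • eV 1 := by
    funext i
    fin_cases i
    · simp [eV]
    · simp [eV]
    · simp [eV, h2]
  rw [hdec, ← Cfsg.Agent.Helper82.RU.tvS_mul _ _ _ (h94_smul_eV_dot' (φ 0) 0 2 (by decide))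
    (h94_smul_eV_dot' (φ 1) 1 2 (by decide))]
  exact H.mul_mem (h20 _) (h21 _)

end Cfsg.Agent.Helper94.RT
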