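import Mathlib
import Cfsg.Agent.Lib.Helper98.RT0
import Cfsg.Agent.Lib.Helper82.RUA
import Cfsg.Agent.Lib.Helper78.RUD1
import Cfsg.Agent.Lib.Helper44.RUD2

/-!
# RT server (helper98, S2278): piece K11 `all_mem_W`
-/

set_option autoImplicit false

namespace Cfsg.Agent.Helper94.RT

open Matrix Cfsg.Agent.Helper93.RU Cfsg.Agent.Helper98.RT

variable {F : Type*} [Field F]

theorem h94_yEl_val (n w : F) : (yEl n w).1 = Ymat n w := by
  have hd : (Ymat n w).det = 1 := by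
    show (Ymat n w : Matrix (Fin 3) (Fin 3) F).det = 1
    rw [Matrix.det_fin_three]
    simp [Ymat]
    try ring
  simp [yEl, hd]

theorem all_mem_W (H : Subgroup (G3 F)) (n w : F) (hy : yEl n w ∈ H) (h2 : eV 2 ∈ Wset H)
    (k : Fin (0 + 3)) : eV k ∈ Wset H := by
  have hu1 : (yEl n w).1 *ᵥ (eV 2 : Fin (0 + 3) → F) ∈ Wset H :=
    Cfsg.Agent.Helper44.RU.W_conj H (yEl n w) hy _ h2
  have hu2 : (yEl n w).1 *ᵥ ((yEl n w).1 *ᵥ (eV 2 : Fin (0 + 3) → F)) ∈ Wset H :=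
    Cfsg.Agent.Helper44.RU.W_conj H (yEl n w) hy _ hu1
  have e1 : (yEl n w).1 *ᵥ (eV 2 : Fin (0 + 3) → F) = v3 0 1 w := by
    rw [h94_yEl_val]
    funext i
    fin_cases i <;> simp [Ymat, eV, v3, Matrix.mulVec, dotProduct, Fin.sum_univ_three]
  have e2 : (yEl n w).1 *ᵥ (v3 0 1 w : Fin (0 + 3) → F) = v3 1 3 (3 * w - n - 3) := by
    rw [h94_yEl_val]
    funext i
    fin_cases i <;> simp [Ymat, v3, Matrix.mulVec, dotProduct, Fin.sum_univ_three] <;> ring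
  rw [e1] at hu1 hu2
  rw [e2] at hu2
  -- e₁ = u₁ - w e₂
  have h1 : (eV 1 : Fin (0 + 3) → F) ∈ Wset H := by
    have : (eV 1 : Fin (0 + 3) → F) = v3 0 1 w + (-w) • (eV 2 : Fin (0 + 3) → F) := by
      funext i
      fin_cases i <;> simp [eV, v3]
    rw [this]
    exact Cfsg.Agent.Helper78.RU.W_add H _ _ hu1 (Cfsg.Agent.Helper44.RU.W_smul H _ _ h2)
  have h0 : (eV 0 : Fin (0 + 3) → F) ∈ Wset H := by
    have : (eV 0 : Fin (0 + 3) → F) = v3 1 3 (3 * w - n - 3) +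
        ((-3 : F) • (eV 1 : Fin (0 + 3) → F) + (-(3 * w - n - 3)) • (eV 2 : Fin (0 + 3) → F)) := by
      funext i
      fin_cases i <;> simp [eV, v3]
    rw [this]
    exact Cfsg.Agent.Helper78.RU.W_add H _ _ hu2
      (Cfsg.Agent.Helper78.RU.W_add H _ _ (Cfsg.Agent.Helper44.RU.W_smul H _ _ h1)
        (Cfsg.Agent.Helper44.RU.W_smul H _ _ h2))
  fin_cases k
  · exact h0
  · exact h1
  · exact h2

end Cfsg.Agent.Helper94.RT
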