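import Mathlib
import Cfsg.Agent.Lib.Helper98.RT0
import Cfsg.Agent.Lib.Helper82.RUA

/-!
# RT server (helper98, S2278): piece K7 `x21_scale`
-/

set_option autoImplicit false

namespace Cfsg.Agent.Helper94.RT

open Matrix Cfsg.Agent.Helper93.RU Cfsg.Agent.Helper98.RT

variable {F : Type*} [Field F]

/-- conjugation of a transvection, with the new axis given by solving `ψ ᵥ* g = φ` -/
theorem h94_conj (g : G3 F) (v φ ψ : Fin (0 + 3) → F) (hφ : φ ⬝ᵥ v = 0)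
    (hψ : ψ ᵥ* g.1 = φ) : g * tvS v φ * g⁻¹ = tvS (g.1 *ᵥ v) ψ := by
  have h := (Cfsg.Agent.Helper82.RU.tvS_conj g v φ hφ).2
  have hgg' : g.1 * (g⁻¹).1 = 1 := by
    rw [← Matrix.SpecialLinearGroup.coe_mul, mul_inv_cancel, Matrix.SpecialLinearGroup.coe_one]
  have : φ ᵥ* (g⁻¹).1 = ψ := by
    rw [← hψ, Matrix.vecMul_vecMul, hgg', Matrix.vecMul_one]
  rw [h, this]

theorem h94_zEl_val (ζ : F) (hζ : ζ ≠ 0) : (zEl ζ).1 = Zmat ζ := by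
  have hd : (Zmat ζ).det = 1 := by
    show (Zmat ζ : Matrix (Fin 3) (Fin 3) F).det = 1
    rw [Matrix.det_fin_three]
    simp [Zmat]
    field_simp
  simp [zEl, hd]

theorem x21_scale (H : Subgroup (G3 F)) (ζ μ : F) (hζ : ζ ≠ 0) (hz : zEl ζ ∈ H)
    (h : tvS (eV 2) (μ • eV 1) ∈ H) : tvS (eV 2) ((ζ ^ 3 * μ) • eV 1) ∈ H := by
  have hφ : ((ζ ^ 3 * μ) • (eV 1 : Fin (0 + 3) → F)) ⬝ᵥ (eV 2) = 0 := by
    unfold eV
    rw [smul_dotProduct, dotProduct_single, mul_one, Pi.single_eq_of_ne (by decide), smul_zero]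
  have hψ : ((ζ ^ 2 * μ) • (eV 1 : Fin (0 + 3) → F)) ᵥ* (zEl ζ).1 =
      (ζ ^ 3 * μ) • (eV 1 : Fin (0 + 3) → F) := by
    rw [h94_zEl_val ζ hζ]
    funext i
    fin_cases i <;>
      simp [Zmat, eV, Matrix.vecMul, dotProduct, Fin.sum_univ_three] <;> ring
  have hv : (zEl ζ).1 *ᵥ (eV 2 : Fin (0 + 3) → F) = (ζ ^ 2)⁻¹ • (eV 2 : Fin (0 + 3) → F) := by
    rw [h94_zEl_val ζ hζ]
    funext i
    fin_cases i <;>
      simp [Zmat, eV, Matrix.mulVec, dotProduct, Fin.sum_univ_three]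
  have hconj := h94_conj (zEl ζ) (eV 2) _ _ hφ hψ
  rw [hv, Cfsg.Agent.Helper82.RU.tvS_smul, smul_smul] at hconj
  have hμ : (ζ ^ 2)⁻¹ * (ζ ^ 2 * μ) = μ := by field_simp
  rw [hμ] at hconj
  -- hconj : z * T' * z⁻¹ = T
  have : tvS (eV 2) ((ζ ^ 3 * μ) • (eV 1 : Fin (0 + 3) → F)) =
      (zEl ζ)⁻¹ * tvS (eV 2) (μ • (eV 1 : Fin (0 + 3) → F)) * zEl ζ := by
    rw [← hconj]; group
  rw [this]
  exact H.mul_mem (H.mul_mem (H.inv_mem hz) h) hz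

end Cfsg.Agent.Helper94.RT
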