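import Mathlib
import Cfsg.Agent.Lib.Helper98.RT0
import Cfsg.Agent.Lib.Helper82.RUA

/-!
# RT server (helper98, S2278): piece K8 `x21_all`
-/

set_option autoImplicit false

namespace Cfsg.Agent.Helper94.RT

open Matrix Cfsg.Agent.Helper93.RU Cfsg.Agent.Helper98.RT

variable {F : Type*} [Field F]

theorem h94_smul_eV_dot (μ : F) (i j : Fin (0 + 3)) (hij : i ≠ j) :
    (μ • (eV i : Fin (0 + 3) → F)) ⬝ᵥ (eV j) = 0 := by
  unfold eV
  rw [smul_dotProduct, dotProduct_single, mul_one, Pi.single_eq_of_ne hij.symm, smul_zero]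

theorem x21_all (H : Subgroup (G3 F)) (ζ μ₀ : F) (hgen : Gen3 ζ) (hμ₀ : μ₀ ≠ 0)
    (h0 : tvS (eV 2) (μ₀ • eV 1) ∈ H)
    (hsc : ∀ μ : F, tvS (eV 2) (μ • eV 1) ∈ H → tvS (eV 2) ((ζ ^ 3 * μ) • eV 1) ∈ H) :
    ∀ μ : F, tvS (eV 2) (μ • eV 1) ∈ H := by
  have hd : ∀ μ : F, (μ • (eV 1 : Fin (0 + 3) → F)) ⬝ᵥ (eV 2) = 0 := fun μ =>
    h94_smul_eV_dot μ 1 2 (by decide)
  let M : AddSubgroup F :=
    { carrier := {μ | tvS (m := 0) (eV 2) (μ • eV 1) ∈ H}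
      zero_mem' := by
        show tvS (m := 0) (eV 2) ((0 : F) • eV 1) ∈ H
        rw [zero_smul, Cfsg.Agent.Helper82.RU.tvS_zero]
        exact H.one_mem
      add_mem' := by
        intro a b ha hb
        show tvS (m := 0) (eV 2) ((a + b) • eV 1) ∈ H
        rw [add_smul, ← Cfsg.Agent.Helper82.RU.tvS_mul _ _ _ (hd a) (hd b)]
        exact H.mul_mem ha hb
      neg_mem' := by
        intro a ha
        show tvS (m := 0) (eV 2) ((-a) • eV 1) ∈ H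
        rw [neg_smul, ← Cfsg.Agent.Helper82.RU.tvS_inv _ _ (hd a)]
        exact H.inv_mem ha }
  have hM : M = ⊤ := hgen M (fun μ hμ => hsc μ hμ) ⟨μ₀, h0, hμ₀⟩
  intro μ
  have : μ ∈ M := by rw [hM]; trivial
  exact this

end Cfsg.Agent.Helper94.RT
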