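import Mathlib
import Cfsg.Prelude.Def_RootSubgroups
import Cfsg.Agent.Lib.Helper94.RootComp2

set_option autoImplicit false

namespace Cfsg.Agent.Helper94

open Cfsg Cfsg.Agent.Helper83
open scoped commutatorElement

variable {G : Type*} [Group G] {S : Set (Subgroup G)}

/-- If `(B, B₁)` is a rank one pair, `P ≠ 1` commutes with `B` and some product `p b` of nontrivial
elements is a root element, then `P` does not commute with `B₁`. -/
theorem commutator_ne_bot_of_mul_mem (hS : IsRootSubgroupSet S) {B B₁ P : Subgroup G} (hB : B ∈ S)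
    (hB₁ : B₁ ∈ S) (hr : IsRankOnePair B B₁) (hPB : ⁅P, B⁆ = ⊥) {p b : G} (hp : p ∈ P)
    (hp1 : p ≠ 1) (hb : b ∈ B) (hb1 : b ≠ 1) (hpb : p * b ∈ rootElements S) : ⁅P, B₁⁆ ≠ ⊥ := by
  intro h1
  rw [Subgroup.commutator_eq_bot_iff_le_centralizer] at hPB h1
  have hz : p ∈ Subgroup.centralizer ((B ⊔ B₁ : Subgroup G) : Set G) := by
    have h2 : B ⊔ B₁ ≤ Subgroup.centralizer (P : Set G) :=
      sup_le (Subgroup.le_centralizer_iff.1 hPB) (Subgroup.le_centralizer_iff.1 h1)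
    exact (Subgroup.le_centralizer_iff.1 h2) hp
  exact root_central_translate hS hB hB₁ hr hz hp1 b hb hb1 hpb

/-- the elements `a * (b k b⁻¹)` centralize `B₁` -/
theorem special_aux (hS : IsRootSubgroupSet S) {A B B₁ : Subgroup G}
    (hAB : ⁅A, B⁆ = ⊥) {b y : G} (hb : b ∈ B)
    (hby : conjBy B y⁻¹ = conjBy B₁ b⁻¹) {a : G} (ha : a ∈ A) :
    a * (b * (a⁻¹ * y⁻¹ * a * y) * b⁻¹) ∈ Subgroup.centralizer (B₁ : Set G) := by
  rw [Subgroup.commutator_eq_bot_iff_le_centralizer] at hAB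
  -- `y⁻¹ a y` centralizes `conjBy B y⁻¹ = conjBy B₁ b⁻¹`
  have h1 : y⁻¹ * a * y⁻¹⁻¹ ∈ Subgroup.centralizer ((conjBy B y⁻¹ : Subgroup G) : Set G) := by
    rw [← conjBy_centralizer]
    exact conj_mem_conjBy (hAB ha)
  rw [hby] at h1
  have h2 : b * (y⁻¹ * a * y⁻¹⁻¹) * b⁻¹ ∈
      Subgroup.centralizer ((conjBy (conjBy B₁ b⁻¹) b : Subgroup G) : Set G) := by
    rw [← conjBy_centralizer]
    exact conj_mem_conjBy h1
  rw [conjBy_conjBy_inv] at h2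
  have hab : b * a = a * b := (commute_of_le_centralizer hAB ha hb).symm
  have e : a * (b * (a⁻¹ * y⁻¹ * a * y) * b⁻¹) = b * (y⁻¹ * a * y⁻¹⁻¹) * b⁻¹ := by
    calc a * (b * (a⁻¹ * y⁻¹ * a * y) * b⁻¹) = (a * b) * (a⁻¹ * y⁻¹ * a * y) * b⁻¹ := by group
      _ = (b * a) * (a⁻¹ * y⁻¹ * a * y) * b⁻¹ := by rw [hab]
      _ = b * (y⁻¹ * a * y⁻¹⁻¹) * b⁻¹ := by group
  rw [e]; exact h2

/-- If `(B, B₁)` is a rank one pair, `A` commutes with `B` and `K = ⁅A, B₁⁆ ∈ S`, then `(K, B)` is not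
a rank one pair. -/
theorem not_rankOne_commutator (hS : IsRootSubgroupSet S) {A B B₁ : Subgroup G} (hA : A ∈ S)
    (hB : B ∈ S) (hB₁ : B₁ ∈ S) (hr : IsRankOnePair B B₁) (hAB : ⁅A, B⁆ = ⊥)
    (hK : ⁅A, B₁⁆ ∈ S) : ¬ IsRankOnePair ⁅A, B₁⁆ B := by
  intro hr'
  have hcase := commutatorCase_of_mem hS hA hB₁ hK
  obtain ⟨b, hb, hb1⟩ := exists_mem_ne_one_of_ne_bot (hS.ne_bot B hB)
  obtain ⟨y, hy, hy1, hby⟩ := hr.cond_left b hb hb1
  have hy1' : y⁻¹ ≠ 1 := by simpa using hy1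
  -- every element of `conjBy K b` is `a⁻¹ c` with `a ∈ A`, `c ∈ C(B₁)`
  have hform : ∀ x ∈ conjBy ⁅A, B₁⁆ b, ∃ a ∈ A, a * x ∈ Subgroup.centralizer (B₁ : Set G) := by
    intro x hx
    rw [mem_conjBy] at hx
    obtain ⟨a', ha', hak⟩ := commutatorCase_surj_left hcase (B₁.inv_mem hy) hy1' _ hx
    refine ⟨a'⁻¹, A.inv_mem ha', ?_⟩
    have := special_aux hS hAB hb hby (A.inv_mem ha')
    have e : a'⁻¹⁻¹ * y⁻¹ * a'⁻¹ * y = b⁻¹ * x * b := by
      rw [← hak]; group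
    rw [e] at this
    have e2 : b * (b⁻¹ * x * b) * b⁻¹ = x := by group
    rwa [e2] at this
  have hcomEq : ∀ x ∈ conjBy ⁅A, B₁⁆ b, ∀ a ∈ A, a * x ∈ Subgroup.centralizer (B₁ : Set G) →
      ∀ v ∈ B₁, x * v * x⁻¹ * v⁻¹ = a⁻¹ * v * a⁻¹⁻¹ * v⁻¹ := by
    intro x _ a _ hax v hv
    rw [Subgroup.mem_centralizer_iff] at hax
    have h1 := hax v hv
    have h2 : x * v * x⁻¹ = a⁻¹ * ((a * x) * v) * x⁻¹ := by group
    rw [h2, ← h1]; group
  -- `⁅conjBy K b, B₁⁆ = K`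
  have hEq : ⁅conjBy ⁅A, B₁⁆ b, B₁⁆ = ⁅A, B₁⁆ := by
    apply le_antisymm
    · rw [Subgroup.commutator_le]
      intro x hx v hv
      obtain ⟨a, ha, hax⟩ := hform x hx
      rw [commutatorElement_def, hcomEq x hx a ha hax v hv]
      exact commutatorElement_mem_commutator' (A.inv_mem ha) hv
    · rw [Subgroup.commutator_le]
      intro a ha v hv
      have hx : b * (a * y⁻¹ * a⁻¹ * y⁻¹⁻¹) * b⁻¹ ∈ conjBy ⁅A, B₁⁆ b :=
        conj_mem_conjBy (commutatorElement_mem_commutator' ha (B₁.inv_mem hy))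
      have hax := special_aux hS hAB hb hby (A.inv_mem ha)
      have e : b * (a⁻¹⁻¹ * y⁻¹ * a⁻¹ * y) * b⁻¹ = b * (a * y⁻¹ * a⁻¹ * y⁻¹⁻¹) * b⁻¹ := by group
      rw [e] at hax
      have h3 := hcomEq _ hx a⁻¹ (A.inv_mem ha) hax v hv
      have e2 : a * v * a⁻¹ * v⁻¹ = b * (a * y⁻¹ * a⁻¹ * y⁻¹⁻¹) * b⁻¹ * v *
          (b * (a * y⁻¹ * a⁻¹ * y⁻¹⁻¹) * b⁻¹)⁻¹ * v⁻¹ := by
        rw [h3]; group
      rw [commutatorElement_def, e2]
      exact commutatorElement_mem_commutator' hx hv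
  have hK'S : conjBy ⁅A, B₁⁆ b ∈ S := hS.conj_mem _ hK b
  have hcase' : RootCommutatorCase S (conjBy ⁅A, B₁⁆ b) B₁ :=
    commutatorCase_of_mem hS hK'S hB₁ (by rw [hEq]; exact hK)
  have hcent : ⁅A, B₁⁆ ≤ Subgroup.centralizer ((conjBy ⁅A, B₁⁆ b : Subgroup G) : Set G) := by
    have := commutatorCase_le_centralizer_left hcase'
    rwa [hEq] at this
  have hne : ⁅A, B₁⁆ ≠ conjBy ⁅A, B₁⁆ b := by
    intro h1
    exact hb1 (rankOne_eq_one_of_normalizes (RankOnePair_symm hr') hb h1.symm)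
  have hr'' := isRankOnePair_of_mem hr' (left_mem_unipotentSubgroups _ B)
    (⟨b, Subgroup.mem_sup_right hb, rfl⟩ : conjBy ⁅A, B₁⁆ b ∈ unipotentSubgroups ⁅A, B₁⁆ B) hne
  exact rankOne_not_le_centralizer hr'' hcent


theorem mem_centralizer_sup {X₁ X₂ : Subgroup G} {z : G}
    (h1 : z ∈ Subgroup.centralizer (X₁ : Set G)) (h2 : z ∈ Subgroup.centralizer (X₂ : Set G)) :
    z ∈ Subgroup.centralizer ((X₁ ⊔ X₂ : Subgroup G) : Set G) := by
  have h3 : X₁ ⊔ X₂ ≤ Subgroup.centralizer ({z} : Set G) := by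
    apply sup_le
    · intro x hx
      rw [Subgroup.mem_centralizer_iff]
      intro w hw
      rw [Set.mem_singleton_iff] at hw; subst hw
      rw [Subgroup.mem_centralizer_iff] at h1
      exact (h1 x hx).symm
    · intro x hx
      rw [Subgroup.mem_centralizer_iff]
      intro w hw
      rw [Set.mem_singleton_iff] at hw; subst hw
      rw [Subgroup.mem_centralizer_iff] at h2
      exact (h2 x hx).symm
  rw [Subgroup.mem_centralizer_iff]
  intro x hx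
  have := h3 hx
  rw [Subgroup.mem_centralizer_iff] at this
  exact (this z rfl).symm

/-- If `(B, B₁)` is a rank one pair, `A` (a TI member) commutes with `B`, all products of nontrivial
elements of `A` and `B` are root elements and `K = ⁅A, B₁⁆ ∈ S`, then `⁅K, B⁆ = A`. -/
theorem commutator_commutator_eq (hS : IsRootSubgroupSet S) {A B B₁ : Subgroup G} (hA : A ∈ S)
    (hB : B ∈ S) (hB₁ : B₁ ∈ S) (hr : IsRankOnePair B B₁) (hAB : ⁅A, B⁆ = ⊥)
    (hK : ⁅A, B₁⁆ ∈ S) (hti : ∀ E ∈ S, A ⊓ E = ⊥ ∨ A = E)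
    (hprod : ∀ a ∈ A, a ≠ 1 → ∀ b ∈ B, b ≠ 1 → a * b ∈ rootElements S) :
    ⁅⁅A, B₁⁆, B⁆ = A := by
  have hcase := commutatorCase_of_mem hS hA hB₁ hK
  have hK' : ⁅B₁, A⁆ ∈ S := by rw [Subgroup.commutator_comm]; exact hK
  have hKB_ne : ⁅⁅A, B₁⁆, B⁆ ≠ ⊥ := by
    have := commutator_ne_bot_of_rankOne hS hB₁ hA hB (RankOnePair_symm hr) hK'
    rwa [Subgroup.commutator_comm B₁ A] at this
  have hcaseKB : RootCommutatorCase S ⁅A, B₁⁆ B := by
    rcases hS.pair _ hK B hB with h1 | h1 | h1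
    · exact absurd h1 hKB_ne
    · exact absurd h1 (not_rankOne_commutator hS hA hB hB₁ hr hAB hK)
    · exact h1
  have hM := hcaseKB.1
  have hM' : ⁅B, ⁅A, B₁⁆⁆ ∈ S := by rw [Subgroup.commutator_comm]; exact hM
  have hL := lineConfig_of_rankOne hS hB hK hB₁ hr hM'
  have hL₁ := lineConfig_of_rankOne hS hB₁ hA hB (RankOnePair_symm hr) hK'
  have hMeq : ⁅B, ⁅A, B₁⁆⁆ = ⁅⁅A, B₁⁆, B⁆ := Subgroup.commutator_comm _ _
  obtain ⟨b, hb, hb1⟩ := exists_mem_ne_one_of_ne_bot (hS.ne_bot B hB)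
  obtain ⟨y, hy, hy1, hby⟩ := hr.cond_left b hb hb1
  obtain ⟨a, ha, ha1⟩ := exists_mem_ne_one_of_ne_bot (hS.ne_bot A hA)
  have hAB' := hAB
  rw [Subgroup.commutator_eq_bot_iff_le_centralizer] at hAB'
  have hk : a⁻¹ * y⁻¹ * a * y ∈ ⁅A, B₁⁆ := by
    have := commutatorElement_mem_commutator' (A := A) (B := B₁) (A.inv_mem ha) (B₁.inv_mem hy)
    simpa using this
  have hm : (a⁻¹ * y⁻¹ * a * y)⁻¹ * b * (a⁻¹ * y⁻¹ * a * y) * b⁻¹ ∈ ⁅⁅A, B₁⁆, B⁆ := by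
    have := commutatorElement_mem_commutator' (A := ⁅A, B₁⁆) (B := B) (Subgroup.inv_mem _ hk) hb
    simpa using this
  have hk1 : a⁻¹ * y⁻¹ * a * y ≠ 1 := by
    intro h1
    apply ha1
    apply hL₁.ct y hy hy1 a ha
    have e : y * a = a * y * (a⁻¹ * y⁻¹ * a * y)⁻¹ := by group
    rw [e, h1, inv_one, mul_one]
  have hm1 : (a⁻¹ * y⁻¹ * a * y)⁻¹ * b * (a⁻¹ * y⁻¹ * a * y) * b⁻¹ ≠ 1 := by
    intro h1
    apply hk1
    apply hL.ct b hb hb1 _ hk
    have e : b * (a⁻¹ * y⁻¹ * a * y) = (a⁻¹ * y⁻¹ * a * y) *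
        ((a⁻¹ * y⁻¹ * a * y)⁻¹ * b * (a⁻¹ * y⁻¹ * a * y) * b⁻¹) * b := by group
    rw [e, h1, mul_one]
  generalize hkdef : a⁻¹ * y⁻¹ * a * y = k at hk hm hk1 hm1
  generalize hmdef : k⁻¹ * b * k * b⁻¹ = m at hm hm1
  have hak : k * a = a * k := hcase.2.1 k hk a (Subgroup.mem_sup_left ha)
  have hz₁ : a * m ∈ Subgroup.centralizer (B₁ : Set G) := by
    have h1 := special_aux hS hAB hb hby ha
    rw [hkdef] at h1
    have hkc : k⁻¹ ∈ Subgroup.centralizer (B₁ : Set G) :=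
      Subgroup.inv_mem _ (commutatorCase_le_centralizer_right hcase hk)
    have h2 := Subgroup.mul_mem _ hkc h1
    have e : k⁻¹ * (a * (b * k * b⁻¹)) = a * m := by
      rw [← hmdef]
      calc k⁻¹ * (a * (b * k * b⁻¹)) = k⁻¹ * (a * k) * (k⁻¹ * b * k * b⁻¹) := by group
        _ = k⁻¹ * (k * a) * (k⁻¹ * b * k * b⁻¹) := by rw [hak]
        _ = a * (k⁻¹ * b * k * b⁻¹) := by group
    rwa [e] at h2
  have hz₂ : a * m ∈ Subgroup.centralizer (B : Set G) :=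
    Subgroup.mul_mem _ (hAB' ha) (commutatorCase_le_centralizer_right hcaseKB hm)
  by_cases hz1 : a * m = 1
  · have hma : m = a⁻¹ := eq_inv_of_mul_eq_one_right hz1
    rcases hti _ hM with h1 | h1
    · exfalso
      have : m ∈ A ⊓ ⁅⁅A, B₁⁆, B⁆ := Subgroup.mem_inf.2 ⟨by rw [hma]; exact A.inv_mem ha, hm⟩
      rw [h1, Subgroup.mem_bot] at this
      exact hm1 this
    · exact h1.symm
  · exfalso
    have hxN : m⁻¹ * b ∈ B ⊔ ⁅B, ⁅A, B₁⁆⁆ :=
      Subgroup.mul_mem _ (Subgroup.mem_sup_right (by rw [hMeq]; exact Subgroup.inv_mem _ hm))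
        (Subgroup.mem_sup_left hb)
    have hxM : m⁻¹ * b ∉ ⁅B, ⁅A, B₁⁆⁆ := by
      intro h1
      rw [hMeq] at h1
      have h2 := Subgroup.mul_mem _ hm h1
      rw [mul_inv_cancel_left] at h2
      have : b ∈ B ⊓ ⁅B, ⁅A, B₁⁆⁆ := Subgroup.mem_inf.2 ⟨hb, by rw [hMeq]; exact h2⟩
      rw [hL.inf_AC, Subgroup.mem_bot] at this
      exact hb1 this
    obtain ⟨k', hk', hxk'⟩ := hL.cover hxN hxM
    have hk'a : k' * a = a * k' := hcase.2.1 k' hk' a (Subgroup.mem_sup_left ha)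
    have hmk' : m * k' = k' * m := hcaseKB.2.1 m hm k' (Subgroup.mem_sup_left hk')
    have hzk' : k' * (a * m) * k'⁻¹ = a * m := by
      calc k' * (a * m) * k'⁻¹ = (k' * a) * (m * k'⁻¹) := by group
        _ = (a * k') * (m * k'⁻¹) := by rw [hk'a]
        _ = a * (k' * m) * k'⁻¹ := by group
        _ = a * (m * k') * k'⁻¹ := by rw [hmk']
        _ = a * m := by group
    have hz₃ : a * m ∈ Subgroup.centralizer ((conjBy B k' : Subgroup G) : Set G) := by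
      rw [← conjBy_centralizer, ← hzk']
      exact conj_mem_conjBy hz₂
    have hk'c : k' ∈ Subgroup.centralizer (B₁ : Set G) :=
      commutatorCase_le_centralizer_right hcase hk'
    have hr'' : IsRankOnePair (conjBy B k') B₁ := by
      have := isRankOnePair_conjBy hr k'
      rwa [conjBy_eq_self_of_mem_centralizer hk'c] at this
    have hx1 : m⁻¹ * b ≠ 1 := by
      intro h1
      apply hxM
      rw [h1]; exact Subgroup.one_mem _
    have := root_central_translate hS (hS.conj_mem B hB k') hB₁ hr'' (mem_centralizer_sup hz₃ hz₁)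
      hz1 (m⁻¹ * b) hxk' hx1
    apply this
    have e : a * m * (m⁻¹ * b) = a * b := by group
    rw [e]
    exact hprod a ha ha1 b hb hb1

end Cfsg.Agent.Helper94
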