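import Mathlib
import Cfsg.Prelude.Def_RootSubgroups
import Cfsg.Agent.Lib.Helper94.RootSpecial

set_option autoImplicit false

namespace Cfsg.Agent.Helper94

open Cfsg Cfsg.Agent.Helper83
open scoped commutatorElement

variable {G : Type*} [Group G] {S : Set (Subgroup G)}

/-- An abelian subgroup `N` all of whose nontrivial elements lie in members of `S` inside `N`, in a set
of abstract root subgroups where every member has a rank one partner. -/
structure LineCtx (S : Set (Subgroup G)) (N : Subgroup G) : Prop where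
  hS : IsRootSubgroupSet S
  hall : ∀ E ∈ S, ∃ E₁ ∈ S, IsRankOnePair E E₁
  comm : ∀ x ∈ N, ∀ y ∈ N, x * y = y * x
  cover : ∀ x ∈ N, x ≠ 1 → ∃ E ∈ S, E ≤ N ∧ x ∈ E

namespace LineCtx

variable {N : Subgroup G}

theorem ti (h : LineCtx S N) {E F : Subgroup G} (hE : E ∈ S) (hF : F ∈ S) : E ⊓ F = ⊥ ∨ E = F := by
  obtain ⟨E₁, hE₁, hr⟩ := h.hall E hE
  exact root_inf_eq_bot_or_eq h.hS hE hE₁ hr F hF

theorem comm_points (h : LineCtx S N) {P Q : Subgroup G} (hP : P ≤ N) (hQ : Q ≤ N) :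
    ⁅P, Q⁆ = ⊥ := by
  rw [Subgroup.commutator_eq_bot_iff_le_centralizer]
  exact le_centralizer_of_commute (fun p hp q hq => h.comm p (hP hp) q (hQ hq))

theorem prod_root (h : LineCtx S N) {P Q : Subgroup G} (hPS : P ∈ S) (hQS : Q ∈ S) (hP : P ≤ N)
    (hQ : Q ≤ N) (hne : P ≠ Q) {p q : G} (hp : p ∈ P) (hp1 : p ≠ 1) (hq : q ∈ Q) (_hq1 : q ≠ 1) :
    p * q ∈ rootElements S := by
  have hpq1 : p * q ≠ 1 := by
    intro h1
    have hpinv : p = q⁻¹ := eq_inv_of_mul_eq_one_left h1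
    have hmem : p ∈ P ⊓ Q := Subgroup.mem_inf.2 ⟨hp, by rw [hpinv]; exact Q.inv_mem hq⟩
    rcases h.ti hPS hQS with h2 | h2
    · rw [h2, Subgroup.mem_bot] at hmem
      exact hp1 hmem
    · exact hne h2
  obtain ⟨E, hE, _, hxE⟩ := h.cover (p * q) (N.mul_mem (hP hp) (hQ hq)) hpq1
  exact ⟨hpq1, E, hE, hxE⟩

/-- a point other than `Q` does not commute with a rank one partner of `Q` -/
theorem ne_bot_partner (h : LineCtx S N) {P Q Q₁ : Subgroup G} (hPS : P ∈ S) (hQS : Q ∈ S)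
    (hP : P ≤ N) (hQ : Q ≤ N) (hne : P ≠ Q) (hQ₁ : Q₁ ∈ S) (hr : IsRankOnePair Q Q₁) :
    ⁅P, Q₁⁆ ≠ ⊥ := by
  obtain ⟨p, hp, hp1⟩ := exists_mem_ne_one_of_ne_bot (h.hS.ne_bot P hPS)
  obtain ⟨q, hq, hq1⟩ := exists_mem_ne_one_of_ne_bot (h.hS.ne_bot Q hQS)
  exact commutator_ne_bot_of_mul_mem h.hS hQS hQ₁ hr (h.comm_points hP hQ) hp hp1 hq hq1
    (h.prod_root hPS hQS hP hQ hne hp hp1 hq hq1)

/-- a special point `P` for `Q₁ ∈ Ω_Q`: then `⁅⁅P, Q₁⁆, Q⁆ = P` -/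
theorem special_eq (h : LineCtx S N) {P Q Q₁ : Subgroup G} (hPS : P ∈ S) (hQS : Q ∈ S)
    (hP : P ≤ N) (hQ : Q ≤ N) (hne : P ≠ Q) (hQ₁ : Q₁ ∈ S) (hr : IsRankOnePair Q Q₁)
    (hK : ⁅P, Q₁⁆ ∈ S) : ⁅⁅P, Q₁⁆, Q⁆ = P :=
  commutator_commutator_eq h.hS hPS hQS hQ₁ hr (h.comm_points hP hQ) hK
    (fun _ hE => h.ti hPS hE)
    (fun _ hp hp1 _ hq hq1 => h.prod_root hPS hQS hP hQ hne hp hp1 hq hq1)

theorem special_lineConfig (h : LineCtx S N) {P Q Q₁ : Subgroup G} (hPS : P ∈ S) (hQS : Q ∈ S)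
    (hP : P ≤ N) (hQ : Q ≤ N) (hne : P ≠ Q) (hQ₁ : Q₁ ∈ S) (hr : IsRankOnePair Q Q₁)
    (hK : ⁅P, Q₁⁆ ∈ S) : LineConfig S Q ⁅P, Q₁⁆ P := by
  have h1 := h.special_eq hPS hQS hP hQ hne hQ₁ hr hK
  have h2 : ⁅Q, ⁅P, Q₁⁆⁆ = P := by rw [Subgroup.commutator_comm]; exact h1
  have h3 := lineConfig_of_rankOne h.hS hQS hK hQ₁ hr (by rw [h2]; exact hPS)
  rwa [h2] at h3

theorem special_membersIn (h : LineCtx S N) {P Q Q₁ : Subgroup G} (hPS : P ∈ S) (hQS : Q ∈ S)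
    (hP : P ≤ N) (hQ : Q ≤ N) (hne : P ≠ Q) (hQ₁ : Q₁ ∈ S) (hr : IsRankOnePair Q Q₁)
    (hK : ⁅P, Q₁⁆ ∈ S) : membersIn S (Q ⊔ P) = OppConfig.fam Q ⁅P, Q₁⁆ P := by
  have h1 := h.special_eq hPS hQS hP hQ hne hQ₁ hr hK
  have h2 : ⁅Q, ⁅P, Q₁⁆⁆ = P := by rw [Subgroup.commutator_comm]; exact h1
  have h3 := membersIn_eq_fam h.hS hQS hK hQ₁ hr (by rw [h2]; exact hPS)
  rwa [h2] at h3

/-- the conjugates of `Q` under `K = ⁅P, Q₁⁆` are opposite `Q₁` -/
theorem special_conj_rankOne {P Q Q₁ : Subgroup G} (hr : IsRankOnePair Q Q₁)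
    (hcase : RootCommutatorCase S P Q₁) {k : G} (hk : k ∈ ⁅P, Q₁⁆) :
    IsRankOnePair (conjBy Q k) Q₁ := by
  have := isRankOnePair_conjBy hr k
  rwa [conjBy_eq_self_of_mem_centralizer (commutatorCase_le_centralizer_right hcase hk)] at this

/-- If both `P` and `Q` are opposite `Q₁`, some point other than `Q` is special for `Q₁`. -/
theorem exists_special (h : LineCtx S N) {P Q Q₁ : Subgroup G} (hPS : P ∈ S) (hQS : Q ∈ S)
    (hP : P ≤ N) (hQ : Q ≤ N) (hne : P ≠ Q) (hQ₁ : Q₁ ∈ S) (hr : IsRankOnePair Q Q₁)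
    (hrP : IsRankOnePair P Q₁) : ∃ T ∈ S, T ≤ N ∧ T ≠ Q ∧ ⁅T, Q₁⁆ ∈ S := by
  obtain ⟨p, hp, hp1⟩ := exists_mem_ne_one_of_ne_bot (h.hS.ne_bot P hPS)
  obtain ⟨y, hy, hy1, hpy⟩ := hrP.cond_left p hp hp1
  obtain ⟨q, hq, hq1, hqy⟩ := hr.cond_right y hy hy1
  -- `conjBy Q₁ p⁻¹` centralizes `conjBy Q₁ q⁻¹`
  have h1 : conjBy P y⁻¹ ≤ Subgroup.centralizer ((conjBy Q y⁻¹ : Subgroup G) : Set G) := by
    rw [← conjBy_centralizer]
    apply conjBy_mono
    have := h.comm_points hP hQ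
    rwa [Subgroup.commutator_eq_bot_iff_le_centralizer] at this
  rw [hpy, ← hqy] at h1
  have h2 : conjBy Q₁ (q * p⁻¹) ≤ Subgroup.centralizer (Q₁ : Set G) := by
    have := conjBy_mono h1 q
    rwa [conjBy_conjBy, ← conjBy_centralizer, conjBy_conjBy_inv] at this
  have he1 : q * p⁻¹ ≠ 1 := by
    intro h3
    have hqp : q = p := by
      have := mul_inv_eq_one.1 h3
      exact this
    have hmem : p ∈ P ⊓ Q := Subgroup.mem_inf.2 ⟨hp, by rw [← hqp]; exact hq⟩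
    rcases h.ti hPS hQS with h4 | h4
    · rw [h4, Subgroup.mem_bot] at hmem
      exact hp1 hmem
    · exact hne h4
  obtain ⟨T, hTS, hTN, heT⟩ := h.cover (q * p⁻¹) (N.mul_mem (hQ hq) (N.inv_mem (hP hp))) he1
  have hTQ : T ≠ Q := by
    intro h3
    rw [h3] at heT
    have h4 : p⁻¹ ∈ Q := by
      have := Q.mul_mem (Q.inv_mem hq) heT
      rwa [inv_mul_cancel_left] at this
    have hmem : p ∈ P ⊓ Q := Subgroup.mem_inf.2 ⟨hp, by simpa using Q.inv_mem h4⟩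
    rcases h.ti hPS hQS with h5 | h5
    · rw [h5, Subgroup.mem_bot] at hmem
      exact hp1 hmem
    · exact hne h5
  refine ⟨T, hTS, hTN, hTQ, ?_⟩
  rcases h.hS.pair T hTS Q₁ hQ₁ with h3 | h3 | h3
  · exact absurd h3 (h.ne_bot_partner hTS hQS hTN hQ hTQ hQ₁ hr)
  · exfalso
    have hne' : Q₁ ≠ conjBy Q₁ (q * p⁻¹) := by
      intro h4
      exact he1 (rankOne_eq_one_of_normalizes h3 heT h4.symm)
    have hr'' := isRankOnePair_of_mem (RankOnePair_symm h3) (left_mem_unipotentSubgroups Q₁ T)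
      (⟨q * p⁻¹, Subgroup.mem_sup_right heT, rfl⟩ :
        conjBy Q₁ (q * p⁻¹) ∈ unipotentSubgroups Q₁ T) hne'
    exact rankOne_not_le_centralizer hr'' (Subgroup.le_centralizer_iff.1 h2)
  · exact h3.1


/-- If `A` and `B` are both opposite `B₁` and `T ≠ B` is special for `B₁`, then `A ≤ B ⊔ T`. -/
theorem le_sup_special (h : LineCtx S N) {A B B₁ T : Subgroup G} (hAS : A ∈ S) (hBS : B ∈ S)
    (hA : A ≤ N) (hB : B ≤ N) (hN : N ≤ A ⊔ B) (hAB : A ≠ B) (hB₁ : B₁ ∈ S)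
    (hrB : IsRankOnePair B B₁) (hrA : IsRankOnePair A B₁) (hTS : T ∈ S) (hT : T ≤ N) (hTB : T ≠ B)
    (hK : ⁅T, B₁⁆ ∈ S) : A ≤ B ⊔ T := by
  have hTA : T ≠ A := by
    intro heq
    rw [heq] at hK
    exact rankOne_commutator_not_mem h.hS hAS hB₁ hrA hK
  have hLB := h.special_lineConfig hTS hBS hT hB hTB hB₁ hrB hK
  have hLA := h.special_lineConfig hTS hAS hT hA hTA hB₁ hrA hK
  have hinfAB : A ⊓ B = ⊥ := by
    rcases h.ti hAS hBS with h1 | h1
    · exact h1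
    · exact absurd h1 hAB
  obtain ⟨k, hk, hk1⟩ := exists_mem_ne_one_of_ne_bot (h.hS.ne_bot _ hK)
  intro a ha
  by_cases ha1 : a = 1
  · rw [ha1]; exact Subgroup.one_mem _
  obtain ⟨b, hb, hbk⟩ := hLB.surj_b hk hk1 (hLA.comm_mem_C ha hk)
  have hbk' : b * k * b⁻¹ = a * k * a⁻¹ := mul_right_cancel hbk
  have hek : (a⁻¹ * b) * k = k * (a⁻¹ * b) := by
    calc (a⁻¹ * b) * k = a⁻¹ * (b * k * b⁻¹) * b := by group
      _ = a⁻¹ * (a * k * a⁻¹) * b := by rw [hbk']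
      _ = k * (a⁻¹ * b) := by group
  have hb1 : b ≠ 1 := by
    intro h1
    rw [h1] at hbk'
    apply hk1
    apply hLA.ct a ha ha1 k hk
    have e : a * k = (a * k * a⁻¹) * a := by group
    rw [e, ← hbk']; group
  have he1 : a⁻¹ * b ≠ 1 := by
    intro h1
    have hba : b = a := by
      have := inv_mul_eq_one.1 h1
      exact this.symm
    have : a ∈ A ⊓ B := Subgroup.mem_inf.2 ⟨ha, by rw [← hba]; exact hb⟩
    rw [hinfAB, Subgroup.mem_bot] at this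
    exact ha1 this
  obtain ⟨P, hPS, hP, heP⟩ := h.cover (a⁻¹ * b) (N.mul_mem (N.inv_mem (hA ha)) (hB hb)) he1
  have hPB : P ≠ B := by
    intro h1
    rw [h1] at heP
    have h2 : a⁻¹ ∈ B := by
      have := B.mul_mem heP (B.inv_mem hb)
      rwa [mul_inv_cancel_right] at this
    have : a ∈ A ⊓ B := Subgroup.mem_inf.2 ⟨ha, by simpa using B.inv_mem h2⟩
    rw [hinfAB, Subgroup.mem_bot] at this
    exact ha1 this
  have hPA : P ≠ A := by
    intro h1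
    rw [h1] at heP
    have h2 : b ∈ A := by
      have := A.mul_mem ha heP
      rwa [mul_inv_cancel_left] at this
    have : b ∈ A ⊓ B := Subgroup.mem_inf.2 ⟨h2, hb⟩
    rw [hinfAB, Subgroup.mem_bot] at this
    exact hb1 this
  -- `k` normalizes `P`
  have hPk : conjBy P k = P := by
    have hmem : a⁻¹ * b ∈ P ⊓ conjBy P k := by
      refine Subgroup.mem_inf.2 ⟨heP, ?_⟩
      rw [mem_conjBy]
      have e : k⁻¹ * (a⁻¹ * b) * k = k⁻¹ * ((a⁻¹ * b) * k) := by group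
      rw [e, hek, inv_mul_cancel_left]
      exact heP
    rcases h.ti hPS (h.hS.conj_mem P hPS k) with h1 | h1
    · rw [h1, Subgroup.mem_bot] at hmem
      exact absurd hmem he1
    · exact h1.symm
  -- `P` commutes with `K`
  have hPK : ⁅P, ⁅T, B₁⁆⁆ = ⊥ := by
    rcases h.hS.pair P hPS _ hK with h1 | h1 | h1
    · exact h1
    · exact absurd (rankOne_eq_one_of_normalizes (RankOnePair_symm h1) hk hPk) hk1
    · exfalso
      have hle : ⁅P, ⁅T, B₁⁆⁆ ≤ P := by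
        rw [← h1.2.2.2 k hk hk1, Subgroup.closure_le]
        rintro _ ⟨p, hp, rfl⟩
        have : k * p⁻¹ * k⁻¹ ∈ conjBy P k := conj_mem_conjBy (P.inv_mem hp)
        rw [hPk] at this
        have := P.mul_mem hp this
        have e : p * k * p⁻¹ * k⁻¹ = p * (k * p⁻¹ * k⁻¹) := by group
        show p * k * p⁻¹ * k⁻¹ ∈ P
        rw [e]; exact this
      rcases h.ti hPS h1.1 with h2 | h2
      · rw [inf_eq_right.2 hle] at h2
        exact h.hS.ne_bot _ h1.1 h2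
      · have h3 := commutatorCase_le_centralizer_right h1
        rw [← h2, ← Subgroup.commutator_eq_bot_iff_le_centralizer] at h3
        exact h.hS.ne_bot _ h1.1 h3
  -- `P` is special for `B₁`
  have hPcase : RootCommutatorCase S P B₁ := by
    rcases h.hS.pair P hPS B₁ hB₁ with h1 | h1 | h1
    · exact absurd h1 (h.ne_bot_partner hPS hBS hP hB hPB hB₁ hrB)
    · exfalso
      have hTP : T ≠ P := by
        intro heq
        rw [heq] at hK
        exact rankOne_commutator_not_mem h.hS hPS hB₁ h1 hK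
      have h2 := h.special_eq hTS hPS hT hP hTP hB₁ h1 hK
      rw [Subgroup.commutator_comm, hPK] at h2
      exact h.hS.ne_bot T hTS h2.symm
    · exact h1
  have hLP := h.special_lineConfig hPS hBS hP hB hPB hB₁ hrB hPcase.1
  have haBP : a ∈ B ⊔ P := by
    have : a = b * (a⁻¹ * b)⁻¹ := by group
    rw [this]
    exact Subgroup.mul_mem _ (Subgroup.mem_sup_left hb) (Subgroup.mem_sup_right (P.inv_mem heP))
  have haP : a ∉ P := by
    intro h1
    have : a ∈ A ⊓ P := Subgroup.mem_inf.2 ⟨ha, h1⟩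
    rcases h.ti hAS hPS with h2 | h2
    · rw [h2, Subgroup.mem_bot] at this
      exact ha1 this
    · exact hPA h2.symm
  obtain ⟨k', hk', hak'⟩ := hLP.cover haBP haP
  have hAeq : A = conjBy B k' := by
    rcases h.ti hAS (h.hS.conj_mem B hBS k') with h2 | h2
    · have : a ∈ A ⊓ conjBy B k' := Subgroup.mem_inf.2 ⟨ha, hak'⟩
      rw [h2, Subgroup.mem_bot] at this
      exact absurd this ha1
    · exact h2
  have hABP : A ≤ B ⊔ P := by
    rw [hAeq]; exact hLP.conjBy_A_le_N hk'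
  have hTBP : T ∈ membersIn S (B ⊔ P) := ⟨hTS, hT.trans (hN.trans (sup_le hABP le_sup_left))⟩
  rw [h.special_membersIn hPS hBS hP hB hPB hB₁ hrB hPcase.1] at hTBP
  rcases hTBP with ⟨k'', hk'', hTk⟩ | hTP
  · exfalso
    have := special_conj_rankOne hrB hPcase hk''
    simp only at hTk
    rw [hTk] at this
    exact rankOne_commutator_not_mem h.hS hTS hB₁ this hK
  · rw [Set.mem_singleton_iff] at hTP
    rw [hTP]
    exact hABP ha

end LineCtx

end Cfsg.Agent.Helper94
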