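import Mathlib
import Cfsg.Prelude.Def_RootSubgroups
import Cfsg.Agent.Lib.Helper94.RootLineCtx

set_option autoImplicit false

namespace Cfsg.Agent.Helper94

open Cfsg Cfsg.Agent.Helper83
open scoped commutatorElement

variable {G : Type*} [Group G] {S : Set (Subgroup G)}

theorem conjBy_commutator (X Y : Subgroup G) (g : G) :
    conjBy ⁅X, Y⁆ g = ⁅conjBy X g, conjBy Y g⁆ :=
  Subgroup.map_commutator X Y _

namespace LineCtx

variable {N : Subgroup G}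

/-- Step 1: a pair of points generating `N` one of which is special for a partner of the other. -/
theorem exists_special_pair (h : LineCtx S N) {A B : Subgroup G} (hAS : A ∈ S) (hBS : B ∈ S)
    (hA : A ≤ N) (hB : B ≤ N) (hN : N ≤ A ⊔ B) (hAB : A ≠ B) :
    ∃ P Q Q₁ : Subgroup G, P ∈ S ∧ Q ∈ S ∧ P ≤ N ∧ Q ≤ N ∧ P ≠ Q ∧ N ≤ Q ⊔ P ∧ Q₁ ∈ S ∧
      IsRankOnePair Q Q₁ ∧ ⁅P, Q₁⁆ ∈ S := by
  obtain ⟨B₁, hB₁, hrB⟩ := h.hall B hBS
  rcases h.hS.pair A hAS B₁ hB₁ with h1 | h1 | h1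
  · exact absurd h1 (h.ne_bot_partner hAS hBS hA hB hAB hB₁ hrB)
  · obtain ⟨T, hTS, hT, hTB, hK⟩ := h.exists_special hAS hBS hA hB hAB hB₁ hrB h1
    have hle := h.le_sup_special hAS hBS hA hB hN hAB hB₁ hrB h1 hTS hT hTB hK
    exact ⟨T, B, B₁, hTS, hBS, hT, hB, hTB, hN.trans (sup_le hle le_sup_left), hB₁, hrB, hK⟩
  · exact ⟨A, B, B₁, hAS, hBS, hA, hB, hAB, by rw [sup_comm]; exact hN, hB₁, hrB, h1.1⟩

/-- Step 3: a partner of `P` for which `Q` is special. -/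
theorem exists_partner_special (h : LineCtx S N) {P Q Q₁ : Subgroup G} (hPS : P ∈ S) (hQS : Q ∈ S)
    (hP : P ≤ N) (hQ : Q ≤ N) (hne : P ≠ Q) (hN : N ≤ Q ⊔ P) (hQ₁ : Q₁ ∈ S)
    (hr : IsRankOnePair Q Q₁) (hK : ⁅P, Q₁⁆ ∈ S) :
    ∃ P₁ ∈ S, IsRankOnePair P P₁ ∧ ⁅Q, P₁⁆ ∈ S := by
  obtain ⟨P₁, hP₁, hrP⟩ := h.hall P hPS
  rcases h.hS.pair Q hQS P₁ hP₁ with h1 | h1 | h1
  · exact absurd h1 (h.ne_bot_partner hQS hPS hQ hP (Ne.symm hne) hP₁ hrP)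
  · obtain ⟨T, hTS, hT, hTP, hKT⟩ := h.exists_special hQS hPS hQ hP (Ne.symm hne) hP₁ hrP h1
    have hmem : T ∈ membersIn S (Q ⊔ P) := ⟨hTS, hT.trans hN⟩
    rw [h.special_membersIn hPS hQS hP hQ hne hQ₁ hr hK] at hmem
    rcases hmem with ⟨k, hk, hTk⟩ | hTP'
    · simp only at hTk
      have hcase := commutatorCase_of_mem h.hS hPS hQ₁ hK
      have hkP : k⁻¹ ∈ Subgroup.centralizer (P : Set G) :=
        Subgroup.inv_mem _ (commutatorCase_le_centralizer_left hcase hk)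
      refine ⟨conjBy P₁ k⁻¹, h.hS.conj_mem P₁ hP₁ k⁻¹, ?_, ?_⟩
      · have := isRankOnePair_conjBy hrP k⁻¹
        rwa [conjBy_eq_self_of_mem_centralizer hkP] at this
      · have h2 := h.hS.conj_mem _ hKT k⁻¹
        rwa [conjBy_commutator, ← hTk, conjBy_inv_conjBy] at h2
    · rw [Set.mem_singleton_iff] at hTP'
      exact absurd hTP' hTP
  · exact ⟨P₁, hP₁, hrP, h1.1⟩

/-- The two transitive root subgroups. -/
theorem exists_oppConfig (h : LineCtx S N) {A B : Subgroup G} (hAS : A ∈ S) (hBS : B ∈ S)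
    (hA : A ≤ N) (hB : B ≤ N) (hN : N ≤ A ⊔ B) (hAB : A ≠ B) :
    ∃ P Q KP KQ : Subgroup G, OppConfig S P KQ Q KP ∧ Q ⊔ P = N ∧
      membersIn S N = OppConfig.fam Q KP P ∧ membersIn S N = OppConfig.fam P KQ Q ∧
      KP ≤ Subgroup.normalizer (N : Set G) ∧ KQ ≤ Subgroup.normalizer (N : Set G) ∧
      KP ≤ Subgroup.centralizer (P : Set G) := by
  obtain ⟨P, Q, Q₁, hPS, hQS, hP, hQ, hne, hNle, hQ₁, hr, hK⟩ :=
    h.exists_special_pair hAS hBS hA hB hN hAB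
  obtain ⟨P₁, hP₁, hrP, hK'⟩ := h.exists_partner_special hPS hQS hP hQ hne hNle hQ₁ hr hK
  have hNeq : Q ⊔ P = N := le_antisymm (sup_le hQ hP) hNle
  have h1 := h.special_eq hPS hQS hP hQ hne hQ₁ hr hK
  have h2 := h.special_eq hQS hPS hQ hP (Ne.symm hne) hP₁ hrP hK'
  have hL1 := h.special_lineConfig hPS hQS hP hQ hne hQ₁ hr hK
  have hL2 := h.special_lineConfig hQS hPS hQ hP (Ne.symm hne) hP₁ hrP hK'
  have hm1 := h.special_membersIn hPS hQS hP hQ hne hQ₁ hr hK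
  have hm2 := h.special_membersIn hQS hPS hQ hP (Ne.symm hne) hP₁ hrP hK'
  rw [hNeq] at hm1
  rw [sup_comm, hNeq] at hm2
  refine ⟨P, Q, ⁅P, Q₁⁆, ⁅Q, P₁⁆, ⟨h.hS, hPS, hK', hQS, hK, ?_, h1⟩, hNeq, hm1, hm2, ?_, ?_, ?_⟩
  · rw [Subgroup.commutator_comm]; exact h2
  · intro k hk
    rw [← conjBy_eq_self_iff, ← hNeq]
    exact hL1.conjBy_N_of_mem_B hk
  · intro k hk
    rw [← conjBy_eq_self_iff, ← hNeq, sup_comm]
    exact hL2.conjBy_N_of_mem_B hk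
  · exact commutatorCase_le_centralizer_left (commutatorCase_of_mem h.hS hPS hQ₁ hK)

end LineCtx

/-- Double transitivity on a line. -/
theorem line_two_transitive (hS : IsRootSubgroupSet S)
    (hall : ∀ E ∈ S, ∃ E₁ ∈ S, IsRankOnePair E E₁) {A B : Subgroup G} (hA : A ∈ S)
    (hB : B ∈ linePartners S A) :
    ∀ C₁ ∈ membersIn S (A ⊔ B), ∀ C₂ ∈ membersIn S (A ⊔ B), ∀ D₁ ∈ membersIn S (A ⊔ B),
      ∀ D₂ ∈ membersIn S (A ⊔ B), C₁ ≠ C₂ → D₁ ≠ D₂ →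
        ∃ x ∈ ⨆ E ∈ normalizingMembers S (A ⊔ B), E, conjBy C₁ x = D₁ ∧ conjBy C₂ x = D₂ := by
  obtain ⟨⟨hBS, hBA, hcomm⟩, hpart⟩ := hB
  have hcomm' := hcomm
  rw [Subgroup.commutator_eq_bot_iff_le_centralizer] at hcomm'
  have hNab : A ⊔ B ≤ Subgroup.centralizer ((A ⊔ B : Subgroup G) : Set G) := by
    apply sup_le
    · intro a ha
      exact mem_centralizer_sup (le_centralizer_self_of_comm (hS.commutative A hA) ha) (hcomm' ha)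
    · intro b hb
      exact mem_centralizer_sup ((Subgroup.le_centralizer_iff.1 hcomm') hb)
        (le_centralizer_self_of_comm (hS.commutative B hBS) hb)
  have h : LineCtx S (A ⊔ B) :=
    ⟨hS, hall, fun x hx y hy => commute_of_le_centralizer hNab hx hy,
      fun x hx hx1 => by
        obtain ⟨C, ⟨hCS, hCle⟩, hxC⟩ := hpart.2.1 x hx hx1
        exact ⟨C, hCS, hCle, hxC⟩⟩
  obtain ⟨P, Q, KP, KQ, cfg, _, hm1, hm2, hnP, hnQ, hcP⟩ :=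
    h.exists_oppConfig hA hBS le_sup_left le_sup_right le_rfl (Ne.symm hBA)
  have horb := cfg.orbit_A_eq_fam
  rw [← hm2] at horb
  have hX : KQ ⊔ KP ≤ ⨆ E ∈ normalizingMembers S (A ⊔ B), E := by
    apply sup_le
    · exact le_iSup₂_of_le KQ ⟨cfg.hB, hnQ⟩ le_rfl
    · exact le_iSup₂_of_le KP ⟨cfg.hD, hnP⟩ le_rfl
  -- move a pair to `(P, Q)`
  have key : ∀ C₁ ∈ membersIn S (A ⊔ B), ∀ C₂ ∈ membersIn S (A ⊔ B), C₁ ≠ C₂ →
      ∃ x ∈ KQ ⊔ KP, conjBy C₁ x = P ∧ conjBy C₂ x = Q := by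
    intro C₁ hC₁ C₂ hC₂ hne
    rw [← horb] at hC₁ hC₂
    obtain ⟨x₁, hx₁, rfl⟩ := hC₁
    obtain ⟨x₂, hx₂, rfl⟩ := hC₂
    have hC₂' : conjBy (conjBy P x₂) x₁⁻¹ ∈ membersIn S (A ⊔ B) := by
      rw [← horb, conjBy_conjBy]
      exact ⟨x₁⁻¹ * x₂, Subgroup.mul_mem _ (Subgroup.inv_mem _ hx₁) hx₂, rfl⟩
    have hne' : conjBy (conjBy P x₂) x₁⁻¹ ≠ P := by
      intro h1
      apply hne
      have h2 : conjBy P x₁ = conjBy (conjBy (conjBy P x₂) x₁⁻¹) x₁ := by rw [h1]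
      rw [h2, conjBy_conjBy_inv]
    rw [hm1] at hC₂'
    rcases hC₂' with ⟨k, hk, hk'⟩ | h1
    · simp only at hk'
      refine ⟨k⁻¹ * x₁⁻¹, Subgroup.mul_mem _ (Subgroup.mem_sup_right (KP.inv_mem hk))
        (Subgroup.inv_mem _ hx₁), ?_, ?_⟩
      · rw [← conjBy_conjBy, conjBy_inv_conjBy]
        exact conjBy_eq_self_of_mem_centralizer (hcP (KP.inv_mem hk))
      · rw [← conjBy_conjBy, ← hk', conjBy_inv_conjBy]
    · rw [Set.mem_singleton_iff] at h1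
      exact absurd h1 hne'
  intro C₁ hC₁ C₂ hC₂ D₁ hD₁ D₂ hD₂ hC hD
  obtain ⟨x, hx, hx1, hx2⟩ := key C₁ hC₁ C₂ hC₂ hC
  obtain ⟨y, hy, hy1, hy2⟩ := key D₁ hD₁ D₂ hD₂ hD
  refine ⟨y⁻¹ * x, hX (Subgroup.mul_mem _ (Subgroup.inv_mem _ hy) hx), ?_, ?_⟩
  · rw [← conjBy_conjBy, hx1, ← hy1, conjBy_inv_conjBy]
  · rw [← conjBy_conjBy, hx2, ← hy2, conjBy_inv_conjBy]

end Cfsg.Agent.Helper94
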