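import Mathlib
import Cfsg.Prelude.Def_RootSubgroups
import Cfsg.Agent.Lib.Helper94.RootLineTrans

set_option autoImplicit false

namespace Cfsg.Agent.Helper94

open Cfsg Cfsg.Agent.Helper83
open scoped commutatorElement

variable {G : Type*} [Group G] {S : Set (Subgroup G)}

namespace OppConfig

variable {A B C D : Subgroup G}

/-- In the configuration `C = ⁅A, B⁆`, `A = ⁅D, C⁆` the rank one pair `(D, B)` satisfies the
condition of special rank one groups. -/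
theorem special_rel (h : OppConfig S A B C D) {d b : G} (hd : d ∈ D) (hb : b ∈ B)
    (hdb : conjBy D b⁻¹ = conjBy B d⁻¹) : b⁻¹ * d * b = d⁻¹ * b⁻¹ * d := by
  obtain ⟨c, hc, hc1⟩ := h.exists_C
  have hrel : conjBy A b⁻¹ = conjBy C d⁻¹ := h.conj_rel (B.inv_mem hb) (D.inv_mem hd) hdb
  have ha₀ : d * c * d⁻¹ * c⁻¹ ∈ A := h.comm_mem_A hd hc
  generalize ha₀def : d * c * d⁻¹ * c⁻¹ = a₀ at ha₀
  have hda₀ : a₀ * d = d * a₀ := h.comm_AD ha₀ hd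
  have hbc : c * b = b * c := h.comm_CB hc hb
  have hca₀ : c * a₀ = a₀ * c := h.comm_CA hc ha₀
  have e1 : d * c * d⁻¹ = a₀ * c := by rw [← ha₀def]; group
  have e2 : d⁻¹ * c * d = a₀⁻¹ * c := by
    have h1 : d⁻¹ * (d * c * d⁻¹) * d = d⁻¹ * (a₀ * c) * d := by rw [e1]
    have h2 : d⁻¹ * (d * c * d⁻¹) * d = c := by group
    have h3 : d⁻¹ * (a₀ * c) * d = (d⁻¹ * a₀ * d) * (d⁻¹ * c * d) := by group
    have h4 : d⁻¹ * a₀ * d = a₀ := by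
      calc d⁻¹ * a₀ * d = d⁻¹ * (a₀ * d) := by group
        _ = d⁻¹ * (d * a₀) := by rw [hda₀]
        _ = a₀ := by group
    rw [h2, h3, h4] at h1
    calc d⁻¹ * c * d = a₀⁻¹ * (a₀ * (d⁻¹ * c * d)) := by group
      _ = a₀⁻¹ * c := by rw [← h1]
  -- `⁅b, a₀⁆ = c`
  have hc₁ : b * a₀ * b⁻¹ * a₀⁻¹ ∈ C := h.comm_mem_C' ha₀ hb
  have hkey : b * a₀ * b⁻¹ * a₀⁻¹ = c := by
    have h1 : d⁻¹ * c * d ∈ conjBy C d⁻¹ := by
      have := conj_mem_conjBy (A := C) (g := d⁻¹) hc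
      simpa using this
    rw [← hrel, mem_conjBy, inv_inv, e2] at h1
    have h2 : b * (a₀⁻¹ * c) * b⁻¹ = a₀⁻¹ * ((b * a₀ * b⁻¹ * a₀⁻¹)⁻¹ * c) := by
      calc b * (a₀⁻¹ * c) * b⁻¹ = (b * a₀⁻¹ * b⁻¹) * ((b * c) * b⁻¹) := by group
        _ = (b * a₀⁻¹ * b⁻¹) * ((c * b) * b⁻¹) := by rw [hbc]
        _ = a₀⁻¹ * ((b * a₀ * b⁻¹ * a₀⁻¹)⁻¹ * c) := by group
    rw [h2] at h1
    have h3 : (b * a₀ * b⁻¹ * a₀⁻¹)⁻¹ * c ∈ A := by
      have := A.mul_mem ha₀ h1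
      rwa [mul_inv_cancel_left] at this
    have h4 : (b * a₀ * b⁻¹ * a₀⁻¹)⁻¹ * c ∈ A ⊓ C :=
      Subgroup.mem_inf.2 ⟨h3, C.mul_mem (C.inv_mem hc₁) hc⟩
    rw [h.inf_AC, Subgroup.mem_bot] at h4
    exact (inv_mul_eq_one.1 h4)
  have e3 : b * a₀ * b⁻¹ = c * a₀ := by rw [← hkey]; group
  have e4 : b⁻¹ * a₀ * b = c⁻¹ * a₀ := by
    have h1 : b⁻¹ * (b * a₀ * b⁻¹) * b = b⁻¹ * (c * a₀) * b := by rw [e3]
    have h2 : b⁻¹ * (b * a₀ * b⁻¹) * b = a₀ := by group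
    have h3 : b⁻¹ * (c * a₀) * b = (b⁻¹ * (c * b)) * (b⁻¹ * a₀ * b) := by group
    rw [h2, h3, hbc] at h1
    have h4 : b⁻¹ * (b * c) = c := by group
    rw [h4] at h1
    calc b⁻¹ * a₀ * b = c⁻¹ * (c * (b⁻¹ * a₀ * b)) := by group
      _ = c⁻¹ * a₀ := by rw [← h1]
  have e5 : b⁻¹ * (a₀ * c) * b = a₀ := by
    calc b⁻¹ * (a₀ * c) * b = (b⁻¹ * a₀ * b) * (b⁻¹ * (c * b)) := by group
      _ = (c⁻¹ * a₀) * (b⁻¹ * (b * c)) := by rw [e4, hbc]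
      _ = c⁻¹ * (a₀ * c) := by group
      _ = c⁻¹ * (c * a₀) := by rw [hca₀]
      _ = a₀ := by group
  -- both `y = b⁻¹ d b` and `y' = d⁻¹ b⁻¹ d` conjugate `c` to `a₀`
  have hy : (b⁻¹ * d * b) * c * (b⁻¹ * d * b)⁻¹ = a₀ := by
    calc (b⁻¹ * d * b) * c * (b⁻¹ * d * b)⁻¹ = b⁻¹ * (d * ((b * c) * b⁻¹) * d⁻¹) * b := by group
      _ = b⁻¹ * (d * ((c * b) * b⁻¹) * d⁻¹) * b := by rw [hbc]
      _ = b⁻¹ * (d * c * d⁻¹) * b := by group
      _ = b⁻¹ * (a₀ * c) * b := by rw [e1]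
      _ = a₀ := e5
  have hy' : (d⁻¹ * b⁻¹ * d) * c * (d⁻¹ * b⁻¹ * d)⁻¹ = a₀ := by
    calc (d⁻¹ * b⁻¹ * d) * c * (d⁻¹ * b⁻¹ * d)⁻¹ = d⁻¹ * (b⁻¹ * (d * c * d⁻¹) * b) * d := by group
      _ = d⁻¹ * (b⁻¹ * (a₀ * c) * b) * d := by rw [e1]
      _ = d⁻¹ * a₀ * d := by rw [e5]
      _ = d⁻¹ * (a₀ * d) := by group
      _ = d⁻¹ * (d * a₀) := by rw [hda₀]
      _ = a₀ := by group
  -- `u = y'⁻¹ y` commutes with `c`
  have hu : ((d⁻¹ * b⁻¹ * d)⁻¹ * (b⁻¹ * d * b)) * c = c * ((d⁻¹ * b⁻¹ * d)⁻¹ * (b⁻¹ * d * b)) := by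
    have h1 : (b⁻¹ * d * b) * c = a₀ * (b⁻¹ * d * b) := by
      rw [← hy]; group
    have h2 : (d⁻¹ * b⁻¹ * d)⁻¹ * a₀ = c * (d⁻¹ * b⁻¹ * d)⁻¹ := by
      rw [← hy']; group
    calc ((d⁻¹ * b⁻¹ * d)⁻¹ * (b⁻¹ * d * b)) * c
        = (d⁻¹ * b⁻¹ * d)⁻¹ * ((b⁻¹ * d * b) * c) := by group
      _ = (d⁻¹ * b⁻¹ * d)⁻¹ * (a₀ * (b⁻¹ * d * b)) := by rw [h1]
      _ = ((d⁻¹ * b⁻¹ * d)⁻¹ * a₀) * (b⁻¹ * d * b) := by group
      _ = (c * (d⁻¹ * b⁻¹ * d)⁻¹) * (b⁻¹ * d * b) := by rw [h2]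
      _ = c * ((d⁻¹ * b⁻¹ * d)⁻¹ * (b⁻¹ * d * b)) := by group
  -- `u ∈ conjBy D b⁻¹`
  have hymem : b⁻¹ * d * b ∈ conjBy D b⁻¹ := by
    have := conj_mem_conjBy (A := D) (g := b⁻¹) hd
    simpa using this
  have hy'mem : d⁻¹ * b⁻¹ * d ∈ conjBy D b⁻¹ := by
    rw [hdb]
    have := conj_mem_conjBy (A := B) (g := d⁻¹) (B.inv_mem hb)
    simpa using this
  have humem := Subgroup.mul_mem _ (Subgroup.inv_mem _ hy'mem) hymem
  rw [mem_conjBy, inv_inv] at humem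
  generalize hudef : (d⁻¹ * b⁻¹ * d)⁻¹ * (b⁻¹ * d * b) = u at hu humem
  -- `b u b⁻¹ ∈ D` commutes with `c`
  have hcomm : c * (b * u * b⁻¹) = (b * u * b⁻¹) * c := by
    have hbc' : Commute c b := hbc
    have hcu : Commute c u := hu.symm
    exact ((hbc'.mul_right hcu).mul_right hbc'.inv_right).eq
  have h1 := h.symm.commute_trivial hc hc1 humem hcomm
  have hu1 : u = 1 := by
    have : u = b⁻¹ * (b * u * b⁻¹) * b := by group
    rw [this, h1]; group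
  rw [← hudef] at hu1
  have := inv_mul_eq_one.1 hu1
  exact this.symm

end OppConfig


/-- the line context attached to a line partner -/
theorem lineCtx_of_partition (hS : IsRootSubgroupSet S)
    (hall : ∀ E ∈ S, ∃ E₁ ∈ S, IsRankOnePair E E₁) {A B : Subgroup G} (hA : A ∈ S) (hB : B ∈ S)
    (hcomm : ⁅A, B⁆ = ⊥) (hpart : IsSubgroupPartition (A ⊔ B) (membersIn S (A ⊔ B))) :
    LineCtx S (A ⊔ B) := by
  have hcomm' := hcomm
  rw [Subgroup.commutator_eq_bot_iff_le_centralizer] at hcomm'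
  have hNab : A ⊔ B ≤ Subgroup.centralizer ((A ⊔ B : Subgroup G) : Set G) := by
    apply sup_le
    · intro a ha
      exact mem_centralizer_sup (le_centralizer_self_of_comm (hS.commutative A hA) ha) (hcomm' ha)
    · intro b hb
      exact mem_centralizer_sup ((Subgroup.le_centralizer_iff.1 hcomm') hb)
        (le_centralizer_self_of_comm (hS.commutative B hB) hb)
  exact ⟨hS, hall, fun x hx y hy => commute_of_le_centralizer hNab hx hy,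
    fun x hx hx1 => by
      obtain ⟨C, ⟨hCS, hCle⟩, hxC⟩ := hpart.2.1 x hx hx1
      exact ⟨C, hCS, hCle, hxC⟩⟩

/-- In a class of abstract root subgroups in which the commutator case occurs, for every rank one
pair `(A, B)` there is a line partner `C` of `A` with `⁅C, B⁆ ∈ S` and `⁅⁅C, B⁆, A⁆ = C`. -/
theorem exists_linePartner_special (hS : IsRootSubgroupSet S) (hconj : IsConjClassOfSubgroups S)
    (hcc : ∃ E ∈ S, ∃ F ∈ S, RootCommutatorCase S E F) {A B : Subgroup G} (hA : A ∈ S) (hB : B ∈ S)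
    (hr : IsRankOnePair A B) :
    ∃ C ∈ linePartners S A, C ∈ S ∧ ⁅C, B⁆ ∈ S ∧ ⁅⁅C, B⁆, A⁆ = C := by
  have hall : ∀ E ∈ S, ∃ E₁ ∈ S, IsRankOnePair E E₁ := by
    intro E hE
    obtain ⟨g, rfl⟩ := hconj.2 A hA E hE
    exact ⟨conjBy B g, hS.conj_mem B hB g, isRankOnePair_conjBy hr g⟩
  obtain ⟨E, hE, F, hF, hEF⟩ := hcc
  obtain ⟨g, hAg⟩ := hconj.2 E hE A hA
  have hF' : conjBy F g ∈ S := hS.conj_mem F hF g
  have hC₀ : ⁅A, conjBy F g⁆ ∈ S := by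
    rw [hAg, ← conjBy_commutator]
    exact hS.conj_mem _ hEF.1 g
  have hL := lineConfig_of_rankOne hS hA hF' hB hr hC₀
  have hmem := membersIn_eq_fam hS hA hF' hB hr hC₀
  have hpart : IsSubgroupPartition (A ⊔ ⁅A, conjBy F g⁆) (membersIn S (A ⊔ ⁅A, conjBy F g⁆)) := by
    rw [hmem]; exact hL.fam_partition
  have hcommAC : ⁅A, ⁅A, conjBy F g⁆⁆ = ⊥ := by
    rw [Subgroup.commutator_eq_bot_iff_le_centralizer, Subgroup.le_centralizer_iff]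
    exact hL.C_le_centralizer_A
  have hctx := lineCtx_of_partition hS hall hA hC₀ hcommAC hpart
  have hC₀A : ⁅A, conjBy F g⁆ ≠ A := by
    intro h1
    have h2 := hL.inf_AC
    rw [h1, inf_idem] at h2
    exact hS.ne_bot A hA h2
  rcases hS.pair _ hC₀ B hB with h1 | h1 | h1
  · exact absurd h1 (commutator_ne_bot_of_rankOne hS hA hF' hB hr hC₀)
  · obtain ⟨T, hTS, hT, hTA, hK⟩ :=
      hctx.exists_special hC₀ hA le_sup_right le_sup_left hC₀A hB hr h1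
    have hle := hctx.le_sup_special hC₀ hA le_sup_right le_sup_left (by rw [sup_comm]) hC₀A hB hr h1
      hTS hT hTA hK
    have hsup : A ⊔ T = A ⊔ ⁅A, conjBy F g⁆ :=
      le_antisymm (sup_le le_sup_left hT) (sup_le le_sup_left hle)
    refine ⟨T, ⟨⟨hTS, hTA, ?_⟩, ?_⟩, hTS, hK, ?_⟩
    · exact hctx.comm_points le_sup_left hT
    · rw [hsup]; exact hpart
    · exact hctx.special_eq hTS hA hT le_sup_left hTA hB hr hK
  · refine ⟨_, ⟨⟨hC₀, hC₀A, hcommAC⟩, hpart⟩, hC₀, h1.1, ?_⟩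
    exact hctx.special_eq hC₀ hA le_sup_right le_sup_left hC₀A hB hr h1.1

/-- In a class of abstract root subgroups in which the commutator case occurs, rank one pairs are
special. -/
theorem special_of_commutatorCase (hS : IsRootSubgroupSet S) (hconj : IsConjClassOfSubgroups S)
    (hcc : ∃ E ∈ S, ∃ F ∈ S, RootCommutatorCase S E F) {A B : Subgroup G} (hA : A ∈ S) (hB : B ∈ S)
    (hr : IsRankOnePair A B) : IsSpecialRankOnePair A B := by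
  obtain ⟨C, _, hC, hK, hKA⟩ := exists_linePartner_special hS hconj hcc hA hB hr
  have cfg : OppConfig S C B ⁅C, B⁆ A :=
    ⟨hS, hC, hB, hK, hA, rfl, by rw [Subgroup.commutator_comm]; exact hKA⟩
  refine ⟨hr, ?_⟩
  intro a ha _ b hb _ hab
  exact cfg.special_rel ha hb hab

end Cfsg.Agent.Helper94
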