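import Mathlib
import Cfsg.Prelude.Def_RootSubgroups
import Cfsg.Agent.Lib.Helper94.RootSpecialPair

set_option autoImplicit false

namespace Cfsg.Agent.Helper94

open Cfsg Cfsg.Agent.Helper83
open scoped commutatorElement

variable {G : Type*} [Group G] {S : Set (Subgroup G)}

/-- in a conjugacy class with one rank one pair every member has a rank one partner -/
theorem hall_of_conjClass (hS : IsRootSubgroupSet S) (hconj : IsConjClassOfSubgroups S)
    (hr : ∃ A ∈ S, ∃ B ∈ S, IsRankOnePair A B) : ∀ E ∈ S, ∃ E₁ ∈ S, IsRankOnePair E E₁ := by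
  obtain ⟨A, hA, B, hB, hAB⟩ := hr
  intro E hE
  obtain ⟨g, rfl⟩ := hconj.2 A hA E hE
  exact ⟨conjBy B g, hS.conj_mem B hB g, isRankOnePair_conjBy hAB g⟩

/-- a conjugacy class of abstract root subgroups with a rank one pair has connected graph of rank
one pairs -/
theorem connected_of_conjClass (hS : IsRootSubgroupSet S) (hconj : IsConjClassOfSubgroups S)
    (hr : ∃ A ∈ S, ∃ B ∈ S, IsRankOnePair A B) : IsConnectedFamily (FAdj S) S := by
  have hall := hall_of_conjClass hS hconj hr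
  obtain ⟨A₀, hA₀, _, _, _⟩ := hr
  have hstab := top_le_famStab_component hS hall hA₀
  have hreach : ∀ X ∈ S, Relation.ReflTransGen (FAdj S) A₀ X := by
    intro X hX
    obtain ⟨g, rfl⟩ := hconj.2 A₀ hA₀ X hX
    have := (mem_famStab.1 (hstab (Subgroup.mem_top g))) A₀ ⟨hA₀, Relation.ReflTransGen.refl⟩
    exact this.1.2
  intro X hX Y hY
  exact (reach_symm (hreach X hX)).trans (hreach Y hY)

/-- if `A` has a rank one partner and `⁅A, B⁆ ∈ S` then `⁅A, B⁆` is a line partner of `A` -/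
theorem commutator_mem_linePartners (hS : IsRootSubgroupSet S)
    (hall : ∀ E ∈ S, ∃ E₁ ∈ S, IsRankOnePair E E₁) {A B : Subgroup G} (hA : A ∈ S) (hB : B ∈ S)
    (hK : ⁅A, B⁆ ∈ S) : ⁅A, B⁆ ∈ linePartners S A ∧ A ∈ linePartners S ⁅A, B⁆ := by
  obtain ⟨A₁, hA₁, hr⟩ := hall A hA
  have hL := lineConfig_of_rankOne hS hA hB hA₁ hr hK
  have hmem := membersIn_eq_fam hS hA hB hA₁ hr hK
  have hpart : IsSubgroupPartition (A ⊔ ⁅A, B⁆) (membersIn S (A ⊔ ⁅A, B⁆)) := by
    rw [hmem]; exact hL.fam_partition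
  have hne : ⁅A, B⁆ ≠ A := by
    intro h1
    have h2 := hL.inf_AC
    rw [h1, inf_idem] at h2
    exact hS.ne_bot A hA h2
  have hcomm : ⁅A, ⁅A, B⁆⁆ = ⊥ := by
    rw [Subgroup.commutator_eq_bot_iff_le_centralizer, Subgroup.le_centralizer_iff]
    exact hL.C_le_centralizer_A
  refine ⟨⟨⟨hK, hne, hcomm⟩, hpart⟩, ⟨⟨hA, Ne.symm hne, ?_⟩, ?_⟩⟩
  · rw [Subgroup.commutator_comm]; exact hcomm
  · rw [sup_comm]; exact hpart

/-- In a class in which the commutator case occurs, a rank one pair is joined by a path of line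
partners. -/
theorem eReach_of_rankOne (hS : IsRootSubgroupSet S) (hconj : IsConjClassOfSubgroups S)
    (hcc : ∃ E ∈ S, ∃ F ∈ S, RootCommutatorCase S E F) {A B : Subgroup G} (hA : A ∈ S) (hB : B ∈ S)
    (hr : IsRankOnePair A B) : Relation.ReflTransGen (EAdj S S) A B := by
  have hall := hall_of_conjClass hS hconj ⟨A, hA, B, hB, hr⟩
  obtain ⟨C, hCl, hC, hK, _⟩ := exists_linePartner_special hS hconj hcc hA hB hr
  have h1 := commutator_mem_linePartners hS hall hC hB hK
  have hK' : ⁅B, C⁆ ∈ S := by rw [Subgroup.commutator_comm]; exact hK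
  have h2 := commutator_mem_linePartners hS hall hB hC hK'
  rw [Subgroup.commutator_comm B C] at h2
  have e1 : EAdj S S A C := ⟨hA, hC, hCl⟩
  have e2 : EAdj S S C ⁅C, B⁆ := ⟨hC, hK, h1.1⟩
  have e3 : EAdj S S ⁅C, B⁆ B := ⟨hK, hB, h2.2⟩
  exact ((Relation.ReflTransGen.single e1).tail e2).tail e3

theorem e_connected (hS : IsRootSubgroupSet S) (hconj : IsConjClassOfSubgroups S)
    (hr : ∃ A ∈ S, ∃ B ∈ S, IsRankOnePair A B)
    (hcc : ∃ E ∈ S, ∃ F ∈ S, RootCommutatorCase S E F) : IsConnectedFamily (EAdj S S) S := by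
  have hF := connected_of_conjClass hS hconj hr
  intro A hA B hB
  have key : ∀ B, Relation.ReflTransGen (FAdj S) A B → Relation.ReflTransGen (EAdj S S) A B := by
    intro B h
    induction h with
    | refl => exact Relation.ReflTransGen.refl
    | tail _ hbc ih => exact ih.trans (eReach_of_rankOne hS hconj hcc hbc.1 hbc.2.1 hbc.2.2)
  exact key B (hF A hA B hB)

theorem d_connected (hS : IsRootSubgroupSet S) (hconj : IsConjClassOfSubgroups S)
    (hr : ∃ A ∈ S, ∃ B ∈ S, IsRankOnePair A B)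
    (hcc : ∃ E ∈ S, ∃ F ∈ S, RootCommutatorCase S E F) : IsConnectedFamily (DAdj S) S := by
  intro A hA B hB
  have hmono : EAdj S S ≤ DAdj S := by
    rintro X Y ⟨hX, hY, ⟨_, hne, hcomm⟩, _⟩
    exact ⟨hX, hY, Ne.symm hne, hcomm⟩
  exact Relation.ReflTransGen.mono hmono _ _ (e_connected hS hconj hr hcc A hA B hB)

end Cfsg.Agent.Helper94
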