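import Mathlib
import Cfsg.Prelude.Def_RootSubgroups
import Cfsg.Agent.Lib.Helper94.RootNondeg

set_option autoImplicit false

namespace Cfsg.Agent.Helper94

open Cfsg Cfsg.Agent.Helper83
open scoped commutatorElement

variable {G : Type*} [Group G] {S : Set (Subgroup G)}

/-- line partners are permuted by conjugation -/
theorem linePartners_conj (hS : IsRootSubgroupSet S) {A C : Subgroup G} (g : G)
    (h : C ∈ linePartners S A) : conjBy C g ∈ linePartners S (conjBy A g) := by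
  obtain ⟨⟨hC, hne, hcomm⟩, hpart⟩ := h
  refine ⟨⟨hS.conj_mem C hC g, fun h1 => hne (conjBy_inj.1 h1), ?_⟩, ?_⟩
  · rw [← conjBy_commutator, hcomm, conjBy_bot]
  · rw [← conjBy_sup]
    refine ⟨fun E hE => hE.2, ?_, ?_⟩
    · intro x hx hx1
      rw [mem_conjBy] at hx
      have hx1' : g⁻¹ * x * g ≠ 1 := by
        intro h1
        apply hx1
        have : x = g * (g⁻¹ * x * g) * g⁻¹ := by group
        rw [this, h1]; group
      obtain ⟨E, ⟨hES, hEN⟩, hxE⟩ := hpart.2.1 _ hx hx1'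
      exact ⟨conjBy E g, ⟨hS.conj_mem E hES g, conjBy_mono hEN g⟩, mem_conjBy.2 hxE⟩
    · rintro E ⟨hES, hEN⟩ F ⟨hFS, hFN⟩ hEF
      have hE' : conjBy E g⁻¹ ∈ membersIn S (A ⊔ C) := by
        refine ⟨hS.conj_mem E hES g⁻¹, ?_⟩
        have := conjBy_mono hEN g⁻¹
        rwa [conjBy_inv_conjBy] at this
      have hF' : conjBy F g⁻¹ ∈ membersIn S (A ⊔ C) := by
        refine ⟨hS.conj_mem F hFS g⁻¹, ?_⟩
        have := conjBy_mono hFN g⁻¹
        rwa [conjBy_inv_conjBy] at this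
      have h1 := hpart.2.2 _ hE' _ hF' (fun h2 => hEF (conjBy_inj.1 h2))
      rw [← conjBy_inf, conjBy_eq_bot_iff] at h1
      exact h1

/-- the subgroup generated by the line partners of `E` and by `E₁` -/
def lineGen (S : Set (Subgroup G)) (E E₁ : Subgroup G) : Subgroup G :=
  (⨆ C ∈ linePartners S E, C) ⊔ E₁

theorem linePartner_le_lineGen {E E₁ C : Subgroup G} (hC : C ∈ linePartners S E) :
    C ≤ lineGen S E E₁ := by
  unfold lineGen
  exact (le_iSup₂_of_le (f := fun C _ => C) C hC le_rfl).trans le_sup_left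

theorem right_le_lineGen {E E₁ : Subgroup G} : E₁ ≤ lineGen S E E₁ := le_sup_right

/-- `E ≤ ⟨Λ_E, E₁⟩` -/
theorem left_le_lineGen (hS : IsRootSubgroupSet S) (hconj : IsConjClassOfSubgroups S)
    (hcc : ∃ E ∈ S, ∃ F ∈ S, RootCommutatorCase S E F) {A B : Subgroup G} (hA : A ∈ S) (hB : B ∈ S)
    (hr : IsRankOnePair A B) : A ≤ lineGen S A B := by
  obtain ⟨C, hCl, hC, hK, hKA⟩ := exists_linePartner_special hS hconj hcc hA hB hr
  have hCR : C ≤ lineGen S A B := linePartner_le_lineGen hCl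
  have hKR : ⁅C, B⁆ ≤ lineGen S A B :=
    (commutator_le_sup' C B).trans (sup_le hCR right_le_lineGen)
  have hAK : ⁅A, ⁅C, B⁆⁆ = C := by rw [Subgroup.commutator_comm]; exact hKA
  have hL : LineConfig S A ⁅C, B⁆ C := by
    have := lineConfig_of_rankOne hS hA hK hB hr (by rw [hAK]; exact hC)
    rwa [hAK] at this
  obtain ⟨k, hk, hk1⟩ := exists_mem_ne_one_of_ne_bot (hS.ne_bot _ hK)
  -- `conjBy A k` is a line partner of `A`
  have hsup : A ⊔ conjBy A k = A ⊔ C := by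
    apply le_antisymm (sup_le le_sup_left (hL.conjBy_A_le_N hk))
    refine sup_le le_sup_left ?_
    intro c hc
    obtain ⟨a, ha, hac⟩ := hL.surj_b hk hk1 hc
    have e : c = a * (k * a⁻¹ * k⁻¹) := by rw [← hac]; group
    rw [e]
    exact Subgroup.mul_mem _ (Subgroup.mem_sup_left ha)
      (Subgroup.mem_sup_right (conj_mem_conjBy (A.inv_mem ha)))
  have hne : conjBy A k ≠ A := by
    intro h1
    obtain ⟨a, ha, ha1⟩ := exists_mem_ne_one_of_ne_bot (hS.ne_bot A hA)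
    -- `⁅a, k⁆ ∈ A ⊓ C`
    have h2 : a * k * a⁻¹ * k⁻¹ ∈ A ⊓ C := by
      refine Subgroup.mem_inf.2 ⟨?_, hL.comm_mem_C ha hk⟩
      have : k * a⁻¹ * k⁻¹ ∈ conjBy A k := conj_mem_conjBy (A.inv_mem ha)
      rw [h1] at this
      have := A.mul_mem ha this
      have e : a * k * a⁻¹ * k⁻¹ = a * (k * a⁻¹ * k⁻¹) := by group
      rw [e]; exact this
    rw [hL.inf_AC, Subgroup.mem_bot] at h2
    apply hk1
    apply hL.ct a ha ha1 k hk
    have e : a * k = (a * k * a⁻¹ * k⁻¹) * k * a := by group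
    rw [e, h2, one_mul]
  have hcomm : ⁅A, conjBy A k⁆ = ⊥ := by
    rw [Subgroup.commutator_eq_bot_iff_le_centralizer, Subgroup.le_centralizer_iff]
    exact (hL.conjBy_A_le_N hk).trans hL.N_le_centralizer_A
  have hA'l : conjBy A k ∈ linePartners S A := by
    refine ⟨⟨hS.conj_mem A hA k, hne, hcomm⟩, ?_⟩
    rw [hsup]
    exact hCl.2
  have hA'R : conjBy A k ≤ lineGen S A B := linePartner_le_lineGen hA'l
  have := conjBy_le_of_mem hA'R (Subgroup.inv_mem _ (hKR hk))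
  rwa [conjBy_inv_conjBy] at this

/-- `Λ_B ⊆ ⟨Λ_A, B⟩` for a rank one pair `(A, B)` -/
theorem linePartner_right_le_lineGen (hS : IsRootSubgroupSet S) (hconj : IsConjClassOfSubgroups S)
    (hcc : ∃ E ∈ S, ∃ F ∈ S, RootCommutatorCase S E F) {A B C : Subgroup G} (hA : A ∈ S)
    (hB : B ∈ S) (hr : IsRankOnePair A B) (hC : C ∈ linePartners S B) : C ≤ lineGen S A B := by
  obtain ⟨x, hx, hBx⟩ := right_mem_unipotentSubgroups hr
  have hxR : x ∈ lineGen S A B :=
    (sup_le (left_le_lineGen hS hconj hcc hA hB hr) right_le_lineGen) hx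
  have h1 := linePartners_conj hS x⁻¹ hC
  have h2 : conjBy B x⁻¹ = A := by rw [hBx, conjBy_inv_conjBy]
  rw [h2] at h1
  have := conjBy_le_of_mem (linePartner_le_lineGen (E₁ := B) h1) hxR
  rwa [conjBy_conjBy_inv] at this

/-- if `F ≤ ⟨Λ_E, E₁⟩` is opposite `E₁` then `Λ_F ⊆ ⟨Λ_E, E₁⟩` -/
theorem linePartner_le_of_rankOne (hS : IsRootSubgroupSet S) (hconj : IsConjClassOfSubgroups S)
    (hcc : ∃ E ∈ S, ∃ F ∈ S, RootCommutatorCase S E F) {E E₁ F C : Subgroup G} (hE : E ∈ S)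
    (hE₁ : E₁ ∈ S) (hr : IsRankOnePair E E₁) (hF : F ∈ S) (hFR : F ≤ lineGen S E E₁)
    (hrF : IsRankOnePair F E₁) (hC : C ∈ linePartners S F) : C ≤ lineGen S E E₁ := by
  have h1 : C ≤ lineGen S E₁ F :=
    linePartner_right_le_lineGen hS hconj hcc hE₁ hF (RankOnePair_symm hrF) hC
  refine h1.trans (sup_le ?_ hFR)
  apply iSup₂_le
  intro C' hC'
  exact linePartner_right_le_lineGen hS hconj hcc hE hE₁ hr hC'

/-- in a line configuration a nontrivial element of `B` moves `A` -/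
theorem LineConfig.conjBy_A_ne {A B C : Subgroup G} (hL : LineConfig S A B C) (hA : A ∈ S)
    {k : G} (hk : k ∈ B) (hk1 : k ≠ 1) : conjBy A k ≠ A := by
  intro h1
  obtain ⟨a, ha, ha1⟩ := exists_mem_ne_one_of_ne_bot (hL.hS.ne_bot A hA)
  have h2 : a * k * a⁻¹ * k⁻¹ ∈ A ⊓ C := by
    refine Subgroup.mem_inf.2 ⟨?_, hL.comm_mem_C ha hk⟩
    have : k * a⁻¹ * k⁻¹ ∈ conjBy A k := conj_mem_conjBy (A.inv_mem ha)
    rw [h1] at this
    have := A.mul_mem ha this
    have e : a * k * a⁻¹ * k⁻¹ = a * (k * a⁻¹ * k⁻¹) := by group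
    rw [e]; exact this
  rw [hL.inf_AC, Subgroup.mem_bot] at h2
  apply hk1
  apply hL.ct a ha ha1 k hk
  have e : a * k = (a * k * a⁻¹ * k⁻¹) * k * a := by group
  rw [e, h2, one_mul]

/-- the key step: for a line partner `F` of `E` there is a partner `F₁` of `F` with
`⟨Λ_F, F₁⟩ ≤ ⟨Λ_E, E₁⟩` -/
theorem lineGen_step (hS : IsRootSubgroupSet S) (hconj : IsConjClassOfSubgroups S)
    (hcc : ∃ E ∈ S, ∃ F ∈ S, RootCommutatorCase S E F) {E E₁ F : Subgroup G} (hE : E ∈ S)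
    (hE₁ : E₁ ∈ S) (hr : IsRankOnePair E E₁) (hFl : F ∈ linePartners S E) :
    ∃ F₁ ∈ S, IsRankOnePair F F₁ ∧ lineGen S F F₁ ≤ lineGen S E E₁ := by
  have hall := hall_of_conjClass hS hconj ⟨E, hE, E₁, hE₁, hr⟩
  have hFS : F ∈ S := hFl.1.1
  have hFE : F ≠ E := hFl.1.2.1
  have hcomm : ⁅E, F⁆ = ⊥ := hFl.1.2.2
  have ctx := lineCtx_of_partition hS hall hE hFS hcomm hFl.2
  have hFR : F ≤ lineGen S E E₁ := linePartner_le_lineGen hFl
  have hER : E ≤ lineGen S E E₁ := left_le_lineGen hS hconj hcc hE hE₁ hr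
  rcases hS.pair F hFS E₁ hE₁ with h1 | h1 | h1
  · exact absurd h1 (ctx.ne_bot_partner hFS hE le_sup_right le_sup_left hFE hE₁ hr)
  · refine ⟨E₁, hE₁, h1, sup_le ?_ right_le_lineGen⟩
    apply iSup₂_le
    intro C hC
    exact linePartner_le_of_rankOne hS hconj hcc hE hE₁ hr hFS hFR h1 hC
  · have hK : ⁅F, E₁⁆ ∈ S := h1.1
    obtain ⟨F₁', hF₁', hrF, hKE⟩ := ctx.exists_partner_special hFS hE le_sup_right le_sup_left hFE
      le_rfl hE₁ hr hK
    have hKEl := (commutator_mem_linePartners hS hall hE hF₁' hKE).1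
    have hKER : ⁅E, F₁'⁆ ≤ lineGen S E E₁ := linePartner_le_lineGen hKEl
    have hKR : ⁅F, E₁⁆ ≤ lineGen S E E₁ :=
      (commutator_le_sup' F E₁).trans (sup_le hFR right_le_lineGen)
    obtain ⟨k, hk, hk1⟩ := exists_mem_ne_one_of_ne_bot (hS.ne_bot _ hK)
    have hL := ctx.special_lineConfig hFS hE le_sup_right le_sup_left hFE hE₁ hr hK
    have hF'S : conjBy E k ∈ S := hS.conj_mem E hE k
    have hF'R : conjBy E k ≤ lineGen S E E₁ := conjBy_le_of_mem hER (hKR hk)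
    have hrF' : IsRankOnePair (conjBy E k) E₁ := LineCtx.special_conj_rankOne hr h1 hk
    have hF'ne : conjBy E k ≠ E := hL.conjBy_A_ne hE hk hk1
    have hF'N : conjBy E k ≤ E ⊔ F := hL.conjBy_A_le_N hk
    have hmem : conjBy E k ∈ membersIn S (F ⊔ E) := ⟨hF'S, by rw [sup_comm]; exact hF'N⟩
    rw [ctx.special_membersIn hE hFS le_sup_left le_sup_right (Ne.symm hFE) hF₁' hrF hKE] at hmem
    rcases hmem with ⟨k', hk', hk'F⟩ | hmem
    · simp only at hk'F
      have hk'R : k' ∈ lineGen S E E₁ := hKER hk'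
      refine ⟨conjBy E₁ k'⁻¹, hS.conj_mem E₁ hE₁ k'⁻¹, ?_, sup_le ?_ ?_⟩
      · have := isRankOnePair_conjBy hrF' k'⁻¹
        rwa [← hk'F, conjBy_inv_conjBy] at this
      · apply iSup₂_le
        intro C hC
        have h2 := linePartners_conj hS k' hC
        rw [hk'F] at h2
        have h3 := linePartner_le_of_rankOne hS hconj hcc hE hE₁ hr hF'S hF'R hrF' h2
        have := conjBy_le_of_mem h3 (Subgroup.inv_mem _ hk'R)
        rwa [conjBy_inv_conjBy] at this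
      · exact conjBy_le_of_mem right_le_lineGen (Subgroup.inv_mem _ hk'R)
    · rw [Set.mem_singleton_iff] at hmem
      exact absurd hmem hF'ne

/-- `⟨Λ_A, B⟩ = G` for a rank one pair `(A, B)` in a nondegenerate class -/
theorem lineGen_eq_top (hS : IsRootSubgroupClass S)
    (hcc : ∃ E ∈ S, ∃ F ∈ S, RootCommutatorCase S E F) {A B : Subgroup G} (hA : A ∈ S)
    (hB : B ∈ S) (hr : IsRankOnePair A B) : lineGen S A B = ⊤ := by
  have hRS := hS.1
  have hconj := hS.2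
  have key : ∀ E, Relation.ReflTransGen (EAdj S S) A E →
      ∃ E₁ ∈ S, IsRankOnePair E E₁ ∧ lineGen S E E₁ ≤ lineGen S A B := by
    intro E h
    induction h with
    | refl => exact ⟨B, hB, hr, le_rfl⟩
    | tail _ hbc ih =>
      obtain ⟨E₁, hE₁, hrE, hle⟩ := ih
      obtain ⟨F₁, hF₁, hrF, hle'⟩ := lineGen_step hRS hconj hcc hbc.1 hE₁ hrE hbc.2.2
      exact ⟨F₁, hF₁, hrF, hle'.trans hle⟩
  have hconn := e_connected hRS hconj ⟨A, hA, B, hB, hr⟩ hcc
  rw [eq_top_iff, ← hRS.generates]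
  apply iSup₂_le
  intro E hE
  obtain ⟨E₁, hE₁, hrE, hle⟩ := key E (hconn A hA E hE)
  exact (left_le_lineGen hRS hconj hcc hE hE₁ hrE).trans hle

end Cfsg.Agent.Helper94
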