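import Mathlib
import Cfsg.Prelude.Def_RootSubgroups
import Cfsg.Agent.Lib.Helper67.BaerSuzuki

set_option autoImplicit false

namespace Cfsg.Agent.Helper94.RootInv

open Cfsg

variable {G : Type*} [Group G] {D : Set G}

/-! ### Generalities -/

theorem sq_eq_one (hD : IsRootInvolutionSet D) {d : G} (hd : d ∈ D) : d * d = 1 := by
  have h := hD.orderOf_eq d hd
  have h2 : d ^ 2 = 1 := by rw [← h]; exact pow_orderOf_eq_one d
  rwa [pow_two] at h2

theorem inv_eq (hD : IsRootInvolutionSet D) {d : G} (hd : d ∈ D) : d⁻¹ = d :=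
  inv_eq_of_mul_eq_one_left (sq_eq_one hD hd)

theorem ne_one (hD : IsRootInvolutionSet D) {d : G} (hd : d ∈ D) : d ≠ 1 := by
  intro h
  have h2 := hD.orderOf_eq d hd
  rw [h, orderOf_one] at h2
  omega

theorem not_odd_of_mem (hD : IsRootInvolutionSet D) {d : G} (hd : d ∈ D) : ¬ Odd (orderOf d) := by
  rw [hD.orderOf_eq d hd]
  decide

theorem orderOf_mul_comm' (a b : G) : orderOf (a * b) = orderOf (b * a) := by
  have h : b * a = (MulAut.conj a⁻¹) (a * b) := by simp [MulAut.conj_apply]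
  rw [h, MulEquiv.orderOf_eq]

theorem orderOf_conj' (g x : G) : orderOf (g * x * g⁻¹) = orderOf x := by
  have h : g * x * g⁻¹ = (MulAut.conj g) x := by simp [MulAut.conj_apply]
  rw [h, MulEquiv.orderOf_eq]

theorem oddAdj_symm {a b : G} (h : OddAdj D a b) : OddAdj D b a :=
  ⟨h.2.1, h.1, h.2.2.1.symm, by rw [orderOf_mul_comm' b a]; exact h.2.2.2⟩

theorem rtg_symm {a b : G} (h : Relation.ReflTransGen (OddAdj D) a b) :
    Relation.ReflTransGen (OddAdj D) b a := by
  induction h with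
  | refl => exact Relation.ReflTransGen.refl
  | tail _ hbc ih => exact Relation.ReflTransGen.head (oddAdj_symm hbc) ih

theorem comp_eq_of_rtg {a b : G} (h : Relation.ReflTransGen (OddAdj D) a b) :
    elemComponentOf (OddAdj D) D a = elemComponentOf (OddAdj D) D b := by
  ext d; constructor
  · rintro ⟨hd, h1⟩; exact ⟨hd, (rtg_symm h).trans h1⟩
  · rintro ⟨hd, h1⟩; exact ⟨hd, h.trans h1⟩

theorem exists_adj_of_nontrivial {a : G}
    (h : ∃ a' ∈ elemComponentOf (OddAdj D) D a, a' ≠ a) : ∃ x, OddAdj D a x := by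
  obtain ⟨a', ⟨_, hrtg⟩, hne⟩ := h
  rcases Relation.ReflTransGen.cases_head hrtg with h | ⟨x, hax, _⟩
  · exact absurd h.symm hne
  · exact ⟨x, hax⟩

theorem isolated_iff {w : G} : IsIsolatedElem (OddAdj D) D w ↔
    w ∈ D ∧ ∀ b ∈ D, b ≠ w → ¬ Odd (orderOf (w * b)) := by
  constructor
  · rintro ⟨hw, h⟩
    exact ⟨hw, fun b hb hne hodd => (h b).1 ⟨hw, hb, hne.symm, hodd⟩⟩
  · rintro ⟨hw, h⟩
    refine ⟨hw, fun b => ⟨fun hab => h b hab.2.1 hab.2.2.1.symm hab.2.2.2, fun hba => ?_⟩⟩
    have h' := oddAdj_symm hba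
    exact h b h'.2.1 h'.2.2.1.symm h'.2.2.2

theorem isolated_conj (hD : IsRootInvolutionSet D) {w : G}
    (hw : IsIsolatedElem (OddAdj D) D w) (g : G) :
    IsIsolatedElem (OddAdj D) D (g * w * g⁻¹) := by
  rw [isolated_iff] at hw ⊢
  refine ⟨hD.conj_mem w hw.1 g, fun b hb hne hodd => ?_⟩
  apply hw.2 (g⁻¹ * b * g) (by simpa using hD.conj_mem b hb g⁻¹)
  · intro h; apply hne; rw [← h]; group
  · have h1 : w * (g⁻¹ * b * g) = g⁻¹ * (g * w * g⁻¹ * b) * g⁻¹⁻¹ := by group
    rw [h1, orderOf_conj']; exact hodd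

theorem closure_normal_of_conj {S : Set G} (h : ∀ s ∈ S, ∀ g : G, g * s * g⁻¹ ∈ S) :
    (Subgroup.closure S).Normal := by
  constructor
  intro n hn g
  induction hn using Subgroup.closure_induction with
  | mem x hx => exact Subgroup.subset_closure (h x hx g)
  | one => simp
  | mul x y _ _ hx hy =>
    have h1 : g * (x * y) * g⁻¹ = (g * x * g⁻¹) * (g * y * g⁻¹) := by group
    rw [h1]; exact mul_mem hx hy
  | inv x _ hx =>
    have h1 : g * x⁻¹ * g⁻¹ = (g * x * g⁻¹)⁻¹ := by group
    rw [h1]; exact inv_mem hx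

/-! ### Two involutions with product of order dividing 4 generate a 2-group -/

theorem pow_four_of_mem_closure_pair {a b : G} (ha : a * a = 1) (hb : b * b = 1)
    (hab : (a * b) ^ 4 = 1) {x : G} (hx : x ∈ Subgroup.closure ({a, b} : Set G)) : x ^ 4 = 1 := by
  have hai : a⁻¹ = a := inv_eq_of_mul_eq_one_left ha
  have hbi : b⁻¹ = b := inv_eq_of_mul_eq_one_left hb
  have h3 : (a * b) ^ 3 * a = b := by
    have h31 : (a * b) ^ 3 * (a * b) = 1 := by rw [← pow_succ]; exact hab
    have h32 : (a * b) ^ 3 = (a * b)⁻¹ := eq_inv_of_mul_eq_one_left h31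
    rw [h32, mul_inv_rev, hai, hbi, mul_assoc, ha, mul_one]
  have stepa : ∀ x : G, (∃ k : ℕ, x = (a * b) ^ k ∨ x = (a * b) ^ k * a) →
      ∃ k : ℕ, x * a = (a * b) ^ k ∨ x * a = (a * b) ^ k * a := by
    rintro x ⟨k, rfl | rfl⟩
    · exact ⟨k, Or.inr rfl⟩
    · exact ⟨k, Or.inl (by rw [mul_assoc, ha, mul_one])⟩
  have stepb : ∀ x : G, (∃ k : ℕ, x = (a * b) ^ k ∨ x = (a * b) ^ k * a) →
      ∃ k : ℕ, x * b = (a * b) ^ k ∨ x * b = (a * b) ^ k * a := by
    rintro x ⟨k, rfl | rfl⟩
    · exact ⟨k + 3, Or.inr (by rw [pow_add, mul_assoc, h3])⟩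
    · exact ⟨k + 1, Or.inl (by rw [pow_succ, mul_assoc])⟩
  have key : ∃ k : ℕ, x = (a * b) ^ k ∨ x = (a * b) ^ k * a := by
    induction hx using Subgroup.closure_induction_right with
    | one => exact ⟨0, Or.inl (by simp)⟩
    | mul_right x hx y hy ih =>
      rcases hy with rfl | rfl
      · exact stepa x ih
      · exact stepb x ih
    | mul_inv_cancel x hx y hy ih =>
      rcases hy with rfl | rfl
      · rw [hai]; exact stepa x ih
      · rw [hbi]; exact stepb x ih
  obtain ⟨k, rfl | rfl⟩ := key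
  · rw [← pow_mul, mul_comm, pow_mul, hab, one_pow]
  · have hconj : a * (a * b) ^ k * a⁻¹ = ((a * b) ^ k)⁻¹ := by
      rw [← conj_pow, ← inv_pow]
      congr 1
      rw [mul_inv_rev, hai, hbi, ← mul_assoc, ha, one_mul]
    have h2 : (a * b) ^ k * a * ((a * b) ^ k * a) = 1 := by
      calc (a * b) ^ k * a * ((a * b) ^ k * a)
          = (a * b) ^ k * (a * (a * b) ^ k * a⁻¹) := by rw [hai]; group
        _ = 1 := by rw [hconj, mul_inv_cancel]
    have : ((a * b) ^ k * a) ^ 4 = (((a * b) ^ k * a) * ((a * b) ^ k * a)) ^ 2 := by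
      rw [← pow_two, ← pow_mul]
    rw [this, h2, one_pow]

theorem isPGroup_two_pair {a b : G} (ha : a * a = 1) (hb : b * b = 1)
    (hab : (a * b) ^ 4 = 1) : IsPGroup 2 ↥(Subgroup.zpowers a ⊔ Subgroup.zpowers b) := by
  have hle : Subgroup.zpowers a ⊔ Subgroup.zpowers b ≤ Subgroup.closure ({a, b} : Set G) := by
    apply sup_le
    · rw [Subgroup.zpowers_le]; exact Subgroup.subset_closure (by simp)
    · rw [Subgroup.zpowers_le]; exact Subgroup.subset_closure (by simp)
  intro g
  refine ⟨2, ?_⟩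
  apply Subtype.ext
  have := pow_four_of_mem_closure_pair ha hb hab (hle g.2)
  simpa using this

/-! ### Isolated vertices lie in every Sylow 2-subgroup -/

theorem isolated_mem_sylow [Finite G] (hD : IsRootInvolutionSet D) {w : G}
    (hw : IsIsolatedElem (OddAdj D) D w) (Q : Sylow 2 G) : w ∈ Q := by
  apply Cfsg.Agent.Helper67.baer_suzuki_elt w _ Q
  intro g
  have hw' := isolated_conj hD hw g
  have hww : w * w = 1 := sq_eq_one hD hw.1
  have hww' : (g * w * g⁻¹) * (g * w * g⁻¹) = 1 := sq_eq_one hD hw'.1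
  apply isPGroup_two_pair hww hww'
  rcases hD.pair w hw.1 _ hw'.1 with hc | hodd | ⟨h4, -⟩
  · have h2 : (w * (g * w * g⁻¹)) * (w * (g * w * g⁻¹)) = 1 := by
      calc (w * (g * w * g⁻¹)) * (w * (g * w * g⁻¹))
          = w * ((g * w * g⁻¹) * w) * (g * w * g⁻¹) := by group
        _ = w * (w * (g * w * g⁻¹)) * (g * w * g⁻¹) := by rw [← hc]
        _ = (w * w) * ((g * w * g⁻¹) * (g * w * g⁻¹)) := by group
        _ = 1 := by rw [hww, hww', one_mul]
    have : (w * (g * w * g⁻¹)) ^ 4 = ((w * (g * w * g⁻¹)) * (w * (g * w * g⁻¹))) ^ 2 := by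
      rw [← pow_two, ← pow_mul]
    rw [this, h2, one_pow]
  · by_cases heq : g * w * g⁻¹ = w
    · rw [heq, hww, one_pow]
    · exact absurd hodd ((isolated_iff.1 hw).2 _ hw'.1 heq)
  · rw [← h4]; exact pow_orderOf_eq_one _

theorem closure_isolated_le_sylow [Finite G] (hD : IsRootInvolutionSet D) (Q : Sylow 2 G) :
    Subgroup.closure {w | IsIsolatedElem (OddAdj D) D w} ≤ Q := by
  rw [Subgroup.closure_le]
  intro w hw
  exact isolated_mem_sylow hD hw Q

theorem closure_isolated_normal (hD : IsRootInvolutionSet D) :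
    (Subgroup.closure {w | IsIsolatedElem (OddAdj D) D w}).Normal :=
  closure_normal_of_conj (fun _ hs g => isolated_conj hD hs g)

theorem closure_isolated_isPGroup [Finite G] (hD : IsRootInvolutionSet D) :
    IsPGroup 2 ↥(Subgroup.closure {w | IsIsolatedElem (OddAdj D) D w}) := by
  obtain ⟨Q⟩ : Nonempty (Sylow 2 G) := inferInstance
  exact Q.isPGroup'.to_le (closure_isolated_le_sylow hD Q)

theorem closure_isolated_inter [Finite G] (hD : IsRootInvolutionSet D) :
    (Subgroup.closure {w | IsIsolatedElem (OddAdj D) D w} : Set G) ∩ D =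
      {w | IsIsolatedElem (OddAdj D) D w} := by
  ext d
  constructor
  · rintro ⟨hdQ, hdD⟩
    rw [Set.mem_setOf_eq, isolated_iff]
    refine ⟨hdD, fun b hb hne hodd => ?_⟩
    have hN := closure_isolated_normal hD
    have hP := closure_isolated_isPGroup hD
    have h1 : (d * b) ^ 2 ∈ Subgroup.closure {w | IsIsolatedElem (OddAdj D) D w} := by
      have h2 : (d * b) ^ 2 = d * (b * d * b⁻¹) := by rw [pow_two, inv_eq hD hb]; group
      rw [h2]; exact mul_mem hdQ (hN.conj_mem d hdQ b)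
    obtain ⟨k, hk⟩ := hP ⟨(d * b) ^ 2, h1⟩
    have hk' : ((d * b) ^ 2) ^ (2 ^ k) = 1 := by simpa using congrArg Subtype.val hk
    have hdvd : orderOf (d * b) ∣ 2 ^ (k + 1) := by
      apply orderOf_dvd_of_pow_eq_one
      rw [pow_succ', pow_mul]; exact hk'
    have hcop : Nat.Coprime (orderOf (d * b)) (2 ^ (k + 1)) :=
      Nat.Coprime.pow_right _ hodd.coprime_two_right
    have h1 : orderOf (d * b) = 1 := Nat.Coprime.eq_one_of_dvd hcop hdvd
    rw [orderOf_eq_one_iff] at h1
    apply hne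
    calc b = d⁻¹ * (d * b) := by group
      _ = d := by rw [h1, mul_one, inv_eq hD hdD]
  · intro hw
    exact ⟨Subgroup.subset_closure hw, hw.1⟩

/-! ### The key lemma on a four-group in D and an odd partner -/

theorem not_commute_of_odd (hD : IsRootInvolutionSet D) {a b x : G} (ha : a ∈ D) (hb : b ∈ D)
    (hx : x ∈ D) (hab : a * b = b * a) (habD : a * b ∈ D) (hodd : Odd (orderOf (a * x)))
    (hne : x ≠ a) : b * x ≠ x * b := by
  intro hbx
  have hc : Commute b (a * x) := by
    show b * (a * x) = a * x * b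
    rw [← mul_assoc, ← hab, mul_assoc, hbx, mul_assoc]
  have hco : (orderOf b).Coprime (orderOf (a * x)) := by
    rw [hD.orderOf_eq b hb]; exact hodd.coprime_two_left
  have ho := hc.orderOf_mul_eq_mul_orderOf_of_coprime hco
  rw [hD.orderOf_eq b hb] at ho
  have he : b * (a * x) = a * b * x := by rw [hab, mul_assoc]
  rw [he] at ho
  have hn1 : orderOf (a * x) ≠ 1 := by
    intro h1
    rw [orderOf_eq_one_iff] at h1
    apply hne
    calc x = a⁻¹ * (a * x) := by group
      _ = a := by rw [h1, mul_one, inv_eq hD ha]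
  rcases hD.pair (a * b) habD x hx with hc2 | hodd2 | ⟨h4, -⟩
  · have h2 : (a * b * x) ^ 2 = 1 := by
      rw [pow_two]
      calc (a * b * x) * (a * b * x) = (a * b) * (x * (a * b)) * x := by group
        _ = (a * b) * ((a * b) * x) * x := by rw [hc2]
        _ = ((a * b) * (a * b)) * (x * x) := by group
        _ = 1 := by rw [sq_eq_one hD habD, sq_eq_one hD hx, one_mul]
    have h3 := orderOf_dvd_of_pow_eq_one h2
    rw [ho] at h3
    have h4 : orderOf (a * x) ∣ 1 := Nat.dvd_of_mul_dvd_mul_left two_pos (by simpa using h3)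
    exact hn1 (Nat.dvd_one.1 h4)
  · rw [ho] at hodd2
    obtain ⟨m, hm⟩ := hodd2
    omega
  · rw [ho] at h4
    obtain ⟨m, hm⟩ := hodd
    omega

theorem sq_eq_one_of_invert {s t : G} (h1 : s * t * (s * t) = 1) (h2 : s * t⁻¹ * (s * t⁻¹) = 1)
    (hodd : Odd (orderOf t)) : s * s = 1 := by
  have hu : (s * t)⁻¹ = s * t := inv_eq_of_mul_eq_one_left h1
  have hv : (s * t⁻¹)⁻¹ = s * t⁻¹ := inv_eq_of_mul_eq_one_left h2
  have hconj : s * (t * t) * s⁻¹ = (t * t)⁻¹ := by
    calc s * (t * t) * s⁻¹ = (s * t) * (s * t⁻¹)⁻¹ := by group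
      _ = (s * t) * (s * t⁻¹) := by rw [hv]
      _ = (s * t)⁻¹ * (s * t⁻¹)⁻¹ := by rw [hu, hv]
      _ = ((s * t⁻¹) * (s * t))⁻¹ := by group
      _ = ((s * t⁻¹)⁻¹ * (s * t))⁻¹ := by rw [hv]
      _ = (t * t)⁻¹ := by group
  obtain ⟨k, hk⟩ := hodd
  have ht : (t * t) ^ (k + 1) = t := by
    rw [← pow_two, ← pow_mul]
    have h3 : 2 * (k + 1) = orderOf t + 1 := by omega
    rw [h3, pow_succ, pow_orderOf_eq_one, one_mul]
  have hconj2 : s * t * s⁻¹ = t⁻¹ := by
    calc s * t * s⁻¹ = s * (t * t) ^ (k + 1) * s⁻¹ := by rw [ht]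
      _ = (s * (t * t) * s⁻¹) ^ (k + 1) := (conj_pow).symm
      _ = ((t * t)⁻¹) ^ (k + 1) := by rw [hconj]
      _ = ((t * t) ^ (k + 1))⁻¹ := inv_pow _ _
      _ = t⁻¹ := by rw [ht]
  have hst : s * t = t⁻¹ * s := by
    calc s * t = (s * t * s⁻¹) * s := by group
      _ = t⁻¹ * s := by rw [hconj2]
  have h4 : s * s = (s * t) * (t⁻¹ * s) := by group
  rw [h4, ← hst, h1]

theorem eq_of_both_four {a b x : G} (ha : a * a = 1) (hb : b * b = 1) (hx : x * x = 1)
    (hab : a * b = b * a) (hodd : Odd (orderOf (a * x))) (h1 : (b * x) ^ 4 = 1)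
    (h2 : (a * b * x) ^ 4 = 1) : x = a := by
  have hai : a⁻¹ = a := inv_eq_of_mul_eq_one_left ha
  have hbi : b⁻¹ = b := inv_eq_of_mul_eq_one_left hb
  have hxi : x⁻¹ = x := inv_eq_of_mul_eq_one_left hx
  obtain ⟨t, ht⟩ : ∃ t, t = a * x := ⟨_, rfl⟩
  rw [← ht] at hodd
  obtain ⟨s, hs⟩ : ∃ s, s = b * t * b⁻¹ := ⟨_, rfl⟩
  have e1 : s * t * (s * t) = 1 := by
    have h3 : s * t = (a * b * x) ^ 2 := by
      rw [hs, ht, hbi, pow_two]
      calc b * (a * x) * b * (a * x) = (b * a) * x * ((b * a) * x) := by group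
        _ = _ := by rw [← hab]
    rw [h3, ← pow_two, ← pow_mul]; exact h2
  have e2 : s * t⁻¹ * (s * t⁻¹) = 1 := by
    have h3 : s * t⁻¹ = a * (b * x) ^ 2 * a⁻¹ := by
      rw [hs, ht, pow_two]
      calc b * (a * x) * b⁻¹ * (a * x)⁻¹ = (b * a) * x * b⁻¹ * x⁻¹ * a⁻¹ := by group
        _ = (a * b) * x * b * x * a⁻¹ := by rw [← hab, hbi, hxi]
        _ = a * (b * x * (b * x)) * a⁻¹ := by group
    rw [h3]
    calc a * (b * x) ^ 2 * a⁻¹ * (a * (b * x) ^ 2 * a⁻¹)
        = a * ((b * x) ^ 2 * (b * x) ^ 2) * a⁻¹ := by group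
      _ = a * (b * x) ^ 4 * a⁻¹ := by rw [← pow_add]
      _ = 1 := by rw [h1]; group
  have hss := sq_eq_one_of_invert e1 e2 hodd
  have htt : t * t = 1 := by
    have h3 : s * s = b * (t * t) * b⁻¹ := by rw [hs]; group
    rw [h3] at hss
    calc t * t = b⁻¹ * (b * (t * t) * b⁻¹) * b := by group
      _ = 1 := by rw [hss]; group
  have ht1 : t = 1 := by
    have hd : orderOf t ∣ 2 := orderOf_dvd_of_pow_eq_one (by rw [pow_two]; exact htt)
    exact orderOf_eq_one_iff.1 (Nat.Coprime.eq_one_of_dvd hodd.coprime_two_right hd)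
  calc x = a⁻¹ * (a * x) := by group
    _ = a := by rw [← ht, ht1, mul_one, hai]

theorem odd_partner (hD : IsRootInvolutionSet D) {a b x : G} (ha : a ∈ D) (hb : b ∈ D)
    (hx : x ∈ D) (hab : a * b = b * a) (habD : a * b ∈ D) (hodd : Odd (orderOf (a * x)))
    (hne : x ≠ a) : Odd (orderOf (b * x)) ∨ Odd (orderOf (a * b * x)) := by
  rcases hD.pair b hb x hx with hc | ho | ⟨h4, -⟩
  · exact absurd hc (not_commute_of_odd hD ha hb hx hab habD hodd hne)
  · exact Or.inl ho
  · rcases hD.pair (a * b) habD x hx with hc' | ho' | ⟨h4', -⟩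
    · have h1 : a * (a * b) = (a * b) * a := by rw [mul_assoc, hab]
      have h2 : a * (a * b) ∈ D := by rw [← mul_assoc, sq_eq_one hD ha, one_mul]; exact hb
      exact absurd hc' (not_commute_of_odd hD ha habD hx h1 h2 hodd hne)
    · exact Or.inr ho'
    · exfalso; apply hne
      exact eq_of_both_four (sq_eq_one hD ha) (sq_eq_one hD hb) (sq_eq_one hD hx) hab hodd
        (by rw [← h4]; exact pow_orderOf_eq_one _) (by rw [← h4']; exact pow_orderOf_eq_one _)

/-! ### Product partners lie in the component or are isolated -/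

theorem partners_subset (hD : IsRootInvolutionSet D) {a : G} (ha : a ∈ D)
    (hnt : ∃ a' ∈ elemComponentOf (OddAdj D) D a, a' ≠ a) :
    productPartners D a ⊆ elemComponentOf (OddAdj D) D a ∪ {w | IsIsolatedElem (OddAdj D) D w} := by
  rintro b ⟨⟨hbD, hba, hbne⟩, hbaD⟩
  by_cases hbW : IsIsolatedElem (OddAdj D) D b
  · exact Or.inr hbW
  left
  have hab : a * b = b * a := hba.symm
  have habD : a * b ∈ D := by rw [hab]; exact hbaD
  obtain ⟨x, hax⟩ := exists_adj_of_nontrivial hnt
  have hxa : x ≠ a := hax.2.2.1.symm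
  rw [isolated_iff] at hbW
  push Not at hbW
  obtain ⟨y, hy, hyb, hyodd⟩ := hbW hbD
  have key : b ∈ elemComponentOf (OddAdj D) D a ∨ a * b ∈ elemComponentOf (OddAdj D) D a := by
    rcases odd_partner hD ha hbD hax.2.1 hab habD hax.2.2.2 hxa with h | h
    · left
      refine ⟨hbD, ?_⟩
      have hbx : b ≠ x := by
        rintro rfl
        exact not_odd_of_mem hD habD hax.2.2.2
      exact (Relation.ReflTransGen.single hax).tail (oddAdj_symm ⟨hbD, hax.2.1, hbx, h⟩)
    · right
      refine ⟨habD, ?_⟩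
      have habx : a * b ≠ x := by
        intro h'
        have h2 := hax.2.2.2
        rw [← h', ← mul_assoc, sq_eq_one hD ha, one_mul] at h2
        exact not_odd_of_mem hD hbD h2
      exact (Relation.ReflTransGen.single hax).tail (oddAdj_symm ⟨habD, hax.2.1, habx, h⟩)
  rcases key with h | h
  · exact h
  · refine ⟨hbD, ?_⟩
    rcases odd_partner hD hbD ha hy hba hbaD hyodd hyb with h' | h'
    · have hay : a ≠ y := by
        rintro rfl
        exact not_odd_of_mem hD hbaD hyodd
      exact (Relation.ReflTransGen.single ⟨ha, hy, hay, h'⟩).tail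
        (oddAdj_symm ⟨hbD, hy, hyb.symm, hyodd⟩)
    · have hbay : b * a ≠ y := by
        intro h''
        have h2 := hyodd
        rw [← h'', ← mul_assoc, sq_eq_one hD hbD, one_mul] at h2
        exact not_odd_of_mem hD ha h2
      have h3 : OddAdj D (a * b) y := ⟨habD, hy, by rw [hab]; exact hbay, by rw [hab]; exact h'⟩
      exact (h.2.tail h3).tail (oddAdj_symm ⟨hbD, hy, hyb.symm, hyodd⟩)

/-! ### Commutators across components -/

theorem commutator_mem (hD : IsRootInvolutionSet D) {a b : G} (ha : a ∈ D) (hb : b ∈ D)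
    (hnta : ∃ a' ∈ elemComponentOf (OddAdj D) D a, a' ≠ a)
    (hntb : ∃ b' ∈ elemComponentOf (OddAdj D) D b, b' ≠ b)
    (hne : elemComponentOf (OddAdj D) D a ≠ elemComponentOf (OddAdj D) D b) :
    a * b * a⁻¹ * b⁻¹ ∈ Subgroup.closure {w | IsIsolatedElem (OddAdj D) D w} := by
  have haa := sq_eq_one hD ha
  have hbb := sq_eq_one hD hb
  rw [inv_eq hD ha, inv_eq hD hb]
  rcases hD.pair a ha b hb with hc | hodd | ⟨h4, h2D⟩
  · have h1 : a * b * a * b = 1 := by
      calc a * b * a * b = (a * b) * (a * b) := by group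
        _ = (a * b) * (b * a) := by rw [← hc]
        _ = a * (b * b) * a := by group
        _ = 1 := by rw [hbb, mul_one, haa]
    rw [h1]; exact one_mem _
  · exfalso; apply hne
    by_cases hab : a = b
    · rw [hab]
    · exact comp_eq_of_rtg (Relation.ReflTransGen.single ⟨ha, hb, hab, hodd⟩)
  · have hc : a * b * a * b = (a * b) ^ 2 := by rw [pow_two]; group
    rw [hc]
    apply Subgroup.subset_closure
    obtain ⟨c, hcdef⟩ : ∃ c, c = (a * b) ^ 2 := ⟨_, rfl⟩
    rw [← hcdef] at h2D ⊢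
    have hce : c = a * b * a * b := by rw [hcdef, pow_two]; group
    by_contra hcW
    have hcc : c * c = 1 := sq_eq_one hD h2D
    have hcaD : c * a ∈ D := by
      have h1 : c * a = a * (b * a * b⁻¹) * a⁻¹ := by
        rw [inv_eq hD ha, inv_eq hD hb, hce]; group
      rw [h1]; exact hD.conj_mem _ (hD.conj_mem a ha b) a
    have hcbD : c * b ∈ D := by
      have h1 : c * b = a * b * a⁻¹ := by
        rw [inv_eq hD ha, hce, mul_assoc (a * b * a), hbb, mul_one]
      rw [h1]; exact hD.conj_mem b hb a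
    have hca_ne : c ≠ a := by
      rintro rfl
      rw [haa] at hcaD
      exact ne_one hD hcaD rfl
    have hcb_ne : c ≠ b := by
      rintro rfl
      rw [hbb] at hcbD
      exact ne_one hD hcbD rfl
    have hca : c * a = a * c := by
      have h1 : a * c * a = c⁻¹ := by
        apply eq_inv_of_mul_eq_one_left
        rw [hce]
        calc a * (a * b * a * b) * a * (a * b * a * b)
            = (a * a) * b * a * b * (a * a) * b * a * b := by group
          _ = b * a * (b * b) * a * b := by rw [haa]; group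
          _ = b * (a * a) * b := by rw [hbb]; group
          _ = 1 := by rw [haa, mul_one, hbb]
      rw [inv_eq hD h2D] at h1
      calc c * a = (a * c * a) * a := by rw [h1]
        _ = a * c * (a * a) := by group
        _ = a * c := by rw [haa, mul_one]
    have hcb : c * b = b * c := by
      have h1 : b * c * b = c⁻¹ := by
        apply eq_inv_of_mul_eq_one_left
        rw [hce]
        calc b * (a * b * a * b) * b * (a * b * a * b)
            = b * a * b * a * (b * b) * a * b * a * b := by group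
          _ = b * a * b * (a * a) * b * a * b := by rw [hbb]; group
          _ = b * a * (b * b) * a * b := by rw [haa]; group
          _ = b * (a * a) * b := by rw [hbb]; group
          _ = 1 := by rw [haa, mul_one, hbb]
      rw [inv_eq hD h2D] at h1
      calc c * b = (b * c * b) * b := by rw [h1]
        _ = b * c * (b * b) := by group
        _ = b * c := by rw [hbb, mul_one]
    have hXa : c ∈ productPartners D a := ⟨⟨h2D, hca, hca_ne⟩, hcaD⟩
    have hXb : c ∈ productPartners D b := ⟨⟨h2D, hcb, hcb_ne⟩, hcbD⟩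
    rcases partners_subset hD ha hnta hXa with h1 | h1
    · rcases partners_subset hD hb hntb hXb with h2 | h2
      · apply hne
        rw [comp_eq_of_rtg h1.2, comp_eq_of_rtg h2.2]
      · exact hcW h2
    · exact hcW h1

end Cfsg.Agent.Helper94.RootInv
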