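import Mathlib
import Cfsg.Prelude.Def_RootSubgroups
import Cfsg.Prelude.Def_QuasithinSetup
import Cfsg.Agent.Lib.Helper94.RootInv
import Cfsg.Agent.Lib.Helper22.Radical

set_option autoImplicit false

namespace Cfsg.Agent.Helper94.RootRad

open Cfsg Cfsg.Agent.Helper94.RootInv
open scoped commutatorElement

variable {G : Type*} [Group G] {D : Set G}

/-! ### Connectedness gives conjugacy -/

theorem conj_of_oddAdj (hD : IsRootInvolutionSet D) {a b : G} (h : OddAdj D a b) :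
    ∃ g : G, b = g * a * g⁻¹ := by
  obtain ⟨ha, hb, -, k, hk⟩ := h
  have haa := sq_eq_one hD ha
  have hbb := sq_eq_one hD hb
  have hai := inv_eq hD ha
  have hbi := inv_eq hD hb
  obtain ⟨t, ht⟩ : ∃ t, t = a * b := ⟨_, rfl⟩
  rw [← ht] at hk
  have hconj : a * t * a⁻¹ = t⁻¹ := by
    rw [ht, mul_inv_rev, hai, hbi, ← mul_assoc, haa, one_mul]
  have hconjk : a * t ^ k * a⁻¹ = (t ^ k)⁻¹ := by
    rw [← conj_pow, hconj, inv_pow]
  have h2k : t ^ (2 * k) = b * a := by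
    have h1 : t ^ (2 * k) * t = 1 := by rw [← pow_succ, ← hk]; exact pow_orderOf_eq_one t
    have h2 : t ^ (2 * k) = t⁻¹ := eq_inv_of_mul_eq_one_left h1
    rw [h2, ht, mul_inv_rev, hai, hbi]
  refine ⟨t ^ k, ?_⟩
  calc b = (b * a) * a := by rw [mul_assoc, haa, mul_one]
    _ = t ^ (2 * k) * a := by rw [h2k]
    _ = t ^ k * t ^ k * a := by rw [two_mul, pow_add]
    _ = t ^ k * (a * a) * t ^ k * a := by rw [haa, mul_one]
    _ = t ^ k * a * (a * t ^ k * a⁻¹) := by rw [hai]; group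
    _ = t ^ k * a * (t ^ k)⁻¹ := by rw [hconjk]

theorem conj_of_rtg (hD : IsRootInvolutionSet D) {a b : G}
    (h : Relation.ReflTransGen (OddAdj D) a b) : ∃ g : G, b = g * a * g⁻¹ := by
  induction h with
  | refl => exact ⟨1, by simp⟩
  | tail _ hbc ih =>
    obtain ⟨g, rfl⟩ := ih
    obtain ⟨g', hg'⟩ := conj_of_oddAdj hD hbc
    exact ⟨g' * g, by rw [hg']; group⟩

theorem normal_eq_top_of_mem (hD : IsRootInvolutionSet D) (hc : IsConnectedSet (OddAdj D) D)
    {N : Subgroup G} (hN : N.Normal) {d : G} (hd : d ∈ D) (hdN : d ∈ N) : N = ⊤ := by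
  rw [eq_top_iff, ← hD.generates, Subgroup.closure_le]
  intro e he
  obtain ⟨g, rfl⟩ := conj_of_rtg hD (hc d hd e he)
  exact hN.conj_mem d hdN g

theorem exists_partner (hD : IsRootInvolutionSet D) (hc : IsConnectedSet (OddAdj D) D)
    (hDD : (D ∩ commutingProducts D).Nonempty) {d : G} (hd : d ∈ D) :
    ∃ b ∈ D, b ≠ d ∧ d * b = b * d ∧ d * b ∈ D := by
  obtain ⟨a, haD, a₁, ha₁, a₂, ha₂, hcomm, hne, rfl⟩ := hDD
  obtain ⟨g, rfl⟩ := conj_of_rtg hD (hc a₁ ha₁ d hd)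
  refine ⟨g * a₂ * g⁻¹, hD.conj_mem a₂ ha₂ g, ?_, ?_, ?_⟩
  · intro h
    have h1 : a₂ = a₁ := by simpa using h
    apply hne
    rw [h1]
    exact sq_eq_one hD ha₁
  · calc g * a₁ * g⁻¹ * (g * a₂ * g⁻¹) = g * (a₁ * a₂) * g⁻¹ := by group
      _ = g * (a₂ * a₁) * g⁻¹ := by rw [hcomm]
      _ = g * a₂ * g⁻¹ * (g * a₁ * g⁻¹) := by group
  · have h1 : g * a₁ * g⁻¹ * (g * a₂ * g⁻¹) = g * (a₁ * a₂) * g⁻¹ := by group
    rw [h1]
    exact hD.conj_mem _ haD g

theorem exists_oddAdj (hD : IsRootInvolutionSet D) (hc : IsConnectedSet (OddAdj D) D)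
    (hDD : (D ∩ commutingProducts D).Nonempty) : ∃ d e : G, OddAdj D d e := by
  obtain ⟨a, haD, a₁, ha₁, a₂, ha₂, hcomm, hne, rfl⟩ := hDD
  rcases Relation.ReflTransGen.cases_head (hc a₁ ha₁ a₂ ha₂) with h | ⟨x, hax, _⟩
  · exfalso
    apply hne
    rw [← h]
    exact sq_eq_one hD ha₁
  · exact ⟨a₁, x, hax⟩

/-! ### Conjugates under a proper normal subgroup -/

theorem pow_four_conj (hD : IsRootInvolutionSet D) (hc : IsConnectedSet (OddAdj D) D)
    (hDD : (D ∩ commutingProducts D).Nonempty) {N : Subgroup G} (hN : N.Normal) (hNtop : N ≠ ⊤)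
    {d : G} (hd : d ∈ D) {n : G} (hn : n ∈ N) : (d * (n * d * n⁻¹)) ^ 4 = 1 := by
  have hDN : ∀ e ∈ D, e ∉ N := fun e he heN => hNtop (normal_eq_top_of_mem hD hc hN he heN)
  obtain ⟨d', hd'⟩ : ∃ d', d' = n * d * n⁻¹ := ⟨_, rfl⟩
  rw [← hd']
  have hd'D : d' ∈ D := by rw [hd']; exact hD.conj_mem d hd n
  by_cases heq : d' = d
  · rw [heq, sq_eq_one hD hd, one_pow]
  have hnotodd : ¬ Odd (orderOf (d * d')) := by
    intro hodd
    obtain ⟨b, hb, hbd, hcomm, hprod⟩ := exists_partner hD hc hDD hd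
    haveI := hN
    have hπn : (QuotientGroup.mk' N) n = 1 := (QuotientGroup.eq_one_iff n).2 hn
    have hπd' : (QuotientGroup.mk' N) d' = (QuotientGroup.mk' N) d := by
      rw [hd', map_mul, map_mul, map_inv, hπn]; simp
    have key : ∀ x y : G, x * x = 1 → Odd (orderOf y) →
        (QuotientGroup.mk' N) y = (QuotientGroup.mk' N) x → x ∈ N := by
      rintro x y hxx ⟨k, hk⟩ hxy
      have h1 : (QuotientGroup.mk' N) y ^ (2 * k + 1) = 1 := by
        rw [← map_pow, ← hk, pow_orderOf_eq_one, map_one]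
      have h2 : (QuotientGroup.mk' N) x ^ (2 * k) = 1 := by
        rw [pow_mul, ← map_pow, pow_two, hxx, map_one, one_pow]
      rw [hxy, pow_succ, h2, one_mul] at h1
      exact (QuotientGroup.eq_one_iff x).1 h1
    rcases odd_partner hD hd hb hd'D hcomm hprod hodd heq with h | h
    · have h1 : d * b ∈ N := by
        apply key (d * b) (b * d') (sq_eq_one hD hprod) h
        rw [map_mul, hπd', ← map_mul, hcomm]
      exact hDN _ hprod h1
    · have h1 : b ∈ N := by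
        apply key b (d * b * d') (sq_eq_one hD hb) h
        rw [map_mul, hπd', ← map_mul]
        congr 1
        rw [hcomm, mul_assoc, sq_eq_one hD hd, mul_one]
      exact hDN _ hb h1
  rcases hD.pair d hd d' hd'D with hcm | hodd | ⟨h4, -⟩
  · have h2 : (d * d') * (d * d') = 1 := by
      calc (d * d') * (d * d') = d * (d' * d) * d' := by group
        _ = d * (d * d') * d' := by rw [hcm]
        _ = (d * d) * (d' * d') := by group
        _ = 1 := by rw [sq_eq_one hD hd, sq_eq_one hD hd'D, one_mul]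
    have h3 : (d * d') ^ 4 = ((d * d') * (d * d')) ^ 2 := by rw [← pow_two, ← pow_mul]
    rw [h3, h2, one_pow]
  · exact absurd hodd hnotodd
  · rw [← h4]; exact pow_orderOf_eq_one _

/-! ### The Baer–Suzuki step -/

theorem conj_pair_pow_four {N : Subgroup G} {d : G} (hdd : d * d = 1)
    (h4 : ∀ n ∈ N, (d * (n * d * n⁻¹)) ^ 4 = 1) {m₁ m₂ : G} (h₁ : m₁ ∈ N) (h₂ : m₂ ∈ N) :
    ((m₁ * d * m₁⁻¹) * (m₂ * d * m₂⁻¹)) ^ 4 = 1 := by
  have h := h4 (m₁⁻¹ * m₂) (mul_mem (inv_mem h₁) h₂)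
  have h1 : (m₁ * d * m₁⁻¹) * (m₂ * d * m₂⁻¹)
      = m₁ * (d * (m₁⁻¹ * m₂ * d * (m₁⁻¹ * m₂)⁻¹)) * m₁⁻¹ := by group
  rw [h1, conj_pow, h]
  group

theorem exists_conj_eq {N : Subgroup G} [N.Normal] {d : G} {h : G}
    (hh : h ∈ N ⊔ Subgroup.zpowers d) : ∃ m ∈ N, h * d * h⁻¹ = m * d * m⁻¹ := by
  have h1 : h ∈ ((N ⊔ Subgroup.zpowers d : Subgroup G) : Set G) := hh
  rw [Subgroup.normal_mul] at h1
  obtain ⟨m, hm, z, hz, rfl⟩ := Set.mem_mul.1 h1
  refine ⟨m, hm, ?_⟩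
  obtain ⟨j, rfl⟩ := Subgroup.mem_zpowers_iff.1 hz
  have h2 : d ^ j * d * (d ^ j)⁻¹ = d := by
    have : Commute (d ^ j) d := (Commute.refl d).zpow_left j
    rw [this.eq, mul_assoc, mul_inv_cancel, mul_one]
  calc m * d ^ j * d * (m * d ^ j)⁻¹ = m * (d ^ j * d * (d ^ j)⁻¹) * m⁻¹ := by group
    _ = m * d * m⁻¹ := by rw [h2]

theorem commutator_mem_pCore [Finite G] {N : Subgroup G} (hN : N.Normal) {d : G} (hdd : d * d = 1)
    (h4 : ∀ n ∈ N, (d * (n * d * n⁻¹)) ^ 4 = 1) {n : G} (hn : n ∈ N) :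
    d * n * d⁻¹ * n⁻¹ ∈ pCore 2 G := by
  haveI := hN
  obtain ⟨H, hH⟩ : ∃ H : Subgroup G, H = N ⊔ Subgroup.zpowers d := ⟨_, rfl⟩
  have hNH : N ≤ H := by rw [hH]; exact le_sup_left
  have hdH : d ∈ H := by rw [hH]; exact (le_sup_right : Subgroup.zpowers d ≤ _) (Subgroup.mem_zpowers d)
  obtain ⟨dH, hdHdef⟩ : ∃ dH : ↥H, dH = ⟨d, hdH⟩ := ⟨_, rfl⟩
  have hdHval : (dH : G) = d := by rw [hdHdef]
  -- conjugates of d in H have the form m d m⁻¹ with m ∈ N
  have hform : ∀ h : ↥H, ∃ m ∈ N, ((h * dH * h⁻¹ : ↥H) : G) = m * d * m⁻¹ := by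
    intro h
    have hh : (h : G) ∈ N ⊔ Subgroup.zpowers d := by rw [← hH]; exact h.2
    obtain ⟨m, hm, he⟩ := exists_conj_eq hh
    exact ⟨m, hm, by rw [Subgroup.coe_mul, Subgroup.coe_mul, Subgroup.coe_inv, hdHval, he]⟩
  have hconj : ∀ (h : ↥H) (Q : Sylow 2 ↥H), h * dH * h⁻¹ ∈ Q := by
    intro h Q
    apply Cfsg.Agent.Helper67.baer_suzuki_elt (h * dH * h⁻¹) _ Q
    intro g
    obtain ⟨m₁, hm₁, he₁⟩ := hform h
    have hg : g * (h * dH * h⁻¹) * g⁻¹ = (g * h) * dH * (g * h)⁻¹ := by group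
    obtain ⟨m₂, hm₂, he₂⟩ := hform (g * h)
    rw [hg]
    have hsq : ∀ m : G, (m * d * m⁻¹) * (m * d * m⁻¹) = 1 := by
      intro m
      calc (m * d * m⁻¹) * (m * d * m⁻¹) = m * (d * d) * m⁻¹ := by group
        _ = 1 := by rw [hdd]; group
    apply isPGroup_two_pair
    · apply Subtype.ext
      rw [Subgroup.coe_mul, he₁, Subgroup.coe_one]
      exact hsq m₁
    · apply Subtype.ext
      rw [Subgroup.coe_mul, he₂, Subgroup.coe_one]
      exact hsq m₂
    · apply Subtype.ext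
      rw [Subgroup.coe_pow, Subgroup.coe_mul, he₁, he₂, Subgroup.coe_one]
      exact conj_pair_pow_four hdd h4 hm₁ hm₂
  -- the normal closure of d in H is a normal 2-subgroup of H
  obtain ⟨Q⟩ : Nonempty (Sylow 2 ↥H) := inferInstance
  have hP0le : Subgroup.normalClosure ({dH} : Set ↥H) ≤ Q := by
    rw [Subgroup.normalClosure, Subgroup.closure_le]
    intro y hy
    rw [Group.mem_conjugatesOfSet_iff] at hy
    obtain ⟨a, ha, hay⟩ := hy
    rw [Set.mem_singleton_iff] at ha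
    rw [ha, isConj_iff] at hay
    obtain ⟨c, rfl⟩ := hay
    exact hconj c Q
  have hP0 : IsPGroup 2 ↥(Subgroup.normalClosure ({dH} : Set ↥H)) := Q.isPGroup'.to_le hP0le
  have hdP0 : dH ∈ Subgroup.normalClosure ({dH} : Set ↥H) :=
    Subgroup.subset_normalClosure (Set.mem_singleton dH)
  -- the relevant subgroup of G
  obtain ⟨P1, hP1⟩ : ∃ P1 : Subgroup G, P1 =
      (Subgroup.normalClosure ({dH} : Set ↥H) ⊓ N.subgroupOf H).map H.subtype := ⟨_, rfl⟩
  have hP1N : P1 ≤ N := by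
    rw [hP1]
    rintro x ⟨y, hy, rfl⟩
    exact hy.2
  have hP1p : IsPGroup 2 ↥P1 := by
    rw [hP1]
    exact (hP0.to_le inf_le_left).map _
  have hnorm : (Subgroup.normalClosure ({dH} : Set ↥H) ⊓ N.subgroupOf H).Normal := inferInstance
  have hconjP1 : ∀ m ∈ N, ∀ x ∈ P1, m * x * m⁻¹ ∈ P1 := by
    intro m hm x hx
    rw [hP1] at hx ⊢
    obtain ⟨y, hy, rfl⟩ := hx
    refine ⟨⟨m, hNH hm⟩ * y * ⟨m, hNH hm⟩⁻¹, hnorm.conj_mem y hy _, ?_⟩
    simp
  have hNnorm : N ≤ Subgroup.normalizer (P1 : Set G) := by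
    intro m hm
    rw [Subgroup.mem_normalizer_iff]
    intro x
    constructor
    · exact hconjP1 m hm x
    · intro hx
      have h1 := hconjP1 m⁻¹ (inv_mem hm) _ hx
      have h2 : m⁻¹ * (m * x * m⁻¹) * m⁻¹⁻¹ = x := by group
      rwa [h2] at h1
  have hP1core : P1 ≤ pCore 2 G :=
    Cfsg.Agent.Helper22.le_pCore_of_subnormal hN.isSubnormal hP1N hNnorm hP1p
  apply hP1core
  rw [hP1]
  have hnH : n ∈ H := hNH hn
  refine ⟨dH * ⟨n, hnH⟩ * dH⁻¹ * ⟨n, hnH⟩⁻¹, ⟨?_, ?_⟩, ?_⟩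
  · have h1 : dH * ⟨n, hnH⟩ * dH⁻¹ * (⟨n, hnH⟩ : ↥H)⁻¹ = dH * (⟨n, hnH⟩ * dH⁻¹ * (⟨n, hnH⟩ : ↥H)⁻¹) := by
      group
    rw [h1]
    exact mul_mem hdP0 (Subgroup.normalClosure_normal.conj_mem _ (inv_mem hdP0) _)
  · show dH * ⟨n, hnH⟩ * dH⁻¹ * (⟨n, hnH⟩ : ↥H)⁻¹ ∈ N.subgroupOf H
    rw [Subgroup.mem_subgroupOf]
    simp only [Subgroup.coe_mul, Subgroup.coe_inv, hdHval]
    exact mul_mem (hN.conj_mem n hn d) (inv_mem hn)
  · simp [hdHval]

/-! ### Proper normal subgroups lie in `O_{2,Z}(G)` -/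

theorem mem_twoZCore_iff {g : G} : g ∈ twoZCore G ↔
    ∀ x : G, x * g * x⁻¹ * g⁻¹ ∈ pCore 2 G := by
  show (QuotientGroup.mk' (pCore 2 G)) g ∈ Subgroup.center (G ⧸ pCore 2 G) ↔ _
  rw [Subgroup.mem_center_iff]
  constructor
  · intro h x
    have h1 := h ((QuotientGroup.mk' (pCore 2 G)) x)
    rw [← QuotientGroup.eq_one_iff]
    have h2 : ((x * g * x⁻¹ * g⁻¹ : G) : G ⧸ pCore 2 G)
        = (QuotientGroup.mk' (pCore 2 G)) x * (QuotientGroup.mk' (pCore 2 G)) g *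
          ((QuotientGroup.mk' (pCore 2 G)) x)⁻¹ * ((QuotientGroup.mk' (pCore 2 G)) g)⁻¹ := by
      simp
    rw [h2, h1]
    group
  · intro h y
    obtain ⟨x, rfl⟩ := QuotientGroup.mk'_surjective (pCore 2 G) y
    have h1 := (QuotientGroup.eq_one_iff _).2 (h x)
    have h2 : ((x * g * x⁻¹ * g⁻¹ : G) : G ⧸ pCore 2 G)
        = (QuotientGroup.mk' (pCore 2 G)) x * (QuotientGroup.mk' (pCore 2 G)) g *
          ((QuotientGroup.mk' (pCore 2 G)) x)⁻¹ * ((QuotientGroup.mk' (pCore 2 G)) g)⁻¹ := by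
      simp
    rw [h2] at h1
    have h3 := mul_inv_eq_one.1 h1
    have h4 := mul_inv_eq_iff_eq_mul.1 h3
    exact h4

theorem le_twoZCore [Finite G] (hD : IsRootInvolutionSet D) (hc : IsConnectedSet (OddAdj D) D)
    (hDD : (D ∩ commutingProducts D).Nonempty) {N : Subgroup G} (hN : N.Normal) (hNtop : N ≠ ⊤) :
    N ≤ twoZCore G := by
  intro n hn
  rw [mem_twoZCore_iff]
  -- the set of x with the property is a subgroup containing D
  have hsub : ∀ x : G, x ∈ (Subgroup.centralizer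
      ({(QuotientGroup.mk' (pCore 2 G)) n} : Set (G ⧸ pCore 2 G))).comap
      (QuotientGroup.mk' (pCore 2 G)) := by
    intro x
    have htop : x ∈ (⊤ : Subgroup G) := Subgroup.mem_top x
    rw [← hD.generates] at htop
    revert x
    rw [← SetLike.le_def, Subgroup.closure_le]
    intro d hd
    rw [SetLike.mem_coe, Subgroup.mem_comap, Subgroup.mem_centralizer_iff]
    intro y hy
    rw [Set.mem_singleton_iff] at hy
    rw [hy]
    have h1 := commutator_mem_pCore hN (sq_eq_one hD hd)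
      (fun m hm => pow_four_conj hD hc hDD hN hNtop hd hm) hn
    have h2 := (QuotientGroup.eq_one_iff _).2 h1
    have h3 : ((d * n * d⁻¹ * n⁻¹ : G) : G ⧸ pCore 2 G)
        = (QuotientGroup.mk' (pCore 2 G)) d * (QuotientGroup.mk' (pCore 2 G)) n *
          ((QuotientGroup.mk' (pCore 2 G)) d)⁻¹ * ((QuotientGroup.mk' (pCore 2 G)) n)⁻¹ := by
      simp
    rw [h3] at h2
    have h4 := mul_inv_eq_one.1 h2
    have h5 := mul_inv_eq_iff_eq_mul.1 h4
    exact h5.symm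
  intro x
  have h1 := hsub x
  rw [Subgroup.mem_comap, Subgroup.mem_centralizer_iff] at h1
  have h2 := h1 _ (Set.mem_singleton _)
  rw [← QuotientGroup.eq_one_iff]
  have h3 : ((x * n * x⁻¹ * n⁻¹ : G) : G ⧸ pCore 2 G)
      = (QuotientGroup.mk' (pCore 2 G)) x * (QuotientGroup.mk' (pCore 2 G)) n *
        ((QuotientGroup.mk' (pCore 2 G)) x)⁻¹ * ((QuotientGroup.mk' (pCore 2 G)) n)⁻¹ := by
    simp
  rw [h3, ← h2]
  group

/-! ### `O_{2,Z}(G)` does not contain the square of an odd product -/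

theorem sq_not_mem_twoZCore [Finite G] (hD : IsRootInvolutionSet D) {d e : G}
    (h : OddAdj D d e) : (d * e) ^ 2 ∉ twoZCore G := by
  obtain ⟨hd, he, hne, k, hk⟩ := h
  intro hmem
  rw [mem_twoZCore_iff] at hmem
  have hdd := sq_eq_one hD hd
  have hee := sq_eq_one hD he
  have hdi := inv_eq hD hd
  have hei := inv_eq hD he
  -- take x = d: d (de)^2 d⁻¹ ((de)^2)⁻¹ = (de)^{-4}
  have h1 := hmem d
  have h2 : d * (d * e) ^ 2 * d⁻¹ * ((d * e) ^ 2)⁻¹ = ((d * e) ^ 4)⁻¹ := by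
    have h3 : d * (d * e) ^ 2 * d⁻¹ = ((d * e) ^ 2)⁻¹ := by
      rw [← conj_pow, ← inv_pow]
      congr 1
      rw [mul_inv_rev, hdi, hei, ← mul_assoc, hdd, one_mul]
    rw [h3, ← mul_inv_rev, ← pow_add]
  rw [h2] at h1
  have h5 : (d * e) ^ 4 ∈ pCore 2 G := by
    have := inv_mem h1
    rwa [inv_inv] at this
  -- hence d e is a 2-element, of odd order: d e = 1
  obtain ⟨j, hj⟩ := (Cfsg.Agent.Helper22.isPGroup_pCore (G := G) 2) ⟨(d * e) ^ 4, h5⟩
  have hj' : ((d * e) ^ 4) ^ (2 ^ j) = 1 := by simpa using congrArg Subtype.val hj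
  have hdvd : orderOf (d * e) ∣ 2 ^ (j + 2) := by
    apply orderOf_dvd_of_pow_eq_one
    have : 2 ^ (j + 2) = 4 * 2 ^ j := by rw [pow_add]; ring
    rw [this, pow_mul]; exact hj'
  have hcop : Nat.Coprime (orderOf (d * e)) (2 ^ (j + 2)) :=
    Nat.Coprime.pow_right _ (Odd.coprime_two_right ⟨k, hk⟩)
  have h6 : orderOf (d * e) = 1 := Nat.Coprime.eq_one_of_dvd hcop hdvd
  rw [orderOf_eq_one_iff] at h6
  apply hne
  calc d = d * (d * e) := by rw [h6, mul_one]
    _ = e := by rw [← mul_assoc, hdd, one_mul]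

/-! ### Solvability of `O_{2,Z}(G)` -/

theorem pCore_le_twoZCore : pCore 2 G ≤ twoZCore G := by
  intro g hg
  rw [mem_twoZCore_iff]
  intro x
  exact mul_mem ((pCore_normal 2 G).conj_mem g hg x) (inv_mem hg)

theorem isSolvable_twoZCore [Finite G] : Group.IsSolvable ↥(twoZCore G) := by
  haveI h1 : Group.IsNilpotent ↥(pCore 2 G) :=
    (Cfsg.Agent.Helper22.isPGroup_pCore (G := G) 2).isNilpotent
  haveI h2 : Group.IsSolvable ↥(pCore 2 G) := inferInstance
  haveI h2' : Group.IsSolvable ↥(Subgroup.center (G ⧸ pCore 2 G)) :=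
    isSolvable_of_comm (fun a b => Subtype.ext (b.2.comm a.1).symm)
  let f : ↥(pCore 2 G) →* ↥(twoZCore G) := Subgroup.inclusion pCore_le_twoZCore
  let g : ↥(twoZCore G) →* ↥(Subgroup.center (G ⧸ pCore 2 G)) :=
    ((QuotientGroup.mk' (pCore 2 G)).comp (twoZCore G).subtype).codRestrict
      (Subgroup.center (G ⧸ pCore 2 G)) (fun z => z.2)
  apply solvable_of_ker_le_range f g
  intro z hz
  rw [MonoidHom.mem_ker] at hz
  have h3 : (QuotientGroup.mk' (pCore 2 G)) (z : G) = 1 := congrArg Subtype.val hz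
  have h4 : (z : G) ∈ pCore 2 G := (QuotientGroup.eq_one_iff _).1 h3
  exact ⟨⟨(z : G), h4⟩, Subtype.ext rfl⟩

/-! ### The theorem -/

theorem main [Finite G] (hD : IsRootInvolutionSet D) (hc : IsConnectedSet (OddAdj D) D)
    (hDD : (D ∩ commutingProducts D).Nonempty) :
    solvableRadical G = twoZCore G ∧ IsSimpleGroup (G ⧸ twoZCore G) := by
  obtain ⟨d, e, hde⟩ := exists_oddAdj hD hc hDD
  have hZtop : twoZCore G ≠ ⊤ := by
    intro h
    apply sq_not_mem_twoZCore hD hde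
    rw [h]; exact Subgroup.mem_top _
  constructor
  · apply le_antisymm
    · apply sSup_le
      rintro N ⟨hN, hsol⟩
      by_cases hNtop : N = ⊤
      · exfalso
        -- G is solvable
        haveI : Group.IsSolvable G := by
          have e1 : ↥N ≃* G := by rw [hNtop]; exact Subgroup.topEquiv
          exact solvable_of_surjective (f := e1.toMonoidHom) e1.surjective
        haveI : Nontrivial G := ⟨⟨d, e, hde.2.2.1⟩⟩
        have h1 : commutator G ≠ ⊤ := (IsSolvable.commutator_lt_top_of_nontrivial G).ne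
        have h2 : commutator G ≤ twoZCore G :=
          le_twoZCore hD hc hDD inferInstance h1
        apply sq_not_mem_twoZCore hD hde
        apply h2
        have h3 : (d * e) ^ 2 = ⁅d, e⁆ := by
          rw [commutatorElement_def, inv_eq hD hde.1, inv_eq hD hde.2.1, pow_two]; group
        rw [h3, commutator_def]
        exact Subgroup.commutator_mem_commutator (Subgroup.mem_top d) (Subgroup.mem_top e)
      · exact le_twoZCore hD hc hDD hN hNtop
    · apply le_sSup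
      exact ⟨inferInstance, isSolvable_twoZCore⟩
  · haveI : Nontrivial (G ⧸ twoZCore G) := by
      rw [← not_subsingleton_iff_nontrivial]
      intro hs
      apply hZtop
      rw [eq_top_iff]
      intro x _
      rw [← QuotientGroup.eq_one_iff]
      exact Subsingleton.elim _ _
    refine ⟨fun H hH => ?_⟩
    by_cases hNtop : H.comap (QuotientGroup.mk' (twoZCore G)) = ⊤
    · right
      rw [← Subgroup.map_comap_eq_self_of_surjective (QuotientGroup.mk'_surjective (twoZCore G)) H,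
        hNtop, ← MonoidHom.range_eq_map, MonoidHom.range_eq_top]
      exact QuotientGroup.mk'_surjective _
    · left
      have h1 : H.comap (QuotientGroup.mk' (twoZCore G)) ≤ twoZCore G :=
        le_twoZCore hD hc hDD (hH.comap _) hNtop
      rw [eq_bot_iff]
      intro y hy
      obtain ⟨x, rfl⟩ := QuotientGroup.mk'_surjective (twoZCore G) y
      rw [Subgroup.mem_bot]
      exact (QuotientGroup.eq_one_iff x).2 (h1 hy)

end Cfsg.Agent.Helper94.RootRad
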