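import Mathlib
import Cfsg.Prelude.Def_RootSubgroups
import Cfsg.Agent.Lib.Helper94.RootGen

set_option autoImplicit false

namespace Cfsg.Agent.Helper94

open Cfsg Cfsg.Agent.Helper83
open scoped commutatorElement

variable {G : Type*} [Group G] {S : Set (Subgroup G)}

theorem OppConfig.ne_AC {A B C D : Subgroup G} (h : OppConfig S A B C D) : A ≠ C := by
  intro h1
  have h2 := h.inf_AC
  rw [← h1, inf_idem] at h2
  exact h.hS.ne_bot A h.hA h2

/-- every pair in the commutator case extends to an opposite configuration -/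
theorem exists_oppConfig_of_commutator_mem (hS : IsRootSubgroupSet S)
    (hall : ∀ E ∈ S, ∃ E₁ ∈ S, IsRankOnePair E E₁) {A B : Subgroup G} (hA : A ∈ S) (hB : B ∈ S)
    (hK : ⁅A, B⁆ ∈ S) : ∃ D, OppConfig S A B ⁅A, B⁆ D := by
  have hl := (commutator_mem_linePartners hS hall hA hB hK).1
  have ctx := lineCtx_of_partition hS hall hA hK hl.1.2.2 hl.2
  obtain ⟨P, Q, KP, KQ, cfg, hN, _, _, _, _, _⟩ :=
    ctx.exists_oppConfig hA hK le_sup_left le_sup_right le_rfl (Ne.symm hl.1.2.1)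
  have hP : P ∈ membersIn S (A ⊔ ⁅A, B⁆) := ⟨cfg.hA, by rw [← hN]; exact le_sup_right⟩
  have hQ : Q ∈ membersIn S (A ⊔ ⁅A, B⁆) := ⟨cfg.hC, by rw [← hN]; exact le_sup_left⟩
  obtain ⟨x, _, hx1, hx2⟩ := line_two_transitive hS hall hA hl P hP Q hQ A ⟨hA, le_sup_left⟩
    ⁅A, B⁆ ⟨hK, le_sup_right⟩ cfg.ne_AC (Ne.symm hl.1.2.1)
  refine ⟨conjBy KP x, ⟨hS, hA, hB, hK, hS.conj_mem _ cfg.hD x, rfl, ?_⟩⟩
  rw [← hx2, ← conjBy_commutator, cfg.hDC, hx1]

/-- a root element mapping one member of a weak TI-subset into it stabilizes it -/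
theorem weakTI_mem_famStab {Δ : Set (Subgroup G)} (hΔ : IsWeakTISubset S Δ) {d : G}
    (hd : d ∈ rootElements S) {E : Subgroup G} (hE : E ∈ Δ) (hEd : conjBy E d ∈ Δ) :
    d ∈ famStab Δ := by
  rcases hΔ.2.2.2 d hd with h | h
  · intro C hC
    refine ⟨?_, ?_⟩
    · rw [← h]; exact Set.mem_image_of_mem _ hC
    · have hC' := hC
      rw [← h] at hC'
      obtain ⟨C', hC', rfl⟩ := hC'
      rw [conjBy_inv_conjBy]
      exact hC'
  · exact absurd hEd (Set.disjoint_left.1 h (Set.mem_image_of_mem _ hE))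

/-- a member of `S` commuting with a member of a weak TI-subset stabilizes it -/
theorem weakTI_le_famStab_of_commute {Δ : Set (Subgroup G)} (hΔ : IsWeakTISubset S Δ)
    {E F : Subgroup G} (hE : E ∈ Δ) (hF : F ∈ S) (hcomm : ∀ f ∈ F, ∀ e ∈ E, f * e = e * f) :
    F ≤ famStab Δ := by
  intro f hf
  by_cases hf1 : f = 1
  · rw [hf1]; exact Subgroup.one_mem _
  · apply weakTI_mem_famStab hΔ ⟨hf1, F, hF, hf⟩ hE
    rw [conjBy_eq_self_of_mem_centralizer (le_centralizer_of_commute hcomm hf)]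
    exact hE

/-- a weak TI-subset of a nondegenerate class of abstract root subgroups is abelian -/
theorem weakTI_abelian (hS : IsRootSubgroupClass S) (hnd : IsNondegenerateRootSet S)
    {Δ : Set (Subgroup G)} (hΔ : IsWeakTISubset S Δ) : IsAbelianFamily Δ := by
  have hRS := hS.1
  have hall := hall_of_conjClass hRS hS.2 hnd.2.1
  have key : ∀ A ∈ Δ, ∀ A₁ ∈ S, IsRankOnePair A A₁ → A₁ ≤ famStab Δ → False := by
    intro A hA A₁ hA₁ hr hle
    have h1 : lineGen S A A₁ ≤ famStab Δ := by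
      refine sup_le (iSup₂_le fun C hC => ?_) hle
      apply weakTI_le_famStab_of_commute hΔ hA hC.1.1
      have h2 := hC.1.2.2
      rw [Subgroup.commutator_eq_bot_iff_le_centralizer] at h2
      intro f hf e he
      exact (commute_of_le_centralizer h2 he hf).symm
    rw [lineGen_eq_top hS hnd.2.2 (hΔ.1 hA) hA₁ hr, top_le_iff] at h1
    apply hΔ.2.2.1
    apply Set.Subset.antisymm hΔ.1
    intro F hF
    obtain ⟨g, rfl⟩ := hS.2.2 A (hΔ.1 hA) F hF
    have : g ∈ famStab Δ := by rw [h1]; exact Subgroup.mem_top g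
    exact (this A hA).1
  intro A hA B hB a ha b hb
  by_contra hne
  rcases hRS.pair A (hΔ.1 hA) B (hΔ.1 hB) with h1 | h1 | h1
  · rw [Subgroup.commutator_eq_bot_iff_le_centralizer] at h1
    exact hne (commute_of_le_centralizer h1 ha hb)
  · apply key A hA B (hΔ.1 hB) h1
    apply weakTI_le_famStab_of_commute hΔ hB (hΔ.1 hB)
    have := hRS.commutative B (hΔ.1 hB)
    intro f hf e he
    exact commute_of_le_centralizer (le_centralizer_self_of_comm this) hf he
  · obtain ⟨D, cfg⟩ := exists_oppConfig_of_commutator_mem hRS hall (hΔ.1 hA) (hΔ.1 hB) h1.1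
    apply key B hB D cfg.hD cfg.rankOne_BD
    apply weakTI_le_famStab_of_commute hΔ hA cfg.hD
    intro f hf e he
    exact (cfg.comm_AD he hf).symm

end Cfsg.Agent.Helper94
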