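import Mathlib
import Cfsg.Prelude.Def_RootSubgroups
import Cfsg.Agent.Lib.Helper94.RootTI

set_option autoImplicit false

namespace Cfsg.Agent.Helper94

open Cfsg Cfsg.Agent.Helper83
open scoped commutatorElement

variable {G : Type*} [Group G] {S : Set (Subgroup G)}

theorem conjBy_le_centralizer_conjBy {X Y : Subgroup G}
    (h : X ≤ Subgroup.centralizer (Y : Set G)) (g : G) :
    conjBy X g ≤ Subgroup.centralizer ((conjBy Y g : Subgroup G) : Set G) := by
  rw [← conjBy_centralizer]
  exact conjBy_mono h g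

/-- in a rank one pair `(A, B)` the subgroup `B` does not centralize `conjBy B a`, `1 ≠ a ∈ A` -/
theorem rankOne_not_le_centralizer_conj {A B : Subgroup G} (h : IsRankOnePair A B) {a : G}
    (ha : a ∈ A) (ha1 : a ≠ 1) :
    ¬ B ≤ Subgroup.centralizer ((conjBy B a : Subgroup G) : Set G) := by
  have h' := RankOnePair_symm h
  have h1 : B ∈ unipotentSubgroups B A := left_mem_unipotentSubgroups B A
  have h2 : conjBy B a ∈ unipotentSubgroups B A :=
    conjBy_mem_unipotentSubgroups h1 (Subgroup.mem_sup_right ha)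
  have hne : B ≠ conjBy B a := by
    intro h3
    apply ha1
    apply rankOne_conj_inj h ha A.one_mem
    rw [conjBy_one]
    exact h3.symm
  exact rankOne_not_le_centralizer (isRankOnePair_of_mem h' h1 h2 hne)

/-- The swap lemma: if `A` and `C` commute elementwise and both form a rank one pair with `B`, then
some element interchanges `A` and `C`. -/
theorem exists_swap {A B C : Subgroup G} (hAB : IsRankOnePair A B) (hCB : IsRankOnePair C B)
    (hcomm : ∀ a ∈ A, ∀ c ∈ C, a * c = c * a) : ∃ w : G, conjBy A w = C ∧ conjBy C w = A := by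
  have hAC : A ≤ Subgroup.centralizer (C : Set G) := le_centralizer_of_commute hcomm
  obtain ⟨a, ha, ha1⟩ := exists_mem_ne_one_of_ne_bot (rankOne_ne_bot_left hAB)
  obtain ⟨b, hb, hb1, hab⟩ := hAB.cond_left a ha ha1
  obtain ⟨c, hc, hc1, hcb⟩ := hCB.cond_right b hb hb1
  have ha1' : a⁻¹ ≠ 1 := fun h => ha1 (inv_eq_one.1 h)
  obtain ⟨b₂, hb₂, hb₂1, hab₂⟩ := hAB.cond_left a⁻¹ (A.inv_mem ha) ha1'
  rw [inv_inv] at hab₂
  obtain ⟨c₂, hc₂, hc₂1, hcb₂⟩ := hCB.cond_right b₂ hb₂ hb₂1
  have hac : a * c = c * a := hcomm a ha c hc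
  -- `conjBy B a` is centralized by `conjBy B c` and by `conjBy B c₂⁻¹`
  have h1 : conjBy B c ≤ Subgroup.centralizer ((conjBy B a : Subgroup G) : Set G) := by
    have h2 := conjBy_le_centralizer_conjBy hAC b⁻¹
    rw [hab, ← hcb] at h2
    have h3 := conjBy_le_centralizer_conjBy h2 (a * c)
    rw [conjBy_conjBy, conjBy_conjBy] at h3
    have e1 : a * c * a⁻¹ = c := by rw [hac]; group
    have e2 : a * c * c⁻¹ = a := by group
    rwa [e1, e2] at h3
  have h2 : conjBy B c₂⁻¹ ≤ Subgroup.centralizer ((conjBy B a : Subgroup G) : Set G) := by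
    have h2 := conjBy_le_centralizer_conjBy hAC b₂⁻¹
    rw [hab₂, ← hcb₂] at h2
    exact Subgroup.le_centralizer_iff.1 h2
  have hBC := RankOnePair_symm hCB
  have hcc : c₂⁻¹ = c := by
    by_contra hne
    have m1 : conjBy B c ∈ unipotentSubgroups B C :=
      conjBy_mem_unipotentSubgroups (left_mem_unipotentSubgroups B C) (Subgroup.mem_sup_right hc)
    have m2 : conjBy B c₂⁻¹ ∈ unipotentSubgroups B C :=
      conjBy_mem_unipotentSubgroups (left_mem_unipotentSubgroups B C)
        (Subgroup.mem_sup_right (C.inv_mem hc₂))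
    have hne' : conjBy B c ≠ conjBy B c₂⁻¹ := by
      intro h3
      exact hne (rankOne_conj_inj hCB hc (C.inv_mem hc₂) h3).symm
    have h3 := rankOne_sup_eq_of_mem hBC m1 m2 hne'
    have h4 : B ≤ Subgroup.centralizer ((conjBy B a : Subgroup G) : Set G) := by
      have : B ≤ B ⊔ C := le_sup_left
      rw [← h3] at this
      exact this.trans (sup_le h1 h2)
    exact rankOne_not_le_centralizer_conj hAB ha ha1 h4
  refine ⟨b₂ * c * a * b⁻¹, ?_, ?_⟩
  · rw [← conjBy_conjBy, hab, conjBy_conjBy]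
    have e1 : b₂ * c * a * a⁻¹ = b₂ * c := by group
    rw [e1, ← conjBy_conjBy, ← hcc, hcb₂, conjBy_conjBy_inv]
  · rw [← conjBy_conjBy, ← hcb, conjBy_conjBy]
    have e1 : b₂ * c * a * c⁻¹ = b₂ * a := by
      rw [mul_assoc b₂, ← hac]; group
    rw [e1, ← conjBy_conjBy, ← hab₂, conjBy_conjBy_inv]

end Cfsg.Agent.Helper94
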