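import Mathlib
import Cfsg.Prelude.Def_RootSubgroups
import Cfsg.Agent.Lib.Helper94.RootSwap

set_option autoImplicit false

namespace Cfsg.Agent.Helper94

open Cfsg Cfsg.Agent.Helper83
open scoped commutatorElement

variable {G : Type*} [Group G] {S : Set (Subgroup G)}

theorem centralizingMembers_conj (hS : IsRootSubgroupSet S) {A F : Subgroup G} (w : G)
    (hF : F ∈ centralizingMembers S A) : conjBy F w ∈ centralizingMembers S (conjBy A w) :=
  ⟨hS.conj_mem F hF.1 w, conjBy_le_centralizer_conjBy hF.2 w⟩

theorem rankOnePartners_conj (hS : IsRootSubgroupSet S) {A F : Subgroup G} (w : G)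
    (hF : F ∈ rankOnePartners S A) : conjBy F w ∈ rankOnePartners S (conjBy A w) :=
  ⟨hS.conj_mem F hF.1 w, isRankOnePair_conjBy hF.2 w⟩

theorem centralizingMembers_swap (hS : IsRootSubgroupSet S) {A C : Subgroup G} {w : G}
    (h1 : conjBy A w = C) (h2 : conjBy C w = A)
    (h : centralizingMembers S A ⊆ centralizingMembers S C) :
    centralizingMembers S C ⊆ centralizingMembers S A := by
  intro F hF
  have h3 := centralizingMembers_conj hS w hF
  rw [h2] at h3
  have h4 := centralizingMembers_conj hS w⁻¹ (h h3)
  rwa [conjBy_inv_conjBy, ← h1, conjBy_inv_conjBy] at h4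

theorem rankOnePartners_swap (hS : IsRootSubgroupSet S) {A C : Subgroup G} {w : G}
    (h1 : conjBy A w = C) (h2 : conjBy C w = A)
    (h : rankOnePartners S A ⊆ rankOnePartners S C) :
    rankOnePartners S C ⊆ rankOnePartners S A := by
  intro F hF
  have h3 := rankOnePartners_conj hS w hF
  rw [h2] at h3
  have h4 := rankOnePartners_conj hS w⁻¹ (h h3)
  rwa [conjBy_inv_conjBy, ← h1, conjBy_inv_conjBy] at h4

/-- members with comparable commuting sets have equal commuting sets; same for rank one partners -/
theorem comparable_imp_eq (hS : IsRootSubgroupClass S)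
    (hdn : IsDegenerateRootSet S ∨ IsNondegenerateRootSet S) {A C : Subgroup G} (hA : A ∈ S)
    (hC : C ∈ S) :
    (centralizingMembers S A ⊆ centralizingMembers S C →
      centralizingMembers S A = centralizingMembers S C) ∧
    (rankOnePartners S A ⊆ rankOnePartners S C →
      ⁅A, C⁆ = ⊥ ∧ rankOnePartners S A = rankOnePartners S C) := by
  have hRS := hS.1
  have hconj := hS.2
  by_cases hr : ∃ A ∈ S, ∃ B ∈ S, IsRankOnePair A B
  · have hall := hall_of_conjClass hRS hconj hr
    constructor
    · intro h
      have hAA : A ∈ centralizingMembers S A :=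
        ⟨hA, le_centralizer_self_of_comm (hRS.commutative A hA)⟩
      have hAC : A ≤ Subgroup.centralizer (C : Set G) := (h hAA).2
      obtain ⟨B, hB, hCB⟩ := hall C hC
      have hAB : IsRankOnePair A B := by
        rcases hRS.pair A hA B hB with h1 | h1 | h1
        · exfalso
          rw [Subgroup.commutator_eq_bot_iff_le_centralizer] at h1
          have h2 : B ∈ centralizingMembers S A := ⟨hB, Subgroup.le_centralizer_iff.1 h1⟩
          exact rankOne_not_le_centralizer (RankOnePair_symm hCB) (h h2).2
        · exact h1
        · exfalso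
          rcases hdn with hdeg | hnd
          · exact hdeg A hA B hB h1
          · have hK : ⁅A, B⁆ ∈ S := h1.1
            have hl1 := (commutator_mem_linePartners hRS hall hA hB hK).1
            have hKC : ⁅A, B⁆ ≤ Subgroup.centralizer (C : Set G) := by
              have h2 := hl1.1.2.2
              rw [Subgroup.commutator_eq_bot_iff_le_centralizer] at h2
              exact (h ⟨hK, Subgroup.le_centralizer_iff.1 h2⟩).2
            have hK' : ⁅B, A⁆ ∈ S := by rw [Subgroup.commutator_comm]; exact hK
            have hl2 := (commutator_mem_linePartners hRS hall hB hA hK').1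
            rw [Subgroup.commutator_comm B A] at hl2
            have ctx := lineCtx_of_partition hRS hall hB hK hl2.1.2.2 hl2.2
            have h3 := ctx.ne_bot_partner hK hB le_sup_right le_sup_left hl2.1.2.1 hC
              (RankOnePair_symm hCB)
            apply h3
            rw [Subgroup.commutator_eq_bot_iff_le_centralizer]
            exact hKC
      obtain ⟨w, hw1, hw2⟩ := exists_swap hAB hCB (fun a ha c hc => commute_of_le_centralizer hAC ha hc)
      exact Set.Subset.antisymm h (centralizingMembers_swap hRS hw1 hw2 h)
    · intro h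
      have hcomm : ⁅A, C⁆ = ⊥ := by
        rcases hRS.pair A hA C hC with h1 | h1 | h1
        · exact h1
        · exact absurd rfl (h ⟨hC, h1⟩).2.ne
        · exfalso
          rcases hdn with hdeg | hnd
          · exact hdeg A hA C hC h1
          · have hK' : ⁅C, A⁆ ∈ S := by rw [Subgroup.commutator_comm]; exact h1.1
            obtain ⟨D, cfg⟩ := exists_oppConfig_of_commutator_mem hRS hall hC hA hK'
            have h2 : D ∈ rankOnePartners S A := ⟨cfg.hD, cfg.rankOne_BD⟩
            apply rankOne_not_le_centralizer (h h2).2
            exact le_centralizer_of_commute (fun c hc d hd => cfg.comm_AD hc hd)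
      refine ⟨hcomm, ?_⟩
      obtain ⟨B, hB, hAB⟩ := hall A hA
      have hCB : IsRankOnePair C B := (h ⟨hB, hAB⟩).2
      rw [Subgroup.commutator_eq_bot_iff_le_centralizer] at hcomm
      obtain ⟨w, hw1, hw2⟩ := exists_swap hAB hCB
        (fun a ha c hc => commute_of_le_centralizer hcomm ha hc)
      exact Set.Subset.antisymm h (rankOnePartners_swap hRS hw1 hw2 h)
  · -- no rank one pairs: everything commutes
    have hcomm : ∀ X ∈ S, ∀ Y ∈ S, ⁅X, Y⁆ = ⊥ := by
      intro X hX Y hY
      rcases hRS.pair X hX Y hY with h1 | h1 | h1
      · exact h1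
      · exact absurd ⟨X, hX, Y, hY, h1⟩ hr
      · rcases hdn with hdeg | hnd
        · exact absurd h1 (hdeg X hX Y hY)
        · exact absurd hnd.2.1 hr
    have hΩ : ∀ X ∈ S, rankOnePartners S X = ∅ := by
      intro X hX
      ext F
      simp only [Set.mem_empty_iff_false, iff_false]
      rintro ⟨hF, hXF⟩
      exact hr ⟨X, hX, F, hF, hXF⟩
    have hcen : ∀ X ∈ S, centralizingMembers S X = S := by
      intro X hX
      ext F
      constructor
      · exact fun h => h.1
      · intro hF
        have h1 := hcomm X hX F hF
        rw [Subgroup.commutator_eq_bot_iff_le_centralizer] at h1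
        exact ⟨hF, Subgroup.le_centralizer_iff.1 h1⟩
    constructor
    · intro _
      rw [hcen A hA, hcen C hC]
    · intro _
      exact ⟨hcomm A hA C hC, by rw [hΩ A hA, hΩ C hC]⟩

end Cfsg.Agent.Helper94
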