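import Mathlib
import Cfsg.Agent.Lib.Helper64.S4017Defs

set_option autoImplicit false

/-!
# S4017M (B1c), parametrised form: `B1_claim1_of`

The statement of S4017M (B1c) `B1_claim1` (helper64 server) with the pieces it uses — (S1)
`exists_setting`, (P1C) `p1ne_of_p1ne`, (B1a) `comm_of_p1ne`, (SIMP) `centralizer_ne_top` — taken as
hypotheses.  Depends only on Mathlib and `S4017Defs`.
-/

namespace Cfsg.Agent.Helper94.S4017M

open Cfsg.Agent.Helper64.S4017

variable {G : Type*} [Group G] [Finite G] {a p : ℕ} {Q : Subgroup G} {x : G}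

/-- An element with `g * g = 1` has order a power of 2. -/
theorem b1c_two_pow {g : G} (hg : g * g = 1) : ∃ j : ℕ, orderOf g = 2 ^ j := by
  have hdvd : orderOf g ∣ 2 := orderOf_dvd_of_pow_eq_one (by rw [pow_two]; exact hg)
  rcases (Nat.dvd_prime Nat.prime_two).mp hdvd with h1 | h2
  · exact ⟨0, by rw [h1, pow_zero]⟩
  · exact ⟨1, by rw [h2, pow_one]⟩

/-- In a setting `p` is odd, so a `p`-element of order dividing 2 is trivial. -/
theorem b1c_eq_one_of_sq (h : Setting a p Q x) {y : G} (hy : IsPel p y) (hyy : y * y = 1) :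
    y = 1 := by
  obtain ⟨j, hj⟩ := hy
  have hdvd : p ^ j ∣ 2 := hj ▸ orderOf_dvd_of_pow_eq_one (by rw [pow_two]; exact hyy)
  have hpodd : p ≠ 2 := by
    intro hp2
    have := h.p_eq
    rw [hp2] at this
    have ha := h.two_le
    have h4 : (4 : ℕ) ∣ 2 ^ a := by
      have : (2 : ℕ) ^ 2 ∣ 2 ^ a := pow_dvd_pow 2 ha
      simpa using this
    omega
  have hj0 : j = 0 := by
    by_contra hj0
    have hp2 : p ∣ 2 := (dvd_pow_self p hj0).trans hdvd
    exact hpodd ((Nat.prime_dvd_prime_iff_eq h.prime Nat.prime_two).mp hp2)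
  rw [hj0, pow_zero, orderOf_eq_one_iff] at hj
  exact hj

theorem B1_claim1_of
    (hS1 : ∀ {Q : Subgroup G} {x : G}, Setting a p Q x → ∀ {u : G}, IsInv u →
      ∃ (Q' : Subgroup G) (x' : G), Setting a p Q' x' ∧ u ∈ Q')
    (hP1C : ∀ {Q : Subgroup G} {x : G} {Q' : Subgroup G} {x' : G}, Setting a p Q x →
      Setting a p Q' x' → P1ne p Q → P1ne p Q')
    (hB1a : ∀ {Q : Subgroup G} {x : G}, Setting a p Q x → Tools a p Q x → P1ne p Q →
      ∀ {t : G}, t ∈ Q → t ≠ 1 → ∀ {z : G}, IsPel p z → z * t = t * z → ∀ s ∈ Q, z * s = s * z)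
    (hSIMP : ∀ {Q : Subgroup G} {x : G}, Setting a p Q x → ∀ {c : G}, c ≠ 1 →
      Subgroup.centralizer {c} ≠ ⊤)
    (hall : ∀ (Q' : Subgroup G) (x' : G), Setting a p Q' x' → Tools a p Q' x')
    (h : Setting a p Q x) (hP1 : P1ne p Q) {u y s : G} (hu : IsInv u) (hy : IsPel p y)
    (hy1 : y ≠ 1) (huy : u * y * u⁻¹ = y⁻¹) (hs : IsInv s) (hsy : s * y = y * s) : False := by
  classical
  have huu : u * u = 1 := hu.2
  have huinv : u⁻¹ = u := inv_eq_of_mul_eq_one_right huu
  -- move to a setting containing s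
  obtain ⟨Q', x', h', hsQ'⟩ := hS1 h hs
  have T' := hall Q' x' h'
  have hP1' : P1ne p Q' := hP1C h h' hP1
  have hyQ' : ∀ q ∈ Q', y * q = q * y := hB1a h' T' hP1' hsQ' hs.1 hy hsy.symm
  have hyx' : y * x' = x' * y := T'.m3 y hy hyQ'
  have hCne : Subgroup.centralizer {y} ≠ ⊤ := hSIMP h' hy1
  have hQC : Q' ≤ Subgroup.centralizer {y} := by
    intro q hq
    rw [Subgroup.mem_centralizer_singleton_iff]
    exact (hyQ' q hq).symm
  have hxC : x' ∈ Subgroup.centralizer {y} := by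
    rw [Subgroup.mem_centralizer_singleton_iff]
    exact hyx'.symm
  have hH := T'.lemmaH _ hCne hQC hxC
  -- u normalises Q'
  have huN : ∀ q ∈ Q', u * q * u⁻¹ ∈ Q' := by
    intro q hq
    -- u q u⁻¹ centralises y
    have hqy : q * y = y * q := (hyQ' q hq).symm
    have h1 : (u * q * u⁻¹) * (u * y * u⁻¹) = (u * y * u⁻¹) * (u * q * u⁻¹) := by
      have e1 : (u * q * u⁻¹) * (u * y * u⁻¹) = u * (q * y) * u⁻¹ := by group
      have e2 : (u * y * u⁻¹) * (u * q * u⁻¹) = u * (y * q) * u⁻¹ := by group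
      rw [e1, e2, hqy]
    rw [huy] at h1
    have h2 : Commute (u * q * u⁻¹) y⁻¹ := h1
    have h3 : (u * q * u⁻¹) * y = y * (u * q * u⁻¹) := (Commute.inv_right_iff.mp h2).eq
    have hmemC : u * q * u⁻¹ ∈ Subgroup.centralizer {y} := by
      rw [Subgroup.mem_centralizer_singleton_iff]
      exact h3
    -- it is a 2-element of N(Q')
    have hsq : (u * q * u⁻¹) * (u * q * u⁻¹) = 1 := by
      have e : (u * q * u⁻¹) * (u * q * u⁻¹) = u * (q * q) * u⁻¹ := by group
      rw [e, h'.elem q hq]; group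
    exact T'.n2 _ (hH _ hmemC) (b1c_two_pow hsq)
  have huQ' : u ∈ Q' := T'.n2 u huN (b1c_two_pow huu)
  -- y centralises u, so y = y⁻¹
  have hyu : y * u = u * y := hyQ' u huQ'
  have hyy : y * y = 1 := by
    have e : u * y * u⁻¹ = y := by
      rw [← hyu]; group
    rw [e] at huy
    calc y * y = y * y⁻¹ := by rw [← huy]
      _ = 1 := mul_inv_cancel y
  exact hy1 (b1c_eq_one_of_sq h hy hyy)

end Cfsg.Agent.Helper94.S4017M
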