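import Mathlib
import Cfsg.Agent.Lib.Helper64.S4017Defs

set_option autoImplicit false

/-!
# S4017M (B1d), parametrised form: `B1_inverts_of`

The statement of S4017M (B1d) `B1_inverts` (helper64 server) with the pieces it uses — (S1)
`exists_setting`, (P1C) `p1ne_of_p1ne`, (B1a) `comm_of_p1ne`, (SIMP) `centralizer_ne_top` — taken as
hypotheses.  Depends only on Mathlib and `S4017Defs`.
-/

namespace Cfsg.Agent.Helper94.S4017M

open Cfsg.Agent.Helper64.S4017

variable {G : Type*} [Group G] [Finite G] {a p : ℕ} {Q : Subgroup G} {x : G}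

theorem B1_inverts_of
    (hS1 : ∀ {Q : Subgroup G} {x : G}, Setting a p Q x → ∀ {u : G}, IsInv u →
      ∃ (Q' : Subgroup G) (x' : G), Setting a p Q' x' ∧ u ∈ Q')
    (hP1C : ∀ {Q : Subgroup G} {x : G} {Q' : Subgroup G} {x' : G}, Setting a p Q x →
      Setting a p Q' x' → P1ne p Q → P1ne p Q')
    (hB1a : ∀ {Q : Subgroup G} {x : G}, Setting a p Q x → Tools a p Q x → P1ne p Q →
      ∀ {t : G}, t ∈ Q → t ≠ 1 → ∀ {z : G}, IsPel p z → z * t = t * z → ∀ s ∈ Q, z * s = s * z)
    (hSIMP : ∀ {Q : Subgroup G} {x : G}, Setting a p Q x → ∀ {c : G}, c ≠ 1 →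
      Subgroup.centralizer {c} ≠ ⊤)
    (hall : ∀ (Q' : Subgroup G) (x' : G), Setting a p Q' x' → Tools a p Q' x')
    (h : Setting a p Q x) (hP1 : P1ne p Q) {u y : G} (hu : IsInv u) (hy : IsPel p y) (hy1 : y ≠ 1)
    (huy : u * y * u⁻¹ = y⁻¹) (P : Sylow p G) (hP : (P : Subgroup G) = Subgroup.centralizer {y}) :
    ∀ z ∈ P, u * z * u⁻¹ = z⁻¹ := by
  classical
  haveI : Fact p.Prime := ⟨h.prime⟩
  have huu : u * u = 1 := hu.2
  have huinv : u⁻¹ = u := inv_eq_of_mul_eq_one_right huu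
  have hmemP : ∀ g : G, g ∈ P ↔ g * y = y * g := by
    intro g
    show g ∈ (P : Subgroup G) ↔ _
    rw [hP, Subgroup.mem_centralizer_singleton_iff]
  have hyP : y ∈ P := (hmemP y).mpr rfl
  intro z hz
  -- u normalises P
  have huzP : u * z * u⁻¹ ∈ P := by
    rw [hmemP]
    have hzy : z * y = y * z := (hmemP z).mp hz
    -- u z u⁻¹ commutes with y⁻¹ = u y u⁻¹, hence with y
    have h1 : (u * z * u⁻¹) * (u * y * u⁻¹) = (u * y * u⁻¹) * (u * z * u⁻¹) := by
      have e1 : (u * z * u⁻¹) * (u * y * u⁻¹) = u * (z * y) * u⁻¹ := by group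
      have e2 : (u * y * u⁻¹) * (u * z * u⁻¹) = u * (y * z) * u⁻¹ := by group
      rw [e1, e2, hzy]
    rw [huy] at h1
    -- commute with y⁻¹ ⇒ commute with y
    have h2 : Commute (u * z * u⁻¹) y⁻¹ := h1
    exact (Commute.inv_right_iff.mp h2).eq
  set w : G := z * (u * z * u⁻¹) with hw
  have hwP : w ∈ P := mul_mem hz huzP
  -- u centralises w
  have hwu : w * u = u * w := by
    have hcomm : z * (u * z * u⁻¹) = (u * z * u⁻¹) * z := h.abel P z hz _ huzP
    have e1 : u * w * u⁻¹ = (u * z * u⁻¹) * (u * u * z * (u * u)⁻¹) := by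
      rw [hw]; group
    rw [huu] at e1
    have e2 : u * w * u⁻¹ = w := by
      rw [e1, hw, hcomm]; group
    have : u * w = w * u := by
      calc u * w = (u * w * u⁻¹) * u := by group
        _ = w * u := by rw [e2]
    exact this.symm
  -- it suffices that w = 1
  suffices hw1 : w = 1 by
    have : z * (u * z * u⁻¹) = 1 := hw1
    exact (inv_eq_of_mul_eq_one_right this).symm
  by_contra hw1
  -- w is a p-element
  have hwpel : IsPel p w := by
    obtain ⟨k, hk⟩ := (IsPGroup.iff_orderOf.mp P.2) ⟨w, hwP⟩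
    exact ⟨k, by rw [← hk]; exact (Subgroup.orderOf_mk w hwP).symm⟩
  -- move to a setting containing u
  obtain ⟨Q', x', h', huQ'⟩ := hS1 h hu
  have T' := hall Q' x' h'
  have hP1' : P1ne p Q' := hP1C h h' hP1
  have hwQ' : ∀ s ∈ Q', w * s = s * w := hB1a h' T' hP1' huQ' hu.1 hwpel hwu
  have hwx' : w * x' = x' * w := T'.m3 w hwpel hwQ'
  -- C(w) is proper, contains Q' and x'
  have hCne : Subgroup.centralizer {w} ≠ ⊤ := hSIMP h' hw1
  have hQC : Q' ≤ Subgroup.centralizer {w} := by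
    intro s hs
    rw [Subgroup.mem_centralizer_singleton_iff]
    exact (hwQ' s hs).symm
  have hxC : x' ∈ Subgroup.centralizer {w} := by
    rw [Subgroup.mem_centralizer_singleton_iff]
    exact hwx'.symm
  have hyC : y ∈ Subgroup.centralizer {w} := by
    rw [Subgroup.mem_centralizer_singleton_iff]
    exact h.abel P y hyP w hwP
  have hnorm := T'.lemmaH _ hCne hQC hxC y hyC u huQ'
  -- y u y⁻¹ = y² u
  have hconj : y * u * y⁻¹ = y * y * u := by
    have e : u * y⁻¹ = y * u := by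
      have : u * y⁻¹ * u⁻¹ = y := by
        have h1 : (u * y * u⁻¹)⁻¹ = (y⁻¹)⁻¹ := congrArg (fun g => g⁻¹) huy
        rw [inv_inv] at h1
        calc u * y⁻¹ * u⁻¹ = (u * y * u⁻¹)⁻¹ := by group
          _ = y := h1
      calc u * y⁻¹ = (u * y⁻¹ * u⁻¹) * u := by group
        _ = y * u := by rw [this]
    calc y * u * y⁻¹ = y * (u * y⁻¹) := by group
      _ = y * (y * u) := by rw [e]
      _ = y * y * u := by group
  rw [hconj] at hnorm
  have hyyQ : y * y ∈ Q' := by
    have := mul_mem hnorm huQ'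
    have e : y * y * u * u = y * y := by rw [mul_assoc, huu, mul_one]
    rwa [e] at this
  have hy4 : y ^ 4 = 1 := by
    have := h'.elem _ hyyQ
    calc y ^ 4 = (y * y) * (y * y) := by
          rw [show (4 : ℕ) = 2 + 2 from rfl, pow_add, pow_two]
      _ = 1 := this
  -- y is a p-element with p odd
  obtain ⟨j, hj⟩ := hy
  have hdvd : p ^ j ∣ 4 := hj ▸ orderOf_dvd_of_pow_eq_one hy4
  have hpodd : p ≠ 2 := by
    intro hp2
    have := h.p_eq
    rw [hp2] at this
    have ha := h.two_le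
    have h4 : (4 : ℕ) ∣ 2 ^ a := by
      have : (2 : ℕ) ^ 2 ∣ 2 ^ a := pow_dvd_pow 2 ha
      simpa using this
    omega
  have hj0 : j = 0 := by
    by_contra hj0
    have hp4 : p ∣ 4 := (dvd_pow_self p hj0).trans hdvd
    have : p ∣ 2 := by
      have : p ∣ 2 ^ 2 := by simpa using hp4
      exact h.prime.dvd_of_dvd_pow this
    exact hpodd ((Nat.prime_dvd_prime_iff_eq h.prime Nat.prime_two).mp this)
  rw [hj0, pow_zero, orderOf_eq_one_iff] at hj
  exact hy1 hj

end Cfsg.Agent.Helper94.S4017M
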