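import Mathlib
import Cfsg.Agent.Lib.Helper62.SLN0

/-! SLN server (helper62, S2332), piece R4 `comm_fix_line`. -/

set_option autoImplicit false

namespace Cfsg.Agent.Helper94.SLN

open Matrix Module Cfsg.Agent.Helper93.U2 Cfsg.Agent.Helper62.SLN

section REPgen

variable {G : Type*} [Group G] {𝓐 : Type*} [AddCommGroup 𝓐] [Fintype 𝓐]
  {V : Type*} [AddCommGroup V] [Module ℂ V] [FiniteDimensional ℂ V]
  (pr : Pairing 𝓐) (el : 𝓐 → G) (ρ : Representation ℂ G V)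

omit [FiniteDimensional ℂ V] in
theorem r4_inv_apply {G : Type*} [Group G] (ρ : Representation ℂ G V) (g : G) (v : V) :
    ρ g⁻¹ (ρ g v) = v := by
  rw [← Module.End.mul_apply, ← map_mul, inv_mul_cancel, map_one, Module.End.one_apply]

theorem r4_key {G : Type*} [Group G] (ρ : Representation ℂ G V) (W : Submodule ℂ V)
    (hW : finrank ℂ W ≤ 1) (g : G) (hg : ∀ v ∈ W, ρ g v ∈ W) :
    ∃ c : ℂ, c ≠ 0 ∧ (∀ v ∈ W, ρ g v = c • v) ∧ (∀ v ∈ W, ρ g⁻¹ v = c⁻¹ • v) := by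
  obtain ⟨w0, hw0⟩ := (finrank_le_one_iff (K := ℂ) (V := W)).mp hW
  by_cases h0 : (w0 : V) = 0
  · have hz : ∀ v ∈ W, v = 0 := by
      intro v hv
      obtain ⟨c, hc⟩ := hw0 ⟨v, hv⟩
      have h1 : c • (w0 : V) = v := congrArg Subtype.val hc
      rw [← h1, h0, smul_zero]
    refine ⟨1, one_ne_zero, ?_, ?_⟩
    · intro v hv
      rw [hz v hv, map_zero, smul_zero]
    · intro v hv
      rw [hz v hv, map_zero, smul_zero]
  · obtain ⟨c, hc⟩ := hw0 ⟨ρ g w0, hg _ w0.2⟩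
    have hc' : c • (w0 : V) = ρ g w0 := congrArg Subtype.val hc
    have hcne : c ≠ 0 := by
      rintro rfl
      rw [zero_smul] at hc'
      have h1 := r4_inv_apply ρ g (w0 : V)
      rw [← hc', map_zero] at h1
      exact h0 h1.symm
    have h2 : ρ g⁻¹ (w0 : V) = c⁻¹ • (w0 : V) := by
      have h1 := r4_inv_apply ρ g (w0 : V)
      rw [← hc', map_smul] at h1
      calc ρ g⁻¹ (w0 : V) = c⁻¹ • (c • ρ g⁻¹ (w0 : V)) := by
            rw [smul_smul, inv_mul_cancel₀ hcne, one_smul]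
        _ = c⁻¹ • (w0 : V) := by rw [h1]
    refine ⟨c, hcne, ?_, ?_⟩
    · intro v hv
      obtain ⟨d, hd⟩ := hw0 ⟨v, hv⟩
      have hd' : d • (w0 : V) = v := congrArg Subtype.val hd
      rw [← hd', map_smul, ← hc', smul_comm]
    · intro v hv
      obtain ⟨d, hd⟩ := hw0 ⟨v, hv⟩
      have hd' : d • (w0 : V) = v := congrArg Subtype.val hd
      rw [← hd', map_smul, h2, smul_comm]

omit [Fintype 𝓐] in
/-- piece R4 : a commutator of two elements stabilising a line acts trivially on it -/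
theorem comm_fix_line {G : Type*} [Group G] (ρ : Representation ℂ G V) (W : Submodule ℂ V)
    (hW : finrank ℂ W ≤ 1) (a b : G)
    (ha : ∀ v ∈ W, ρ a v ∈ W) (hb : ∀ v ∈ W, ρ b v ∈ W) : ∀ v ∈ W, ρ (a * b * a⁻¹ * b⁻¹) v = v := by
  obtain ⟨α, hα, hα1, hα2⟩ := r4_key ρ W hW a ha
  obtain ⟨β, hβ, hβ1, hβ2⟩ := r4_key ρ W hW b hb
  intro v hv
  rw [map_mul, map_mul, map_mul, Module.End.mul_apply, Module.End.mul_apply, Module.End.mul_apply,
    hβ2 v hv]
  simp only [map_smul]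
  rw [hα2 v hv]
  simp only [map_smul]
  rw [hβ1 v hv]
  simp only [map_smul]
  rw [hα1 v hv, smul_smul, smul_smul, smul_smul]
  have : β⁻¹ * α⁻¹ * β * α = 1 := by
    field_simp
  rw [this, one_smul]

end REPgen

end Cfsg.Agent.Helper94.SLN
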