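import Mathlib
import Cfsg.Agent.Lib.Helper62.SLN0
import Cfsg.Agent.Lib.Helper94.SLN_R4

/-! SLNC sub-server (helper93, TOP-C of SLN, S2332), piece KGEN `kgen`. -/

set_option autoImplicit false

namespace Cfsg.Agent.Helper94.SLNC

open Matrix Module Cfsg.Agent.Helper93.U2 Cfsg.Agent.Helper62.SLN

section SLN

variable {F : Type*} [Field F] [Fintype F] [DecidableEq F] {κ : Type} [Fintype κ] [DecidableEq κ]
  {V : Type*} [AddCommGroup V] [Module ℂ V] [FiniteDimensional ℂ V]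
  (ψ : AddChar F ℂ) (pr : Pairing (κ → F)) (hpr : ∀ w u, pr.β w u = ψ (w ⬝ᵥ u))
  (ρ : Representation ℂ (SpecialLinearGroup (Unit ⊕ κ) F) V)

include hpr

omit [DecidableEq F] in
/-- piece KGEN [M]: K1b of the SLN sigs for `|κ| ≥ 4` without `w j = 0` (R4 `comm_fix_line` + S1 `map_wt_lEl` + G2 `lEl_mul` + GGEN,
all passed as hypotheses so that the piece is standalone). -/
theorem kgen (hκ : 4 ≤ Fintype.card κ)
    (hcomm : ∀ (i : κ) (w t : κ → F), Function.update t i 0 ⬝ᵥ w = 0 →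
      ∃ X Y : SpecialLinearGroup κ F, X.1 *ᵥ w = w ∧ Y.1 *ᵥ w = w ∧ tvEl i t = X * Y * X⁻¹ * Y⁻¹)
    (hlmul : ∀ A B : SpecialLinearGroup κ F,
      (lEl (A * B) : SpecialLinearGroup (Unit ⊕ κ) F) = lEl A * lEl B)
    (hmap : ∀ (A : SpecialLinearGroup κ F) (w : κ → F) (v : V), v ∈ wt pr ρ w →
      ρ (lEl A) v ∈ wt pr ρ (A.1 *ᵥ w))
    (hd1 : ∀ w : κ → F, w ≠ 0 → finrank ℂ (wt pr ρ w) = 1)
    (i : κ) (w : κ → F) (hw : w ≠ 0) (t : κ → F) (ht : Function.update t i 0 ⬝ᵥ w = 0)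
    (v : V) (hv : v ∈ wt pr ρ w) : ρ (qEl i t) v = v := by
  obtain ⟨X, Y, hX, hY, hXY⟩ := hcomm i w t ht
  have hone : (lEl (1 : SpecialLinearGroup κ F) : SpecialLinearGroup (Unit ⊕ κ) F) = 1 := by
    have h := hlmul 1 1
    rw [mul_one] at h
    exact (mul_eq_left.mp h.symm)
  have hinv : ∀ A : SpecialLinearGroup κ F,
      (lEl A⁻¹ : SpecialLinearGroup (Unit ⊕ κ) F) = (lEl A)⁻¹ := by
    intro A
    have h := hlmul A A⁻¹
    rw [mul_inv_cancel, hone] at h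
    exact (inv_eq_of_mul_eq_one_right h.symm).symm
  have hq : (qEl i t : SpecialLinearGroup (Unit ⊕ κ) F) =
      lEl X * lEl Y * (lEl X)⁻¹ * (lEl Y)⁻¹ := by
    show lEl (tvEl i t) = _
    rw [hXY, hlmul, hlmul, hlmul, hinv, hinv]
  rw [hq]
  refine Cfsg.Agent.Helper94.SLN.comm_fix_line ρ (wt pr ρ w) (le_of_eq (hd1 w hw)) (lEl X) (lEl Y)
    ?_ ?_ v hv
  · intro u hu
    have := hmap X w u hu
    rwa [hX] at this
  · intro u hu
    have := hmap Y w u hu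
    rwa [hY] at this

end SLN

end Cfsg.Agent.Helper94.SLNC
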