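import Mathlib
import Cfsg.Agent.Lib.Helper62.SLN0

/-! SLN server (helper62, S2332), piece R1 `map_wsp_conj`. -/

set_option autoImplicit false

namespace Cfsg.Agent.Helper94.SLN

open Matrix Module Cfsg.Agent.Helper93.U2 Cfsg.Agent.Helper62.SLN

section REPgen

variable {G : Type*} [Group G] {𝓐 : Type*} [AddCommGroup 𝓐] [Fintype 𝓐]
  {V : Type*} [AddCommGroup V] [Module ℂ V] [FiniteDimensional ℂ V]
  (pr : Pairing 𝓐) (el : 𝓐 → G) (ρ : Representation ℂ G V)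

omit [Fintype 𝓐] [FiniteDimensional ℂ V] in
/-- piece R1 -/
theorem map_wsp_conj (l : G) (θ θ' : 𝓐 → 𝓐) (hθ : Function.Surjective θ)
    (hl : ∀ b, l * el b * l⁻¹ = el (θ b)) (hβ : ∀ a b, pr.β a (θ b) = pr.β (θ' a) b)
    (a : 𝓐) (v : V) (hv : v ∈ wsp pr el ρ (θ' a)) : ρ l v ∈ wsp pr el ρ a := by
  intro b
  obtain ⟨b', rfl⟩ := hθ b
  have h1 : ρ (el b') v = pr.β (θ' a) b' • v := hv b'
  rw [← hl b', map_mul, map_mul, Module.End.mul_apply, Module.End.mul_apply,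
    ← Module.End.mul_apply (ρ l⁻¹), ← map_mul, inv_mul_cancel, map_one, Module.End.one_apply,
    h1, map_smul, hβ]

end REPgen

end Cfsg.Agent.Helper94.SLN
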