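import Mathlib
import Cfsg.Agent.Lib.Helper2.SR0

/-! SR server (helper2), piece A1 `orb_self`. -/

set_option autoImplicit false

namespace Cfsg.Agent.Helper94.SR

open Matrix Cfsg Cfsg.Agent.Helper13 Cfsg.Agent.Helper84.SpRoot Cfsg.Agent.Helper5.SpAut
open Cfsg.Agent.Helper2.SR

section A
variable {F : Type*} [Field F] {n : ℕ}
  {H : Subgroup (Matrix.symplecticGroup (Fin n) F)} {e0 : Fin n ⊕ Fin n → F}

/-- (A1) -/
theorem orb_self : e0 ∈ Orb H e0 := by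
  refine ⟨1, H.one_mem, ?_⟩
  show (1 : Matrix (Fin n ⊕ Fin n) (Fin n ⊕ Fin n) F) *ᵥ e0 = e0
  exact Matrix.one_mulVec e0

end A

end Cfsg.Agent.Helper94.SR
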