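import Mathlib

/-!
# SR server (helper2, S2281): piece T1 `tri_iter` (generic strictly triangular matrices)
-/

set_option autoImplicit false

namespace Cfsg.Agent.Helper94.SR

open Matrix

section T
variable {F : Type*} [Field F] {ι : Type*} [Fintype ι] [DecidableEq ι]

/-- one step: `T x` vanishes below level `r + 1` -/
theorem h94_tri_step (lv : ι → ℕ) (T : Matrix ι ι F) (hT : ∀ a b, lv a ≤ lv b → T a b = 0)
    (r : ℕ) (x : ι → F) (hx : ∀ b, lv b < r → x b = 0) :
    ∀ a, lv a < r + 1 → (T *ᵥ x) a = 0 := by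
  intro a ha
  rw [Matrix.mulVec, dotProduct]
  apply Finset.sum_eq_zero
  intro b _
  by_cases hb : lv b < r
  · rw [hx b hb, mul_zero]
  · rw [hT a b (by omega), zero_mul]

/-- (T1) -/
theorem tri_iter (lv : ι → ℕ) (T : Matrix ι ι F) (hT : ∀ a b, lv a ≤ lv b → T a b = 0) :
    ∀ (k r : ℕ) (x : ι → F), (∀ b, lv b < r → x b = 0) →
      ∀ a, lv a < r + k → ((T ^ k) *ᵥ x) a = 0 := by
  intro k
  induction k with
  | zero =>
    intro r x hx a ha
    rw [pow_zero, Matrix.one_mulVec]
    exact hx a (by omega)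
  | succ k ih =>
    intro r x hx a ha
    rw [pow_succ, ← Matrix.mulVec_mulVec]
    exact ih (r + 1) (T *ᵥ x) (h94_tri_step lv T hT r x hx) a (by omega)

end T

end Cfsg.Agent.Helper94.SR
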