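import Mathlib
import Cfsg.Agent.Lib.Helper94.SRT1

/-!
# SR server (helper2, S2281): piece T2 `tri_iter_ne` (generic strictly triangular matrices)
-/

set_option autoImplicit false

namespace Cfsg.Agent.Helper94.SR

open Matrix

section T
variable {F : Type*} [Field F] {ι : Type*} [Fintype ι] [DecidableEq ι]

/-- (T2) -/
theorem tri_iter_ne (lv : ι → ℕ) (hinj : Function.Injective lv)
    (hsurj : ∀ a, ∀ j < lv a, ∃ b, lv b = j)
    (T : Matrix ι ι F) (hT : ∀ a b, lv a ≤ lv b → T a b = 0)
    (hsub : ∀ a b, lv a = lv b + 1 → T a b ≠ 0) :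
    ∀ (k r : ℕ) (x : ι → F), (∀ b, lv b < r → x b = 0) → (∃ b, lv b = r ∧ x b ≠ 0) →
      ∀ a, lv a = r + k → ((T ^ k) *ᵥ x) a ≠ 0 := by
  intro k
  induction k with
  | zero =>
    intro r x _ hx1 a ha
    obtain ⟨b, hb, hxb⟩ := hx1
    have hab : a = b := hinj (by omega)
    rw [pow_zero, Matrix.one_mulVec, hab]
    exact hxb
  | succ k ih =>
    intro r x hx hx1 a ha
    obtain ⟨b, hb, hxb⟩ := hx1
    rw [pow_succ, ← Matrix.mulVec_mulVec]
    apply ih (r + 1) (T *ᵥ x) (h94_tri_step lv T hT r x hx) ?_ a (by omega)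
    -- an index of level r + 1
    obtain ⟨b', hb'⟩ : ∃ b', lv b' = r + 1 := by
      by_cases h : r + 1 = lv a
      · exact ⟨a, h.symm⟩
      · exact hsurj a (r + 1) (by omega)
    refine ⟨b', hb', ?_⟩
    rw [Matrix.mulVec, dotProduct, Finset.sum_eq_single b]
    · exact mul_ne_zero (hsub b' b (by omega)) hxb
    · intro c _ hcb
      by_cases hc : lv c < r
      · rw [hx c hc, mul_zero]
      · have hne : lv c ≠ r := fun h => hcb (hinj (by omega))
        rw [hT b' c (by omega), zero_mul]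
    · intro h; exact absurd (Finset.mem_univ b) h

end T

end Cfsg.Agent.Helper94.SR
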