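import Mathlib
import Cfsg.Agent.Lib.Helper62.SUO0

/-! SUO server (helper62, S2282), piece A4 `MM_addsub`. -/

set_option autoImplicit false
set_option linter.unusedSectionVars false
set_option linter.unusedVariables false
set_option quotPrecheck false

namespace Cfsg.Agent.Helper94.SUO

open Matrix Cfsg Cfsg.Agent.Helper13 Cfsg.Agent.Helper87.PsuA Cfsg.Agent.Helper62.SUO

section A
variable {F : Type*} [Field F] [Fintype F] {q n : ℕ} (hF : Fintype.card F = q ^ 2)
  {Hs : Subgroup ↥(Cfsg.SU n F q)} {e0 : Fin n → F}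

local notation "V" => Fin n → F
local notation "G" => ↥(Cfsg.SU n F q)
local notation "H" => Cfsg.hermForm n F q

include hF

/-- (A4) `eich_mul`, `eich_one`, `eich_inv` with `w = 0` (`c ^ q = -c`) -/
theorem MM_addsub (h00 : H e0 e0 = 0) :
    ∃ S : AddSubgroup F, (S : Set F) = MM hF Hs e0 := by
  have hz : H e0 (0 : V) = 0 := H_zero_right hF e0
  have hzz : H (0 : V) (0 : V) = 0 := H_zero_left hF 0
  have hcond : ∀ a : F, a + a ^ q = 0 → a + a ^ q + H (0 : V) (0 : V) = 0 := by
    intro a ha
    rw [hzz, add_zero, ha]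
  refine ⟨{ carrier := MM hF Hs e0
            add_mem' := ?_
            zero_mem' := ?_
            neg_mem' := ?_ }, rfl⟩
  · rintro a b ⟨ha, ha'⟩ ⟨hb, hb'⟩
    refine ⟨?_, ?_⟩
    · rw [frob_add hF]
      linear_combination ha + hb
    · have h1 := eich_mul hF h00 hz (hcond a ha) hz (hcond b hb)
      rw [add_zero, hzz, sub_zero] at h1
      rw [← h1]
      exact Hs.mul_mem ha' hb'
  · refine ⟨?_, ?_⟩
    · rw [frob_zero hF, add_zero]
    · rw [eich_one hF h00]
      exact Hs.one_mem
  · rintro a ⟨ha, ha'⟩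
    refine ⟨?_, ?_⟩
    · rw [frob_neg hF]
      linear_combination -ha
    · have h1 := eich_inv hF h00 hz (hcond a ha)
      have h2 : a ^ q = -a := by linear_combination ha
      rw [neg_zero, h2] at h1
      rw [← h1]
      exact Hs.inv_mem ha'

end A

end Cfsg.Agent.Helper94.SUO
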