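import Mathlib
import Cfsg.Agent.Lib.Helper62.SUO0

/-! SUO server (helper62, S2282), pieces E2a `WW_act`, E2b `WW_smul`, and the core of E2c `WW_step`
(with E1 `Q_trans` as a hypothesis). -/

set_option autoImplicit false
set_option linter.unusedSectionVars false
set_option linter.unusedVariables false
set_option quotPrecheck false

namespace Cfsg.Agent.Helper94.SUO

open Matrix Cfsg Cfsg.Agent.Helper13 Cfsg.Agent.Helper87.PsuA Cfsg.Agent.Helper62.SUO

section E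
variable {F : Type*} [Field F] [Fintype F] {q n : ℕ} (hF : Fintype.card F = q ^ 2)
  {Hs : Subgroup ↥(Cfsg.SU n F q)}

local notation "V" => Fin n → F
local notation "G" => ↥(Cfsg.SU n F q)
local notation "H" => Cfsg.hermForm n F q

include hF

/-- (E2a) `eich_conj` -/
theorem WW_act {v : V} (hv : v ∈ WW hF Hs) {h : G} (hh : h ∈ Hs) : actv h v ∈ WW hF Hs := by
  obtain ⟨hvv, hall⟩ := hv
  refine ⟨by rw [H_actv]; exact hvv, ?_⟩
  intro w a hw ha
  have h1 : H v (actv h⁻¹ w) = 0 := by rw [H_actv_inv']; exact hw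
  have h2 : a + a ^ q + H (actv h⁻¹ w) (actv h⁻¹ w) = 0 := by rw [H_actv]; exact ha
  have h3 := hall (actv h⁻¹ w) a h1 h2
  have h4 := eich_conj hF hvv h1 h2 h
  rw [actv_actv_inv] at h4
  rw [← h4]
  exact Hs.mul_mem (Hs.mul_mem hh h3) (Hs.inv_mem hh)

/-- (E2b) `eich_smul` -/
theorem WW_smul {v : V} {lam : F} (hlam : lam ≠ 0) (hv : lam • v ∈ WW hF Hs) :
    v ∈ WW hF Hs := by
  obtain ⟨hvv, hall⟩ := hv
  have hlq : lam ^ q ≠ 0 := pow_ne_zero q hlam
  have hvv' : H v v = 0 := by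
    rw [hermForm_smul_left, hermForm_smul_right] at hvv
    rcases mul_eq_zero.mp hvv with h | h
    · exact absurd h hlam
    · rcases mul_eq_zero.mp h with h | h
      · exact absurd h hlq
      · exact h
  refine ⟨hvv', ?_⟩
  intro w a hw ha
  have h1 : H (lam • v) ((lam ^ q)⁻¹ • w) = 0 := by
    rw [hermForm_smul_left, hermForm_smul_right, hw, mul_zero, mul_zero]
  have h1' : H v ((lam ^ q)⁻¹ • w) = 0 := by
    rw [hermForm_smul_right, hw, mul_zero]
  have h2 : (lam * lam ^ q)⁻¹ * a + ((lam * lam ^ q)⁻¹ * a) ^ q +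
      H ((lam ^ q)⁻¹ • w) ((lam ^ q)⁻¹ • w) = 0 := by
    rw [hermForm_smul_left, hermForm_smul_right, mul_pow, inv_pow, inv_pow, mul_pow,
      frob_frob hF]
    have e : (lam * lam ^ q)⁻¹ * a + (lam ^ q * lam)⁻¹ * a ^ q + (lam ^ q)⁻¹ * (lam⁻¹ * H w w) =
        (lam * lam ^ q)⁻¹ * (a + a ^ q + H w w) := by
      field_simp
    rw [e, ha, mul_zero]
  have h3 := hall ((lam ^ q)⁻¹ • w) ((lam * lam ^ q)⁻¹ * a) h1 h2
  rw [eich_smul hF hvv' h1' h2] at h3
  have e1 : lam ^ q • (lam ^ q)⁻¹ • w = w := by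
    rw [smul_smul, mul_inv_cancel₀ hlq, one_smul]
  have e2 : lam * lam ^ q * ((lam * lam ^ q)⁻¹ * a) = a := by
    rw [← mul_assoc, mul_inv_cancel₀ (mul_ne_zero hlam hlq), one_mul]
  rw [e1, e2] at h3
  exact h3

/-- (E2c) core: E2a E2b, with E1 `Q_trans` as a hypothesis -/
theorem WW_step_of
    (hQ : ∀ {e v v' : V}, H e e = 0 → H v v = 0 → H v' v' = 0 → H v e ≠ 0 → H v' e ≠ 0 →
      ∃ (w : V) (a lam : F), H e w = 0 ∧ a + a ^ q + H w w = 0 ∧ lam ≠ 0 ∧
        actv (eich hF e w a) v = lam • v')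
    {e v v' : V} (he : e ∈ WW hF Hs) (hv : v ∈ WW hF Hs) (hv'v' : H v' v' = 0)
    (hve : H v e ≠ 0) (hv'e : H v' e ≠ 0) : v' ∈ WW hF Hs := by
  obtain ⟨w, a, lam, hew, ha, hlam, hact⟩ := hQ he.1 hv.1 hv'v' hve hv'e
  have h1 : eich hF e w a ∈ Hs := he.2 w a hew ha
  have h2 := WW_act hF hv h1
  rw [hact] at h2
  exact WW_smul hF hlam h2

end E

end Cfsg.Agent.Helper94.SUO
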