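import Mathlib
import Cfsg.Prelude.Def_RootSubgroups
import Cfsg.Prelude.Def_Classical
import Cfsg.Agent.Lib.Helper13.Herm
import Cfsg.Agent.Lib.Helper39.UnitaryData
import Cfsg.Agent.Lib.Helper44.UnitaryTv
import Cfsg.Agent.Lib.Helper5.SU2
import Cfsg.Agent.Lib.Helper83.SL2
import Cfsg.Agent.Lib.Helper83.Conj
import Cfsg.Agent.Lib.Helper94.RootSub

set_option autoImplicit false

/-! Unitary transvection subgroups of `SU_n(q)` as a degenerate class of abstract root subgroups
of the subgroup they generate (helper94). -/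

namespace Cfsg.Agent.Helper94.SURoot

open Matrix Cfsg Cfsg.Agent.Helper13 Cfsg.Agent.Helper39
open scoped commutatorElement

variable {F : Type*} [Field F] {q n : ℕ}

/-! ### the form -/

theorem hf_add_right (hq : FrobHyp F q) (u v w : Fin n → F) :
    hermForm n F q u (v + w) = hermForm n F q u v + hermForm n F q u w := by
  unfold hermForm
  rw [← Finset.sum_add_distrib]
  apply Finset.sum_congr rfl
  intro i _
  simp only [Pi.add_apply, hq.add]; ring

theorem hf_conj (hq : FrobHyp F q) (u v : Fin n → F) :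
    (hermForm n F q u v) ^ q = hermForm n F q v u := hermForm_symm hq n u v

theorem hf_zero_left (w : Fin n → F) : hermForm n F q 0 w = 0 := by
  have := hermForm_smul_left (q := q) (0 : F) (0 : Fin n → F) w
  rwa [zero_smul, zero_mul] at this

theorem hf_zero_right (hq : FrobHyp F q) (w : Fin n → F) : hermForm n F q w 0 = 0 := by
  rw [← hf_conj hq, hf_zero_left, hq.zero_pow']

theorem hf_eq_zero_symm (hq : FrobHyp F q) {u v : Fin n → F} (h : hermForm n F q u v = 0) :
    hermForm n F q v u = 0 := by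
  rw [← hf_conj hq, h, hq.zero_pow']

theorem hf_ne_zero_symm (hq : FrobHyp F q) {u v : Fin n → F} (h : hermForm n F q u v ≠ 0) :
    hermForm n F q v u ≠ 0 := fun h' => h (hf_eq_zero_symm hq h')

theorem hf_nondeg (hq : FrobHyp F q) {u : Fin n → F} (hu : u ≠ 0) :
    ∃ v, hermForm n F q v u ≠ 0 := by
  obtain ⟨i, hi⟩ := Function.ne_iff.1 hu
  refine ⟨Pi.single i 1, ?_⟩
  unfold hermForm
  rw [Finset.sum_eq_single i]
  · simp only [Pi.single_eq_same, one_mul]
    exact pow_ne_zero _ hi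
  · intro j _ hj
    simp [Pi.single_eq_of_ne hj]
  · intro h; exact absurd (Finset.mem_univ i) h

/-! ### elements of `SU` acting on vectors -/

/-- the action of an element of `SU` on a vector -/
def act (g : SU n F q) (v : Fin n → F) : Fin n → F :=
  ((g : Matrix.SpecialLinearGroup (Fin n) F) : Matrix (Fin n) (Fin n) F) *ᵥ v

theorem su_ext {g h : SU n F q} (H : ∀ v, act g v = act h v) : g = h := by
  apply Subtype.ext
  apply Subtype.ext
  apply Matrix.mulVec_injective
  funext v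
  exact H v

@[simp] theorem act_mul (g h : SU n F q) (v : Fin n → F) : act (g * h) v = act g (act h v) := by
  unfold act
  rw [Subgroup.coe_mul, Matrix.SpecialLinearGroup.coe_mul, Matrix.mulVec_mulVec]

@[simp] theorem act_one (v : Fin n → F) : act (1 : SU n F q) v = v := by
  unfold act
  rw [Subgroup.coe_one, Matrix.SpecialLinearGroup.coe_one, Matrix.one_mulVec]

theorem act_inv_act (g : SU n F q) (v : Fin n → F) : act g⁻¹ (act g v) = v := by
  rw [← act_mul, inv_mul_cancel, act_one]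

theorem act_act_inv (g : SU n F q) (v : Fin n → F) : act g (act g⁻¹ v) = v := by
  rw [← act_mul, mul_inv_cancel, act_one]

theorem act_add (g : SU n F q) (u v : Fin n → F) : act g (u + v) = act g u + act g v :=
  Matrix.mulVec_add _ _ _

theorem act_smul (g : SU n F q) (a : F) (v : Fin n → F) : act g (a • v) = a • act g v :=
  Matrix.mulVec_smul _ _ _

theorem act_sub (g : SU n F q) (u v : Fin n → F) : act g (u - v) = act g u - act g v :=
  Matrix.mulVec_sub _ _ _

theorem act_zero (g : SU n F q) : act g (0 : Fin n → F) = 0 := Matrix.mulVec_zero _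

theorem su_pres (g : SU n F q) (u v : Fin n → F) :
    hermForm n F q (act g u) (act g v) = hermForm n F q u v := g.2 u v

theorem su_pres_right (g : SU n F q) (u v : Fin n → F) :
    hermForm n F q u (act g v) = hermForm n F q (act g⁻¹ u) v := by
  conv_lhs => rw [← act_act_inv g u]
  exact su_pres g _ _

theorem act_ne_zero (g : SU n F q) {p : Fin n → F} (hp : p ≠ 0) : act g p ≠ 0 := by
  intro h
  have := act_inv_act g p
  rw [h, act_zero] at this
  exact hp this.symm

/-! ### unitary transvections -/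

/-- the parameter set: `a ^ q = -a` -/
def KK (F : Type*) [Field F] (q : ℕ) : Set F := {a | a ^ q = -a}

theorem KK_add (hq : FrobHyp F q) {a b : F} (ha : a ∈ KK F q) (hb : b ∈ KK F q) :
    a + b ∈ KK F q := by
  change (a + b) ^ q = -(a + b)
  rw [hq.add, ha, hb]; ring

theorem KK_neg (hq : FrobHyp F q) {a : F} (ha : a ∈ KK F q) : -a ∈ KK F q := by
  change (-a) ^ q = -(-a)
  rw [hq.neg, ha]

theorem KK_zero (hq : FrobHyp F q) : (0 : F) ∈ KK F q := by
  change (0 : F) ^ q = -0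
  rw [hq.zero_pow', neg_zero]

theorem KK_mul_fixed {a c : F} (ha : a ∈ KK F q) (hc : c ^ q = c) : a * c ∈ KK F q := by
  change (a * c) ^ q = -(a * c)
  rw [mul_pow, ha, hc]; ring

theorem KK_inv {a : F} (ha : a ∈ KK F q) : a⁻¹ ∈ KK F q := by
  change (a⁻¹) ^ q = -(a⁻¹)
  rw [inv_pow, ha, inv_neg]

open Classical in
/-- the unitary transvection `v ↦ v + a h(v,p) p` (the identity unless `p` is isotropic
and `a ^ q = -a`) -/
noncomputable def ut (hq : FrobHyp F q) (p : Fin n → F) (a : F) : SU n F q :=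
  if h : hermForm n F q p p = 0 ∧ a ^ q = -a then utv hq n p a h.1 h.2 else 1

theorem ut_act (hq : FrobHyp F q) {p : Fin n → F} (hp : hermForm n F q p p = 0) {a : F}
    (ha : a ∈ KK F q) (v : Fin n → F) :
    act (ut hq p a) v = v + (a * hermForm n F q v p) • p := by
  unfold ut
  rw [dif_pos ⟨hp, ha⟩]
  exact utvMat_mulVec n q p a v

theorem ut_mul (hq : FrobHyp F q) {p : Fin n → F} (hp : hermForm n F q p p = 0) {a b : F}
    (ha : a ∈ KK F q) (hb : b ∈ KK F q) : ut hq p a * ut hq p b = ut hq p (a + b) := by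
  apply su_ext
  intro v
  rw [act_mul, ut_act hq hp ha, ut_act hq hp hb, ut_act hq hp (KK_add hq ha hb),
    hermForm_add_left, hermForm_smul_left, hp]
  module

theorem ut_zero (hq : FrobHyp F q) (p : Fin n → F) : ut hq p (0 : F) = 1 := by
  by_cases hp : hermForm n F q p p = 0
  · apply su_ext
    intro v
    rw [ut_act hq hp (KK_zero hq), act_one, zero_mul, zero_smul, add_zero]
  · unfold ut
    rw [dif_neg (fun h => hp h.1)]

theorem ut_inv (hq : FrobHyp F q) {p : Fin n → F} (hp : hermForm n F q p p = 0) {a : F}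
    (ha : a ∈ KK F q) : (ut hq p a)⁻¹ = ut hq p (-a) := by
  rw [inv_eq_iff_mul_eq_one, ut_mul hq hp ha (KK_neg hq ha), add_neg_cancel, ut_zero]

theorem isotropic_act (g : SU n F q) {p : Fin n → F} (hp : hermForm n F q p p = 0) :
    hermForm n F q (act g p) (act g p) = 0 := by
  rw [su_pres, hp]

theorem conj_ut (hq : FrobHyp F q) (g : SU n F q) {p : Fin n → F}
    (hp : hermForm n F q p p = 0) {a : F} (ha : a ∈ KK F q) :
    g * ut hq p a * g⁻¹ = ut hq (act g p) a := by
  apply su_ext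
  intro v
  rw [act_mul, act_mul, ut_act hq hp ha, ut_act hq (isotropic_act g hp) ha, act_add, act_smul,
    act_act_inv, su_pres_right]

theorem ut_comm (hq : FrobHyp F q) {p r : Fin n → F} (hp : hermForm n F q p p = 0)
    (hr : hermForm n F q r r = 0) (h : hermForm n F q p r = 0) {a b : F}
    (ha : a ∈ KK F q) (hb : b ∈ KK F q) : ut hq p a * ut hq r b = ut hq r b * ut hq p a := by
  have h' : hermForm n F q r p = 0 := hf_eq_zero_symm hq h
  apply su_ext
  intro v
  rw [act_mul, act_mul, ut_act hq hp ha, ut_act hq hr hb, ut_act hq hp ha, ut_act hq hr hb,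
    hermForm_add_left, hermForm_smul_left, hermForm_add_left, hermForm_smul_left, h, h']
  module

theorem ut_eq_one_iff (hq : FrobHyp F q) {p : Fin n → F} (hp0 : p ≠ 0)
    (hp : hermForm n F q p p = 0) {a : F} (ha : a ∈ KK F q) : ut hq p a = 1 ↔ a = 0 := by
  constructor
  · intro h
    obtain ⟨v, hv⟩ := hf_nondeg (q := q) hq hp0
    have h1 := congrArg (fun g : SU n F q => act g v) h
    simp only [ut_act hq hp ha, act_one] at h1
    rw [add_eq_left] at h1
    rcases smul_eq_zero.1 h1 with h3 | h3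
    · rcases mul_eq_zero.1 h3 with h4 | h4
      · exact h4
      · exact absurd h4 hv
    · exact absurd h3 hp0
  · rintro rfl
    exact ut_zero hq p

/-! ### the transvection subgroups -/

/-- the generating set of the statement -/
def genSet (q : ℕ) (p : Fin n → F) : Set (SU n F q) :=
  {g | (∀ v : Fin n → F, ∃ c : F,
      ((g : Matrix.SpecialLinearGroup (Fin n) F) : Matrix (Fin n) (Fin n) F) *ᵥ v = v + c • p) ∧
    ∀ v : Fin n → F, hermForm n F q v p = 0 →
      ((g : Matrix.SpecialLinearGroup (Fin n) F) : Matrix (Fin n) (Fin n) F) *ᵥ v = v}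

/-- the transvection subgroup with centre `p` -/
def T (q : ℕ) (p : Fin n → F) : Subgroup (SU n F q) := Subgroup.closure (genSet q p)

theorem ut_mem_genSet (hq : FrobHyp F q) {p : Fin n → F} (hp : hermForm n F q p p = 0) {a : F}
    (ha : a ∈ KK F q) : ut hq p a ∈ genSet q p := by
  constructor
  · intro v
    exact ⟨a * hermForm n F q v p, ut_act hq hp ha v⟩
  · intro v hv
    have := ut_act hq hp ha v
    rw [hv, mul_zero, zero_smul, add_zero] at this
    exact this

theorem mem_genSet_iff (hq : FrobHyp F q) {p : Fin n → F} (hp0 : p ≠ 0)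
    (hp : hermForm n F q p p = 0) {g : SU n F q} :
    g ∈ genSet q p ↔ ∃ a ∈ KK F q, g = ut hq p a := by
  constructor
  · rintro ⟨h1, h2⟩
    obtain ⟨v₀, hv₀⟩ := hf_nondeg (q := q) hq hp0
    -- normalise
    obtain ⟨w, hw⟩ : ∃ w : Fin n → F, w = (hermForm n F q v₀ p)⁻¹ • v₀ := ⟨_, rfl⟩
    have hwp : hermForm n F q w p = 1 := by
      rw [hw, hermForm_smul_left, inv_mul_cancel₀ hv₀]
    have hpw : hermForm n F q p w = 1 := by
      rw [← hf_conj hq, hwp, one_pow]
    obtain ⟨a, ha⟩ := h1 w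
    have hga : ∀ v, act g v = v + (a * hermForm n F q v p) • p := by
      intro v
      have hperp : hermForm n F q (v - hermForm n F q v p • w) p = 0 := by
        rw [sub_eq_add_neg, hermForm_add_left, ← neg_smul, hermForm_smul_left, hwp]; ring
      have h3 := h2 _ hperp
      have h4 : act g v = act g (v - hermForm n F q v p • w) + hermForm n F q v p • act g w := by
        rw [← act_smul, ← act_add, sub_add_cancel]
      rw [h4]
      change act g (v - hermForm n F q v p • w) = _ at h3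
      change act g w = _ at ha
      rw [h3, ha]
      module
    have haK : a ∈ KK F q := by
      have h5 := su_pres g w w
      rw [hga w, hwp, mul_one, hermForm_add_left, hermForm_smul_left, hf_add_right hq,
        hf_add_right hq, hermForm_smul_right, hermForm_smul_right, hp, hwp, hpw] at h5
      change a ^ q = -a
      linear_combination h5
    refine ⟨a, haK, ?_⟩
    apply su_ext
    intro v
    rw [hga v, ut_act hq hp haK]
  · rintro ⟨a, ha, rfl⟩
    exact ut_mem_genSet hq hp ha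

theorem ut_mem_T (hq : FrobHyp F q) {p : Fin n → F} (hp : hermForm n F q p p = 0) {a : F}
    (ha : a ∈ KK F q) : ut hq p a ∈ T q p :=
  Subgroup.subset_closure (ut_mem_genSet hq hp ha)

theorem mem_T_iff (hq : FrobHyp F q) {p : Fin n → F} (hp0 : p ≠ 0)
    (hp : hermForm n F q p p = 0) {g : SU n F q} :
    g ∈ T q p ↔ ∃ a ∈ KK F q, g = ut hq p a := by
  constructor
  · intro hg
    induction hg using Subgroup.closure_induction with
    | mem g hg => exact (mem_genSet_iff hq hp0 hp).1 hg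
    | one => exact ⟨0, KK_zero hq, (ut_zero hq p).symm⟩
    | mul g h _ _ ihg ihh =>
      obtain ⟨c, hc, rfl⟩ := ihg
      obtain ⟨d, hd, rfl⟩ := ihh
      exact ⟨c + d, KK_add hq hc hd, ut_mul hq hp hc hd⟩
    | inv g _ ihg =>
      obtain ⟨c, hc, rfl⟩ := ihg
      exact ⟨-c, KK_neg hq hc, ut_inv hq hp hc⟩
  · rintro ⟨a, ha, rfl⟩
    exact ut_mem_T hq hp ha

theorem genSet_smul (hq : FrobHyp F q) {μ : F} (hμ : μ ≠ 0) (p : Fin n → F) :
    genSet q (μ • p) = genSet q p := by
  ext g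
  constructor
  · rintro ⟨h1, h2⟩
    refine ⟨fun v => ?_, fun v hv => h2 v ?_⟩
    · obtain ⟨c, hc⟩ := h1 v
      exact ⟨c * μ, by rw [hc, smul_smul]⟩
    · rw [hermForm_smul_right, hv, mul_zero]
  · rintro ⟨h1, h2⟩
    refine ⟨fun v => ?_, fun v hv => h2 v ?_⟩
    · obtain ⟨c, hc⟩ := h1 v
      refine ⟨c * μ⁻¹, ?_⟩
      rw [hc, smul_smul, mul_assoc, inv_mul_cancel₀ hμ, mul_one]
    · rw [hermForm_smul_right] at hv
      rcases mul_eq_zero.1 hv with h | h
      · exact absurd (pow_eq_zero_iff (hq.qpos.ne') |>.1 h) hμ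
      · exact h

theorem T_smul (hq : FrobHyp F q) {μ : F} (hμ : μ ≠ 0) (p : Fin n → F) :
    T q (μ • p) = T q p := by
  unfold T
  rw [genSet_smul hq hμ]

theorem conjBy_T (hq : FrobHyp F q) (g : SU n F q) {p : Fin n → F} (hp0 : p ≠ 0)
    (hp : hermForm n F q p p = 0) : conjBy (T q p) g = T q (act g p) := by
  ext h
  rw [Cfsg.Agent.Helper83.mem_conjBy_iff_exists]
  constructor
  · rintro ⟨t, ht, rfl⟩
    obtain ⟨c, hc, rfl⟩ := (mem_T_iff hq hp0 hp).1 ht
    rw [conj_ut hq g hp hc]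
    exact ut_mem_T hq (isotropic_act g hp) hc
  · intro hh
    obtain ⟨c, hc, rfl⟩ := (mem_T_iff hq (act_ne_zero g hp0) (isotropic_act g hp)).1 hh
    exact ⟨ut hq p c, ut_mem_T hq hp hc, conj_ut hq g hp hc⟩

theorem T_comm (hq : FrobHyp F q) {p r : Fin n → F} (hp0 : p ≠ 0) (hr0 : r ≠ 0)
    (hp : hermForm n F q p p = 0)
    (hr : hermForm n F q r r = 0) (h : hermForm n F q p r = 0)
    {a b : SU n F q} (ha : a ∈ T q p) (hb : b ∈ T q r) : a * b = b * a := by
  obtain ⟨c, hc, rfl⟩ := (mem_T_iff hq hp0 hp).1 ha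
  obtain ⟨d, hd, rfl⟩ := (mem_T_iff hq hr0 hr).1 hb
  exact ut_comm hq hp hr h hc hd

theorem T_commutative (hq : FrobHyp F q) {p : Fin n → F} (hp0 : p ≠ 0)
    (hp : hermForm n F q p p = 0) : IsMulCommutative (T q p) :=
  ⟨⟨fun a b => Subtype.ext (T_comm hq hp0 hp0 hp hp hp a.2 b.2)⟩⟩

theorem T_commutator_eq_bot (hq : FrobHyp F q) {p r : Fin n → F} (hp0 : p ≠ 0) (hr0 : r ≠ 0)
    (hp : hermForm n F q p p = 0)
    (hr : hermForm n F q r r = 0) (h : hermForm n F q p r = 0) :
    ⁅T q p, T q r⁆ = ⊥ := by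
  rw [Subgroup.commutator_eq_bot_iff_le_centralizer]
  intro a ha
  rw [Subgroup.mem_centralizer_iff]
  intro b hb
  exact (T_comm hq hp0 hr0 hp hr h ha hb).symm

theorem T_ne_bot (hq : FrobHyp F q) {κ : F} (hκ : κ ∈ KK F q) (hκ0 : κ ≠ 0) {p : Fin n → F}
    (hp0 : p ≠ 0) (hp : hermForm n F q p p = 0) : T q p ≠ ⊥ := by
  intro h
  have h1 : ut hq p κ ∈ T q p := ut_mem_T hq hp hκ
  rw [h, Subgroup.mem_bot, ut_eq_one_iff hq hp0 hp hκ] at h1
  exact hκ0 h1

theorem ne_zero_left (hq : FrobHyp F q) {p r : Fin n → F} (h : hermForm n F q p r ≠ 0) :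
    p ≠ 0 := by
  rintro rfl
  exact h (hf_zero_left _)

theorem ne_zero_right (hq : FrobHyp F q) {p r : Fin n → F} (h : hermForm n F q p r ≠ 0) :
    r ≠ 0 := by
  rintro rfl
  exact h (hf_zero_right hq _)

/-! ### rank one pairs -/

theorem norm_fixed (hq : FrobHyp F q) (p r : Fin n → F) :
    (hermForm n F q p r * hermForm n F q r p) ^ q = hermForm n F q p r * hermForm n F q r p := by
  rw [mul_pow, hf_conj hq, hf_conj hq, mul_comm]

theorem rankOneCond (hq : FrobHyp F q) {p r : Fin n → F} (hp : hermForm n F q p p = 0)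
    (hr : hermForm n F q r r = 0) (hpr : hermForm n F q p r ≠ 0) :
    RankOneCondition (T q p) (T q r) := by
  intro a ha ha1
  have hp0 : p ≠ 0 := ne_zero_left hq hpr
  have hr0 : r ≠ 0 := ne_zero_right hq hpr
  have hrp : hermForm n F q r p ≠ 0 := hf_ne_zero_symm hq hpr
  obtain ⟨α, hα, rfl⟩ := (mem_T_iff hq hp0 hp).1 ha
  have hα0 : α ≠ 0 := fun h => ha1 (by rw [h, ut_zero])
  obtain ⟨η, hη⟩ : ∃ η, η = hermForm n F q p r := ⟨_, rfl⟩
  obtain ⟨η', hη'⟩ : ∃ η', η' = hermForm n F q r p := ⟨_, rfl⟩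
  have hη0 : η ≠ 0 := hη ▸ hpr
  have hη'0 : η' ≠ 0 := hη' ▸ hrp
  have hN : (η * η') ^ q = η * η' := by rw [hη, hη']; exact norm_fixed hq p r
  have hαN : α * (η * η') ∈ KK F q := KK_mul_fixed hα hN
  have hαN0 : α * (η * η') ≠ 0 := mul_ne_zero hα0 (mul_ne_zero hη0 hη'0)
  obtain ⟨β, hβdef⟩ : ∃ β, β = (α * (η * η'))⁻¹ := ⟨_, rfl⟩
  have hβ : β ∈ KK F q := hβdef ▸ KK_inv hαN
  have hβ0 : β ≠ 0 := hβdef ▸ inv_ne_zero hαN0
  have hβ1 : β * (α * (η * η')) = 1 := by rw [hβdef]; exact inv_mul_cancel₀ hαN0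
  refine ⟨ut hq r β, ut_mem_T hq hr hβ, ?_, ?_⟩
  · rw [Ne, ut_eq_one_iff hq hr0 hr hβ]
    exact hβ0
  · rw [conjBy_T hq _ hp0 hp, conjBy_T hq _ hr0 hr, ut_inv hq hr hβ, ut_inv hq hp hα,
      ut_act hq hr (KK_neg hq hβ), ut_act hq hp (KK_neg hq hα), ← hη, ← hη']
    have e2 : p + (-β * η) • r = (-β * η) • (r + (-α * η') • p) := by
      rw [smul_add, smul_smul]
      have e3 : -β * η * (-α * η') = 1 := by linear_combination hβ1
      rw [e3, one_smul, add_comm]
    rw [e2, T_smul hq (mul_ne_zero (neg_ne_zero.2 hβ0) hη0)]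

theorem T_ne_of_nonorth (hq : FrobHyp F q) {κ : F} (hκ : κ ∈ KK F q) (hκ0 : κ ≠ 0)
    {p r : Fin n → F} (hp : hermForm n F q p p = 0)
    (hr : hermForm n F q r r = 0) (hpr : hermForm n F q p r ≠ 0) : T q p ≠ T q r := by
  intro h
  have hp0 : p ≠ 0 := ne_zero_left hq hpr
  have hr0 : r ≠ 0 := ne_zero_right hq hpr
  have h1 : ut hq r κ ∈ T q p := by rw [h]; exact ut_mem_T hq hr hκ
  obtain ⟨c, hc, hce⟩ := (mem_T_iff hq hp0 hp).1 h1
  have h2 := congrArg (fun g : SU n F q => act g p) hce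
  simp only [ut_act hq hr hκ, ut_act hq hp hc, hp, mul_zero, zero_smul, add_zero] at h2
  rw [add_eq_left] at h2
  rcases smul_eq_zero.1 h2 with h3 | h3
  · rcases mul_eq_zero.1 h3 with h4 | h4
    · exact hκ0 h4
    · exact hpr h4
  · exact hr0 h3

theorem rankOnePair_of_nonorth (hq : FrobHyp F q) {κ : F} (hκ : κ ∈ KK F q) (hκ0 : κ ≠ 0)
    {p r : Fin n → F} (hp : hermForm n F q p p = 0)
    (hr : hermForm n F q r r = 0) (hpr : hermForm n F q p r ≠ 0) :
    IsRankOnePair (T q p) (T q r) := by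
  have hp0 : p ≠ 0 := ne_zero_left hq hpr
  have hr0 : r ≠ 0 := ne_zero_right hq hpr
  have hrp : hermForm n F q r p ≠ 0 := hf_ne_zero_symm hq hpr
  exact ⟨T_ne_of_nonorth hq hκ hκ0 hp hr hpr,
    Cfsg.Agent.Helper83.isNilpotent_of_isMulCommutative (T_commutative hq hp0 hp),
    Cfsg.Agent.Helper83.isNilpotent_of_isMulCommutative (T_commutative hq hr0 hr),
    rankOneCond hq hp hr hpr, rankOneCond hq hr hp hrp⟩

/-- the centrality clause of the commutator case fails for a non-orthogonal pair -/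
theorem not_central_of_nonorth (hq : FrobHyp F q) {κ : F} (hκ : κ ∈ KK F q) (hκ0 : κ ≠ 0)
    {p r : Fin n → F} (hp : hermForm n F q p p = 0)
    (hr : hermForm n F q r r = 0) (hpr : hermForm n F q p r ≠ 0) :
    ¬ ∀ c ∈ ⁅T q p, T q r⁆, ∀ x ∈ T q p ⊔ T q r, c * x = x * c := by
  intro hcentral
  have hp0 : p ≠ 0 := ne_zero_left hq hpr
  have hrp : hermForm n F q r p ≠ 0 := hf_ne_zero_symm hq hpr
  have hc := hcentral ⁅ut hq p κ, ut hq r κ⁆
    (Subgroup.commutator_mem_commutator (ut_mem_T hq hp hκ) (ut_mem_T hq hr hκ)) (ut hq p κ)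
    (Subgroup.mem_sup_left (ut_mem_T hq hp hκ))
  have hap : act (ut hq p κ) p = p := by
    rw [ut_act hq hp hκ, hp, mul_zero, zero_smul, add_zero]
  have h1 := congrArg (fun g : SU n F q => act g p) hc
  simp only [act_mul] at h1
  rw [hap, ut_act hq hp hκ, left_eq_add] at h1
  have hnκ := KK_neg hq hκ
  have h2 : hermForm n F q (act ⁅ut hq p κ, ut hq r κ⁆ p) p
      = κ ^ 3 * (hermForm n F q p r * hermForm n F q r p) ^ 2 := by
    simp only [commutatorElement_def, act_mul, ut_inv hq hp hκ, ut_inv hq hr hκ, ut_act hq hp hκ,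
      ut_act hq hr hκ, ut_act hq hp hnκ, ut_act hq hr hnκ, hermForm_add_left,
      hermForm_smul_left, hp, hr]
    ring
  rcases smul_eq_zero.1 h1 with h3 | h3
  · rw [h2] at h3
    rcases mul_eq_zero.1 h3 with h4 | h4
    · exact hκ0 h4
    · rcases mul_eq_zero.1 h4 with h5 | h5
      · exact pow_ne_zero 3 hκ0 h5
      · exact mul_ne_zero hpr hrp (pow_eq_zero_iff (by norm_num) |>.1 h5)
  · exact hp0 h3

/-! ### the `SL₂` attached to a hyperbolic pair -/

/-- the conjugate vector -/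
def cj (q : ℕ) (v : Fin n → F) : Fin n → F := fun j => (v j) ^ q

theorem cj_dot (u v : Fin n → F) : cj q u ⬝ᵥ v = hermForm n F q v u := by
  unfold cj hermForm dotProduct
  apply Finset.sum_congr rfl
  intro j _
  ring

/-- the matrix acting as `[[A, B], [C, D]]` on the hyperbolic plane `⟨p, r⟩` and trivially on its
orthogonal complement -/
def phiMat (q : ℕ) (p r : Fin n → F) (A B C D : F) : Matrix (Fin n) (Fin n) F :=
  1 + vecMulVec p ((A - 1) • cj q r + B • cj q p) + vecMulVec r (C • cj q r + (D - 1) • cj q p)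

theorem phiMat_mulVec (p r : Fin n → F) (A B C D : F) (v : Fin n → F) :
    phiMat q p r A B C D *ᵥ v = v
      + ((A - 1) * hermForm n F q v r + B * hermForm n F q v p) • p
      + (C * hermForm n F q v r + (D - 1) * hermForm n F q v p) • r := by
  unfold phiMat
  rw [Matrix.add_mulVec, Matrix.add_mulVec, Matrix.one_mulVec, Matrix.vecMulVec_mulVec,
    Matrix.vecMulVec_mulVec, op_smul_eq_smul, op_smul_eq_smul, add_dotProduct, add_dotProduct,
    smul_dotProduct, smul_dotProduct, smul_dotProduct, smul_dotProduct, cj_dot, cj_dot]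
  simp only [smul_eq_mul]

theorem phiMat_preserves (hq : FrobHyp F q) {p r : Fin n → F} (hp : hermForm n F q p p = 0)
    (hr : hermForm n F q r r = 0) (hpr : hermForm n F q p r = 1) (hrp : hermForm n F q r p = 1)
    {A B C D : F} (hA : A ^ q = A) (hD : D ^ q = D) (hB : B ^ q = -B) (hC : C ^ q = -C)
    (hdet : A * D - B * C = 1) (u v : Fin n → F) :
    hermForm n F q (phiMat q p r A B C D *ᵥ u) (phiMat q p r A B C D *ᵥ v)
      = hermForm n F q u v := by
  rw [phiMat_mulVec, phiMat_mulVec]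
  simp only [hermForm_add_left, hermForm_smul_left, hf_add_right hq, hermForm_smul_right,
    hq.add, hq.sub, mul_pow, one_pow, hf_conj hq, hA, hB, hC, hD, hp, hr, hpr, hrp]
  linear_combination (hermForm n F q u p * hermForm n F q r v
    + hermForm n F q u r * hermForm n F q p v) * hdet

theorem phiMat_mul {p r : Fin n → F} (hp : hermForm n F q p p = 0)
    (hr : hermForm n F q r r = 0) (hpr : hermForm n F q p r = 1) (hrp : hermForm n F q r p = 1)
    (A B C D A' B' C' D' : F) :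
    phiMat q p r A B C D * phiMat q p r A' B' C' D' =
      phiMat q p r (A * A' + B * C') (A * B' + B * D') (C * A' + D * C') (C * B' + D * D') := by
  apply Matrix.mulVec_injective
  funext v
  rw [← Matrix.mulVec_mulVec, phiMat_mulVec, phiMat_mulVec, phiMat_mulVec]
  simp only [hermForm_add_left, hermForm_smul_left, hp, hr, hpr, hrp]
  module

theorem phiMat_one (p r : Fin n → F) : phiMat q p r 1 0 0 1 = 1 := by
  apply Matrix.mulVec_injective
  funext v
  rw [phiMat_mulVec, Matrix.one_mulVec]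
  simp

theorem phiMat_upper (p r : Fin n → F) (b : F) : phiMat q p r 1 b 0 1 = utvMat n q p b := by
  apply Matrix.mulVec_injective
  funext v
  rw [phiMat_mulVec, utvMat_mulVec]
  simp

theorem phiMat_lower (p r : Fin n → F) (c : F) : phiMat q p r 1 0 c 1 = utvMat n q r c := by
  apply Matrix.mulVec_injective
  funext v
  rw [phiMat_mulVec, utvMat_mulVec]
  simp

section hom

variable {L : Type*} [Field L] (ι : L →+* F) (κ : F)

/-- the matrix attached to a `2 × 2` matrix over the small field -/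
def phiM (q : ℕ) (p r : Fin n → F) (M : Matrix (Fin 2) (Fin 2) L) : Matrix (Fin n) (Fin n) F :=
  phiMat q p r (ι (M 0 0)) (κ * ι (M 0 1)) (κ⁻¹ * ι (M 1 0)) (ι (M 1 1))

theorem phiM_mul (hκ0 : κ ≠ 0) {p r : Fin n → F} (hp : hermForm n F q p p = 0)
    (hr : hermForm n F q r r = 0) (hpr : hermForm n F q p r = 1) (hrp : hermForm n F q r p = 1)
    (M N : Matrix (Fin 2) (Fin 2) L) :
    phiM ι κ q p r (M * N) = phiM ι κ q p r M * phiM ι κ q p r N := by
  unfold phiM
  rw [phiMat_mul hp hr hpr hrp]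
  simp only [Matrix.mul_apply, Fin.sum_univ_two, map_add, map_mul]
  congr 1 <;> field_simp

theorem phiM_one (p r : Fin n → F) : phiM ι κ q p r (1 : Matrix (Fin 2) (Fin 2) L) = 1 := by
  unfold phiM
  simp [phiMat_one]

theorem det_phiM (hκ0 : κ ≠ 0) {p r : Fin n → F} (hp : hermForm n F q p p = 0)
    (hr : hermForm n F q r r = 0) (hpr : hermForm n F q p r = 1) (hrp : hermForm n F q r p = 1)
    (M : Matrix.SpecialLinearGroup (Fin 2) L) : (phiM ι κ q p r M.val).det = 1 := by
  have hM : M ∈ lowerUnipotentSL2 L ⊔ upperUnipotentSL2 L := by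
    rw [Cfsg.Agent.Helper83.sl2_generation]; trivial
  rw [Subgroup.sup_eq_closure] at hM
  induction hM using Subgroup.closure_induction with
  | mem g hg =>
    rcases hg with hg | hg
    · obtain ⟨t, rfl⟩ := Cfsg.Agent.Helper83.mem_lowerUnipotentSL2.1 hg
      unfold phiM
      simp only [Cfsg.Agent.Helper83.lSL_coe, Matrix.of_apply, Matrix.cons_val', Matrix.cons_val_zero,
        Matrix.cons_val_one, Matrix.cons_val_fin_one, map_one, map_zero, mul_zero]
      rw [phiMat_lower, det_utvMat _ _ _ _ hr]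
    · obtain ⟨t, rfl⟩ := Cfsg.Agent.Helper83.mem_upperUnipotentSL2.1 hg
      unfold phiM
      simp only [Cfsg.Agent.Helper83.uSL_coe, Matrix.of_apply, Matrix.cons_val', Matrix.cons_val_zero,
        Matrix.cons_val_one, Matrix.cons_val_fin_one, map_one, map_zero, mul_zero]
      rw [phiMat_upper, det_utvMat _ _ _ _ hp]
  | one => rw [Matrix.SpecialLinearGroup.coe_one, phiM_one, Matrix.det_one]
  | mul g h _ _ ihg ihh =>
    rw [Matrix.SpecialLinearGroup.coe_mul, phiM_mul ι κ hκ0 hp hr hpr hrp, Matrix.det_mul, ihg, ihh,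
      one_mul]
  | inv g _ ih =>
    have h1 : phiM ι κ q p r (g⁻¹).val * phiM ι κ q p r g.val = 1 := by
      rw [← phiM_mul ι κ hκ0 hp hr hpr hrp, ← Matrix.SpecialLinearGroup.coe_mul, inv_mul_cancel,
        Matrix.SpecialLinearGroup.coe_one, phiM_one]
    have h2 := congrArg Matrix.det h1
    rw [Matrix.det_mul, ih, mul_one, Matrix.det_one] at h2
    exact h2

end hom

section hom2

variable {L : Type*} [Field L]

/-- the embedding of `SL₂(L)` attached to a hyperbolic pair -/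
noncomputable def phi (hq : FrobHyp F q) (ι : L →+* F) (hι : ∀ x, (ι x) ^ q = ι x) {κ : F}
    (hκ : κ ∈ KK F q) (hκ0 : κ ≠ 0) {p r : Fin n → F} (hp : hermForm n F q p p = 0)
    (hr : hermForm n F q r r = 0) (hpr : hermForm n F q p r = 1) (hrp : hermForm n F q r p = 1) :
    Matrix.SpecialLinearGroup (Fin 2) L →* SU n F q :=
  MonoidHom.mk' (fun M => ⟨⟨phiM ι κ q p r M.val, det_phiM ι κ hκ0 hp hr hpr hrp M⟩,
    fun u v => phiMat_preserves hq hp hr hpr hrp (hι _) (hι _) (KK_mul_fixed hκ (hι _))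
      (KK_mul_fixed (KK_inv hκ) (hι _)) (by
        have hd : M.val 0 0 * M.val 1 1 - M.val 0 1 * M.val 1 0 = 1 := by
          rw [← Matrix.det_fin_two]; exact M.2
        have := congrArg ι hd
        simp only [map_sub, map_mul, map_one] at this
        rw [← this]
        field_simp) u v⟩) (by
    intro M N
    apply Subtype.ext
    apply Subtype.ext
    simp only [Matrix.SpecialLinearGroup.coe_mul, Subgroup.coe_mul]
    exact phiM_mul ι κ hκ0 hp hr hpr hrp _ _)

variable (hq : FrobHyp F q) (ι : L →+* F) (hι : ∀ x, (ι x) ^ q = ι x) {κ : F}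
    (hκ : κ ∈ KK F q) (hκ0 : κ ≠ 0) {p r : Fin n → F} (hp : hermForm n F q p p = 0)
    (hr : hermForm n F q r r = 0) (hpr : hermForm n F q p r = 1) (hrp : hermForm n F q r p = 1)

theorem phi_act (M : Matrix.SpecialLinearGroup (Fin 2) L) (v : Fin n → F) :
    act (phi hq ι hι hκ hκ0 hp hr hpr hrp M) v = v
      + ((ι (M.val 0 0) - 1) * hermForm n F q v r + κ * ι (M.val 0 1) * hermForm n F q v p) • p
      + (κ⁻¹ * ι (M.val 1 0) * hermForm n F q v r + (ι (M.val 1 1) - 1) * hermForm n F q v p) • r :=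
  phiMat_mulVec p r _ _ _ _ v

theorem phi_uSL (t : L) :
    phi hq ι hι hκ hκ0 hp hr hpr hrp (Cfsg.Agent.Helper83.uSL t) = ut hq p (κ * ι t) := by
  apply su_ext
  intro v
  rw [phi_act, ut_act hq hp (KK_mul_fixed hκ (hι t))]
  simp

theorem phi_lSL (t : L) :
    phi hq ι hι hκ hκ0 hp hr hpr hrp (Cfsg.Agent.Helper83.lSL t) = ut hq r (κ⁻¹ * ι t) := by
  apply su_ext
  intro v
  rw [phi_act, ut_act hq hr (KK_mul_fixed (KK_inv hκ) (hι t))]
  simp

include hq hpr hrp in
theorem hyp_ne_zero_left : p ≠ 0 := by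
  apply ne_zero_left hq (r := r)
  rw [hpr]; exact one_ne_zero

include hq hpr hrp in
theorem hyp_ne_zero_right : r ≠ 0 := by
  apply ne_zero_right hq (p := p)
  rw [hpr]; exact one_ne_zero

theorem phi_map_upper (hsurj : ∀ y : F, y ^ q = y → ∃ x, ι x = y) :
    (upperUnipotentSL2 L).map (phi hq ι hι hκ hκ0 hp hr hpr hrp) = T q p := by
  have hp0 : p ≠ 0 := hyp_ne_zero_left hq hpr hrp
  ext g
  rw [Subgroup.mem_map, mem_T_iff hq hp0 hp]
  constructor
  · rintro ⟨M, hM, rfl⟩
    obtain ⟨t, rfl⟩ := Cfsg.Agent.Helper83.mem_upperUnipotentSL2.1 hM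
    exact ⟨κ * ι t, KK_mul_fixed hκ (hι t), phi_uSL hq ι hι hκ hκ0 hp hr hpr hrp t⟩
  · rintro ⟨a, ha, rfl⟩
    have hfix : (a * κ⁻¹) ^ q = a * κ⁻¹ := by
      rw [mul_pow, ha, KK_inv hκ]; ring
    obtain ⟨x, hx⟩ := hsurj _ hfix
    refine ⟨Cfsg.Agent.Helper83.uSL x, Cfsg.Agent.Helper83.mem_upperUnipotentSL2.2 ⟨_, rfl⟩, ?_⟩
    rw [phi_uSL, hx]
    congr 1
    field_simp

theorem phi_map_lower (hsurj : ∀ y : F, y ^ q = y → ∃ x, ι x = y) :
    (lowerUnipotentSL2 L).map (phi hq ι hι hκ hκ0 hp hr hpr hrp) = T q r := by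
  have hr0 : r ≠ 0 := hyp_ne_zero_right hq hpr hrp
  ext g
  rw [Subgroup.mem_map, mem_T_iff hq hr0 hr]
  constructor
  · rintro ⟨M, hM, rfl⟩
    obtain ⟨t, rfl⟩ := Cfsg.Agent.Helper83.mem_lowerUnipotentSL2.1 hM
    exact ⟨κ⁻¹ * ι t, KK_mul_fixed (KK_inv hκ) (hι t), phi_lSL hq ι hι hκ hκ0 hp hr hpr hrp t⟩
  · rintro ⟨a, ha, rfl⟩
    have hfix : (a * κ) ^ q = a * κ := by
      rw [mul_pow, ha, hκ]; ring
    obtain ⟨x, hx⟩ := hsurj _ hfix
    refine ⟨Cfsg.Agent.Helper83.lSL x, Cfsg.Agent.Helper83.mem_lowerUnipotentSL2.2 ⟨_, rfl⟩, ?_⟩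
    rw [phi_lSL, hx]
    congr 1
    field_simp

theorem phi_range (hsurj : ∀ y : F, y ^ q = y → ∃ x, ι x = y) :
    (phi hq ι hι hκ hκ0 hp hr hpr hrp).range = T q p ⊔ T q r := by
  rw [MonoidHom.range_eq_map, ← Cfsg.Agent.Helper83.sl2_generation, Subgroup.map_sup,
    phi_map_upper hq ι hι hκ hκ0 hp hr hpr hrp hsurj,
    phi_map_lower hq ι hι hκ hκ0 hp hr hpr hrp hsurj, sup_comm]

theorem phi_ker :
    (phi hq ι hι hκ hκ0 hp hr hpr hrp).ker ≤ Subgroup.center (Matrix.SpecialLinearGroup (Fin 2) L) := by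
  intro M hM
  rw [MonoidHom.mem_ker] at hM
  have h1 := congrArg (fun g : SU n F q => act g p) hM
  have h2 := congrArg (fun g : SU n F q => act g r) hM
  simp only [phi_act, act_one, hp, hr, hpr, hrp, mul_zero, mul_one, add_zero, zero_add] at h1 h2
  have h1a := congrArg (fun x => hermForm n F q x r) h1
  have h1b := congrArg (fun x => hermForm n F q x p) h1
  have h2a := congrArg (fun x => hermForm n F q x r) h2
  have h2b := congrArg (fun x => hermForm n F q x p) h2
  simp only [hermForm_add_left, hermForm_smul_left, hp, hr, hpr, hrp, mul_zero, mul_one,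
    add_zero, zero_add] at h1a h1b h2a h2b
  have hinj := RingHom.injective ι
  have e00 : M.val 0 0 = 1 := by
    apply hinj; rw [map_one]; linear_combination h1a
  have e10 : M.val 1 0 = 0 := by
    apply hinj; rw [map_zero]
    have : κ⁻¹ * ι (M.val 1 0) = 0 := by linear_combination h1b
    rcases mul_eq_zero.1 this with h | h
    · exact absurd h (inv_ne_zero hκ0)
    · exact h
  have e01 : M.val 0 1 = 0 := by
    apply hinj; rw [map_zero]
    have : κ * ι (M.val 0 1) = 0 := by linear_combination h2a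
    rcases mul_eq_zero.1 this with h | h
    · exact absurd h hκ0
    · exact h
  have e11 : M.val 1 1 = 1 := by
    apply hinj; rw [map_one]; linear_combination h2b
  have : M = 1 := by
    apply Cfsg.Agent.Helper83.sl2_ext <;> simp [e00, e01, e10, e11]
  rw [this]
  exact Subgroup.one_mem _

end hom2

theorem psl2Pair_of_nonorth {L : Type*} [Field L] (hq : FrobHyp F q) (ι : L →+* F)
    (hι : ∀ x, (ι x) ^ q = ι x) (hsurj : ∀ y : F, y ^ q = y → ∃ x, ι x = y) {κ : F}
    (hκ : κ ∈ KK F q) (hκ0 : κ ≠ 0) {p r : Fin n → F} (hp : hermForm n F q p p = 0)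
    (hr : hermForm n F q r r = 0) (hpr : hermForm n F q p r ≠ 0) :
    IsPSL2PairOver L (T q p) (T q r) := by
  obtain ⟨μ, hμ⟩ : ∃ μ : F, μ = ((hermForm n F q p r)⁻¹) ^ q := ⟨_, rfl⟩
  have hμq : μ ^ q = (hermForm n F q p r)⁻¹ := by rw [hμ, hq.invol]
  have hμ0 : μ ≠ 0 := by
    rw [hμ]; exact pow_ne_zero _ (inv_ne_zero hpr)
  have h1 : hermForm n F q p (μ • r) = 1 := by
    rw [hermForm_smul_right, hμq, inv_mul_cancel₀ hpr]
  have h2 : hermForm n F q (μ • r) p = 1 := by
    rw [← hf_conj hq, h1, one_pow]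
  have hr' : hermForm n F q (μ • r) (μ • r) = 0 := by
    rw [hermForm_smul_left, hermForm_smul_right, hr, mul_zero, mul_zero]
  have hT : T q (μ • r) = T q r := T_smul hq hμ0 r
  refine ⟨phi hq ι hι hκ hκ0 hp hr' h1 h2, ?_, phi_ker hq ι hι hκ hκ0 hp hr' h1 h2,
    phi_map_upper hq ι hι hκ hκ0 hp hr' h1 h2 hsurj, ?_⟩
  · rw [phi_range hq ι hι hκ hκ0 hp hr' h1 h2 hsurj, hT]
  · rw [phi_map_lower hq ι hι hκ hκ0 hp hr' h1 h2 hsurj, hT]

/-! ### finite fields -/

section finite

variable [Fintype F]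

theorem exists_kappa (hF : Fintype.card F = q ^ 2) : ∃ κ : F, κ ∈ KK F q ∧ κ ≠ 0 := by
  have hq := frobHyp_of_card hF
  obtain ⟨x, hx⟩ := Cfsg.Agent.Helper5.exists_not_fixed hF
  refine ⟨x - x ^ q, ?_, sub_ne_zero.2 (Ne.symm hx)⟩
  change (x - x ^ q) ^ q = -(x - x ^ q)
  rw [hq.sub, hq.invol]; ring

theorem exists_partner (hF : Fintype.card F = q ^ 2) {p : Fin n → F} (hp0 : p ≠ 0)
    (hp : hermForm n F q p p = 0) :
    ∃ s : Fin n → F, hermForm n F q s s = 0 ∧ hermForm n F q s p = 1 ∧ hermForm n F q p s = 1 := by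
  have hq := frobHyp_of_card hF
  obtain ⟨v₀, hv₀⟩ := hf_nondeg (q := q) hq hp0
  obtain ⟨w, hw⟩ : ∃ w : Fin n → F, w = (hermForm n F q v₀ p)⁻¹ • v₀ := ⟨_, rfl⟩
  have hwp : hermForm n F q w p = 1 := by
    rw [hw, hermForm_smul_left, inv_mul_cancel₀ hv₀]
  have hpw : hermForm n F q p w = 1 := by
    rw [← hf_conj hq, hwp, one_pow]
  have hfix : (-hermForm n F q w w) ^ q = -hermForm n F q w w := by
    rw [hq.neg, hf_conj hq]
  obtain ⟨l, hl⟩ := Cfsg.Agent.Helper44.exists_trace_eq' hF _ hfix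
  refine ⟨w + l • p, ?_, ?_, ?_⟩
  · rw [hermForm_add_left, hermForm_smul_left, hf_add_right hq, hf_add_right hq,
      hermForm_smul_right, hermForm_smul_right, hp, hwp, hpw]
    linear_combination hl
  · rw [hermForm_add_left, hermForm_smul_left, hp, hwp]; ring
  · rw [hf_add_right hq, hermForm_smul_right, hp, hpw]; ring

theorem exists_common (hF : Fintype.card F = q ^ 2) {p r : Fin n → F} (hp0 : p ≠ 0)
    (hp : hermForm n F q p p = 0) (hr0 : r ≠ 0) (hr : hermForm n F q r r = 0) :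
    ∃ s : Fin n → F, hermForm n F q s s = 0 ∧ hermForm n F q p s ≠ 0 ∧
      hermForm n F q s r ≠ 0 := by
  have hq := frobHyp_of_card hF
  obtain ⟨s₁, h11, h1p, hp1⟩ := exists_partner hF hp0 hp
  obtain ⟨s₂, h22, h2r, hr2⟩ := exists_partner hF hr0 hr
  by_cases hc1 : hermForm n F q s₁ r = 0
  · by_cases hc2 : hermForm n F q p s₂ = 0
    · obtain ⟨κ, hκ, hκ0⟩ := exists_kappa hF
      have key : ∃ μ : F, μ ≠ 0 ∧ μ * hermForm n F q s₂ s₁ + μ ^ q * hermForm n F q s₁ s₂ = 0 := by
        by_cases hω : hermForm n F q s₂ s₁ = 0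
        · refine ⟨1, one_ne_zero, ?_⟩
          rw [hω, hf_eq_zero_symm hq hω]; ring
        · refine ⟨κ * (hermForm n F q s₂ s₁)⁻¹, mul_ne_zero hκ0 (inv_ne_zero hω), ?_⟩
          have hκq : κ ^ q = -κ := hκ
          rw [mul_pow, inv_pow, hf_conj hq, hκq]
          have hω' : hermForm n F q s₁ s₂ ≠ 0 := hf_ne_zero_symm hq hω
          field_simp
          ring
      obtain ⟨μ, hμ0, hμ⟩ := key
      refine ⟨s₁ + μ • s₂, ?_, ?_, ?_⟩
      · rw [hermForm_add_left, hermForm_smul_left, hf_add_right hq, hf_add_right hq,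
          hermForm_smul_right, hermForm_smul_right, h11, h22]
        linear_combination hμ
      · rw [hf_add_right hq, hermForm_smul_right, hc2, hp1]; simp
      · rw [hermForm_add_left, hermForm_smul_left, hc1, h2r]; simpa using hμ0
    · exact ⟨s₂, h22, hc2, by rw [h2r]; exact one_ne_zero⟩
  · exact ⟨s₁, h11, by rw [hp1]; exact one_ne_zero, hc1⟩

theorem exists_small_field (hF : Fintype.card F = q ^ 2) :
    ∃ (L : Type) (_ : Field L) (_ : Fintype L), Fintype.card L = q ∧
      ∃ ι : L →+* F, (∀ x, (ι x) ^ q = ι x) ∧ ∀ y : F, y ^ q = y → ∃ x, ι x = y := by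
  classical
  obtain ⟨p, hp, hc, j, hj⟩ := Cfsg.Agent.Helper19.herm_q_eq_pow hF
  have hq2 := Cfsg.Agent.Helper19.herm_two_le hF
  have hj0 : j ≠ 0 := by
    rintro rfl
    rw [pow_zero] at hj
    omega
  letI : Fintype (GaloisField p j) := Fintype.ofFinite (GaloisField p j)
  have hK : Fintype.card (GaloisField p j) = q := by
    rw [← Nat.card_eq_fintype_card, GaloisField.card p j hj0, hj]
  refine ⟨GaloisField p j, inferInstance, this, hK, ?_⟩
  obtain ⟨ι⟩ := Cfsg.Agent.Helper5.exists_ringHom_of_card_sq hK hF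
  have hι : ∀ x, (ι x) ^ q = ι x := by
    intro x
    rw [← map_pow, ← hK, FiniteField.pow_card]
  refine ⟨ι, hι, ?_⟩
  have hsub : Finset.univ.image ι ⊆ Finset.univ.filter (fun y : F => y ^ q = y) := by
    intro y hy
    obtain ⟨x, -, rfl⟩ := Finset.mem_image.1 hy
    exact Finset.mem_filter.2 ⟨Finset.mem_univ _, hι x⟩
  have hcard1 : (Finset.univ.image ι).card = q := by
    rw [Finset.card_image_of_injective _ (RingHom.injective ι), Finset.card_univ, hK]
  have hsub2 : Finset.univ.filter (fun y : F => y ^ q = y) ⊆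
      insert 0 (Cfsg.Agent.Helper19.hermFixed F q) := by
    intro y hy
    by_cases hy0 : y = 0
    · rw [hy0]; exact Finset.mem_insert_self _ _
    · exact Finset.mem_insert_of_mem
        (Cfsg.Agent.Helper19.mem_hermFixed.2 ⟨hy0, (Finset.mem_filter.1 hy).2⟩)
  have hcard2 : (Finset.univ.filter (fun y : F => y ^ q = y)).card ≤ q := by
    refine (Finset.card_le_card hsub2).trans ((Finset.card_insert_le _ _).trans ?_)
    have := Cfsg.Agent.Helper19.card_hermFixed_le hF
    omega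
  have heq := Finset.eq_of_subset_of_card_le hsub (by rw [hcard1]; exact hcard2)
  intro y hy
  have : y ∈ Finset.univ.image ι := by
    rw [heq]; exact Finset.mem_filter.2 ⟨Finset.mem_univ _, hy⟩
  obtain ⟨x, -, hx⟩ := Finset.mem_image.1 this
  exact ⟨x, hx⟩

end finite

/-! ### assembly -/

/-- the set of all unitary transvection subgroups -/
def rootSet (F : Type*) [Field F] (q n : ℕ) : Set (Subgroup (SU n F q)) :=
  {A | ∃ p : Fin n → F, p ≠ 0 ∧ hermForm n F q p p = 0 ∧ A = T q p}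

theorem T_mem_rootSet {p : Fin n → F} (hp0 : p ≠ 0) (hp : hermForm n F q p p = 0) :
    T q p ∈ rootSet F q n := ⟨p, hp0, hp, rfl⟩

theorem exists_conj_of_rankOneCond {G : Type*} [Group G] {A B : Subgroup G}
    (h : RankOneCondition A B) {a : G} (ha : a ∈ A) (ha1 : a ≠ 1) :
    ∃ g ∈ A ⊔ B, B = conjBy A g := by
  obtain ⟨b, hb, -, hbe⟩ := h a ha ha1
  refine ⟨a * b⁻¹, Subgroup.mul_mem _ (Subgroup.mem_sup_left ha)
    (Subgroup.inv_mem _ (Subgroup.mem_sup_right hb)), ?_⟩
  have := congrArg (fun X => conjBy X a) hbe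
  simp only [Cfsg.Agent.Helper83.conjBy_conjBy, mul_inv_cancel,
    Cfsg.Agent.Helper83.conjBy_one] at this
  exact this.symm

section main

variable [Fintype F]

theorem exists_isotropic (hF : Fintype.card F = q ^ 2) (n : ℕ) :
    ∃ p : Fin (n + 2) → F, p ≠ 0 ∧ hermForm (n + 2) F q p p = 0 := by
  obtain ⟨ζ, hζ⟩ := Cfsg.Agent.Helper44.exists_zeta' hF
  refine ⟨fun i => if i = 0 then 1 else if i = 1 then ζ else 0, ?_, ?_⟩
  · intro h
    have := congrFun h 0
    simp at this
  · unfold hermForm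
    rw [Fin.sum_univ_succ, Fin.sum_univ_succ]
    have h01 : (Fin.succ (0 : Fin (n + 1))) = 1 := rfl
    have h10 : (1 : Fin (n + 2)) ≠ 0 := by
      intro h; have := congrArg Fin.val h; simp at this
    rw [Finset.sum_eq_zero]
    · simp only [if_true, h01, h10, if_false, one_pow, mul_one, add_zero]
      rw [← pow_succ', hζ]; ring
    · intro i _
      have h1 : (i.succ.succ : Fin (n + 2)) ≠ 0 := Fin.succ_ne_zero _
      have h2 : (i.succ.succ : Fin (n + 2)) ≠ 1 := by
        intro h; have := congrArg Fin.val h; simp at this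
      simp [h1, h2, (frobHyp_of_card hF).qpos.ne']

theorem main (hF : Fintype.card F = q ^ 2) (n : ℕ) :
    IsRootSubgroupClass (RootSub.subFam (⨆ B ∈ rootSet F q (n + 2), B) (rootSet F q (n + 2))) ∧
    IsDegenerateRootSet (RootSub.subFam (⨆ B ∈ rootSet F q (n + 2), B) (rootSet F q (n + 2))) ∧
    (∃ (L : Type) (_ : Field L) (_ : Fintype L), Fintype.card L = q ∧
      IsKRootSubgroupSet L
        (RootSub.subFam (⨆ B ∈ rootSet F q (n + 2), B) (rootSet F q (n + 2)))) ∧
    IsConnectedFamily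
      (FAdj (RootSub.subFam (⨆ B ∈ rootSet F q (n + 2), B) (rootSet F q (n + 2))))
      (RootSub.subFam (⨆ B ∈ rootSet F q (n + 2), B) (rootSet F q (n + 2))) := by
  have hq := frobHyp_of_card hF
  obtain ⟨κ, hκ, hκ0⟩ := exists_kappa hF
  obtain ⟨K, hK⟩ : ∃ K : Subgroup (SU (n + 2) F q), K = ⨆ B ∈ rootSet F q (n + 2), B := ⟨_, rfl⟩
  rw [← hK]
  have hS : ∀ A ∈ rootSet F q (n + 2), A ≤ K := fun A hA => hK ▸ RootSub.le_gen hA
  have hpairs : ∀ A ∈ rootSet F q (n + 2), ∀ B ∈ rootSet F q (n + 2),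
      ⁅A, B⁆ = ⊥ ∨ IsRankOnePair A B := by
    rintro A ⟨p, hp0, hp, rfl⟩ B ⟨r, hr0, hr, rfl⟩
    by_cases h : hermForm (n + 2) F q p r = 0
    · exact Or.inl (T_commutator_eq_bot hq hp0 hr0 hp hr h)
    · exact Or.inr (rankOnePair_of_nonorth hq hκ hκ0 hp hr h)
  have hroot : IsRootSubgroupSet (RootSub.subFam K (rootSet F q (n + 2))) := by
    apply RootSub.isRootSubgroupSet_sub hK
    · rintro A ⟨p, hp0, hp, rfl⟩
      exact T_commutative hq hp0 hp
    · rintro A ⟨p, hp0, hp, rfl⟩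
      exact T_ne_bot hq hκ hκ0 hp0 hp
    · rintro A ⟨p, hp0, hp, rfl⟩ g _
      rw [conjBy_T hq g hp0 hp]
      exact T_mem_rootSet (act_ne_zero g hp0) (isotropic_act g hp)
    · intro A hA B hB
      rcases hpairs A hA B hB with h | h
      · exact Or.inl h
      · exact Or.inr (Or.inl h)
  have hconn : IsConnectedFamily (FAdj (rootSet F q (n + 2))) (rootSet F q (n + 2)) := by
    rintro A ⟨p, hp0, hp, rfl⟩ B ⟨r, hr0, hr, rfl⟩
    obtain ⟨s, hs, hps, hsr⟩ := exists_common hF hp0 hp hr0 hr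
    have hs0 : s ≠ 0 := ne_zero_right hq hps
    exact Relation.ReflTransGen.tail
      (Relation.ReflTransGen.single
        ⟨T_mem_rootSet hp0 hp, T_mem_rootSet hs0 hs, rankOnePair_of_nonorth hq hκ hκ0 hp hs hps⟩)
      ⟨T_mem_rootSet hs0 hs, T_mem_rootSet hr0 hr, rankOnePair_of_nonorth hq hκ hκ0 hs hr hsr⟩
  refine ⟨⟨hroot, ?_⟩, ?_, ?_, RootSub.connected_sub hS hconn⟩
  · -- one conjugacy class
    apply RootSub.isConjClass_sub hS
    · obtain ⟨p, hp0, hp⟩ := exists_isotropic hF n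
      exact ⟨T q p, T_mem_rootSet hp0 hp⟩
    · rintro A ⟨p, hp0, hp, rfl⟩ B ⟨r, hr0, hr, rfl⟩
      obtain ⟨s, hs, hps, hsr⟩ := exists_common hF hp0 hp hr0 hr
      have hs0 : s ≠ 0 := ne_zero_right hq hps
      have hκ1 : ∀ {v : Fin (n + 2) → F}, v ≠ 0 → hermForm (n + 2) F q v v = 0 →
          ut hq v κ ≠ 1 := by
        intro v hv0 hv h
        exact hκ0 ((ut_eq_one_iff hq hv0 hv hκ).1 h)
      obtain ⟨g₁, hg₁, he₁⟩ := exists_conj_of_rankOneCond (rankOneCond hq hp hs hps)
        (ut_mem_T hq hp hκ) (hκ1 hp0 hp)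
      obtain ⟨g₂, hg₂, he₂⟩ := exists_conj_of_rankOneCond (rankOneCond hq hs hr hsr)
        (ut_mem_T hq hs hκ) (hκ1 hs0 hs)
      have hTp := hS _ (T_mem_rootSet hp0 hp)
      have hTs := hS _ (T_mem_rootSet hs0 hs)
      have hTr := hS _ (T_mem_rootSet hr0 hr)
      refine ⟨g₂ * g₁, K.mul_mem (sup_le hTs hTr hg₂) (sup_le hTp hTs hg₁), ?_⟩
      rw [← Cfsg.Agent.Helper83.conjBy_conjBy, ← he₁, ← he₂]
  · -- degenerate
    rintro _ ⟨A, hA, rfl⟩ _ ⟨B, hB, rfl⟩ hcase
    obtain ⟨hmem, hcentral⟩ := RootSub.commCase_of_sub hS (hS A hA) (hS B hB) hcase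
    obtain ⟨p, hp0, hp, rfl⟩ := hA
    obtain ⟨r, hr0, hr, rfl⟩ := hB
    by_cases h : hermForm (n + 2) F q p r = 0
    · rw [T_commutator_eq_bot hq hp0 hr0 hp hr h] at hmem
      obtain ⟨s, hs0, hs, hbot⟩ := hmem
      exact T_ne_bot hq hκ hκ0 hs0 hs hbot.symm
    · exact not_central_of_nonorth hq hκ hκ0 hp hr h hcentral
  · -- `L`-root subgroups
    obtain ⟨L, iL, fL, hcard, ι, hι, hsurj⟩ := exists_small_field hF
    refine ⟨L, iL, fL, hcard, hroot, ?_⟩
    rintro _ ⟨A, hA, rfl⟩ _ ⟨B, hB, rfl⟩ hrk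
    have hne := RootSub.not_commute_of_rankOne_sub (hS A hA) (hS B hB) hrk
    obtain ⟨p, hp0, hp, rfl⟩ := hA
    obtain ⟨r, hr0, hr, rfl⟩ := hB
    have hpr : hermForm (n + 2) F q p r ≠ 0 := fun h =>
      hne (T_commutator_eq_bot hq hp0 hr0 hp hr h)
    exact RootSub.psl2_sub (hS _ (T_mem_rootSet hp0 hp)) (hS _ (T_mem_rootSet hr0 hr))
      (psl2Pair_of_nonorth hq ι hι hsurj hκ hκ0 hp hr hpr)

end main

end Cfsg.Agent.Helper94.SURoot
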