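import Mathlib

/-!
helper94: abstract core of piece (COREB) `core_false` of helper89's lemma server "TH1" (row S3797).

`M`, `W` finite elementary abelian 2-groups (additive), `sq : M → W` an anisotropic quadratic map with
polar form `b`, `|M| = |W|^2`; `K`, `E`, `Q` groups of automorphisms of `M` preserving `sq`.
-/

set_option autoImplicit false

namespace Cfsg.Agent.Helper94.TH1

open scoped commutatorElement

section Abs

variable {M W : Type*} [AddCommGroup M] [AddCommGroup W]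

/-- `sq : M → W` is an anisotropic quadratic map with polar form `b` between groups of exponent 2. -/
structure QData (sq : M → W) (b : M → M → W) : Prop where
  M2 : ∀ x : M, x + x = 0
  W2 : ∀ w : W, w + w = 0
  sq_add : ∀ x y, sq (x + y) = sq x + sq y + b x y
  b_add : ∀ x y z, b (x + y) z = b x z + b y z
  aniso : ∀ x, sq x = 0 → x = 0

namespace QData

variable {sq : M → W} {b : M → M → W} (D : QData sq b)
include D

theorem eq_of_add_eq_zero {x y : M} (h : x + y = 0) : x = y := by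
  linear_combination (norm := abel) h - D.M2 y

theorem add_eq_zero_of_eq {x y : M} (h : x = y) : x + y = 0 := by
  rw [h]; exact D.M2 y

theorem b_symm (x y : M) : b x y = b y x := by
  have h1 := D.sq_add x y
  have h2 := D.sq_add y x
  rw [add_comm y x] at h2
  linear_combination (norm := abel) h2 - h1

theorem b_add_right (x y z : M) : b x (y + z) = b x y + b x z := by
  rw [D.b_symm x (y + z), D.b_add, D.b_symm y x, D.b_symm z x]

theorem b_zero_left (y : M) : b 0 y = 0 := by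
  have := D.b_add 0 0 y
  rw [add_zero] at this
  linear_combination (norm := abel) -this

theorem b_zero_right (y : M) : b y 0 = 0 := by
  rw [D.b_symm]; exact D.b_zero_left y

theorem sq_zero : sq 0 = 0 := by
  have := D.sq_add 0 0
  rw [add_zero, D.b_zero_left] at this
  linear_combination (norm := abel) -this

theorem b_self (x : M) : b x x = 0 := by
  have := D.sq_add x x
  rw [D.M2 x, D.sq_zero] at this
  linear_combination (norm := abel) -this - D.W2 (sq x)

theorem b_eq (x y : M) : b x y = sq (x + y) + sq x + sq y := by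
  have := D.sq_add x y
  linear_combination (norm := abel) -this - D.W2 (sq x) - D.W2 (sq y)

theorem b_inv (g : M → M) (hadd : ∀ x y, g (x + y) = g x + g y) (hg : ∀ x, sq (g x) = sq x)
    (x y : M) : b (g x) (g y) = b x y := by
  rw [D.b_eq, D.b_eq x y, ← hadd, hg, hg, hg]

theorem eq_of_sq_eq_of_b {x y : M} (h : sq x = sq y) (hb : b x y = 0) : x = y := by
  apply D.eq_of_add_eq_zero
  apply D.aniso
  rw [D.sq_add, h, hb, add_zero]; exact D.W2 _

end QData

/-- a faithful additive action of a group `Γ` on `M`, given as a plain function. -/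
structure RData {Γ : Type*} [Group Γ] (ρ : Γ → M → M) : Prop where
  one : ∀ x, ρ 1 x = x
  mul : ∀ g h x, ρ (g * h) x = ρ g (ρ h x)
  add : ∀ g x y, ρ g (x + y) = ρ g x + ρ g y
  faithful : ∀ g, (∀ x, ρ g x = x) → g = 1

/-- the automorphism data -/
structure AData {Γ : Type*} [Group Γ] (sq : M → W) (ρ : Γ → M → M) (K E Q : Subgroup Γ) : Prop where
  Ksq : ∀ k ∈ K, ∀ x, sq (ρ k x) = sq x
  Esq : ∀ e ∈ E, ∀ x, sq (ρ e x) = sq x
  Kodd : Odd (Nat.card K)
  EK : ∀ e ∈ E, ∀ k ∈ K, e * k * e⁻¹ ∈ K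
  Kcomm : K ≤ ⁅K, E⁆
  fpf : ∀ x : M, (∀ k ∈ K, ρ k x = x) → x = 0
  E2 : IsPGroup 2 E
  QE : Q ≤ E
  QK : ∀ q ∈ Q, ∀ k ∈ K, q * k = k * q
  EsqQ : ∀ e ∈ E, e ^ 2 ∈ Q
  EcommQ : ∀ a ∈ E, ∀ c ∈ E, ⁅a, c⁆ ∈ Q

section Triv

variable {Γ : Type*} [Group Γ] {sq : M → W} {b : M → M → W} {ρ : Γ → M → M} {K E Q : Subgroup Γ}

theorem RData.inv_apply (R : RData ρ) (g : Γ) (x : M) : ρ g⁻¹ (ρ g x) = x := by
  rw [← R.mul, inv_mul_cancel, R.one]

theorem RData.apply_inv (R : RData ρ) (g : Γ) (x : M) : ρ g (ρ g⁻¹ x) = x := by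
  rw [← R.mul, mul_inv_cancel, R.one]

theorem RData.zero (R : RData ρ) (g : Γ) : ρ g 0 = 0 := by
  have := R.add g 0 0
  rw [add_zero] at this
  linear_combination (norm := abel) -this

/-- (TRIV) an involutory isometry commuting with `K` is trivial. -/
theorem triv_abs (D : QData sq b) (R : RData ρ) (A : AData sq ρ K E Q) (e : Γ)
    (hesq : ∀ x, sq (ρ e x) = sq x) (he2 : e * e = 1)
    (hc : ∀ k ∈ K, e * k = k * e) : e = 1 := by
  have he2' : ∀ x, ρ e (ρ e x) = x := fun x => by rw [← R.mul, he2, R.one]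
  -- b vanishes on the image of `1 + e`
  have hU : ∀ x y : M, b (x + ρ e x) (y + ρ e y) = 0 := by
    intro x y
    have h1 : b (ρ e x) (ρ e y) = b x y := D.b_inv (ρ e) (R.add e) hesq x y
    have h2 : b (ρ e x) y = b x (ρ e y) := by
      have := D.b_inv (ρ e) (R.add e) hesq (ρ e x) y
      rw [he2'] at this
      exact this.symm
    rw [D.b_add, D.b_add_right, D.b_add_right, h1, h2]
    linear_combination (norm := abel) D.W2 (b x y) + D.W2 (b x (ρ e y))
  apply R.faithful
  intro x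
  have hu : x + ρ e x = 0 := by
    apply A.fpf
    intro k hk
    have hku : ρ k (x + ρ e x) = ρ k x + ρ e (ρ k x) := by
      rw [R.add, ← R.mul k e, ← hc k hk, R.mul]
    apply D.eq_of_sq_eq_of_b (A.Ksq k hk _)
    rw [hku]
    exact hU (ρ k x) x
  exact (D.eq_of_add_eq_zero hu).symm

end Triv

section IndexTwo

/-- in a finite group of exponent 2 every proper subgroup lies in a subgroup of index 2. -/
theorem exists_index_two {W : Type*} [AddCommGroup W] [Finite W] (hW2 : ∀ w : W, w + w = 0)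
    (R : AddSubgroup W) (hR : R ≠ ⊤) : ∃ W₀ : AddSubgroup W, R ≤ W₀ ∧ W₀.index = 2 := by
  obtain ⟨S, hRS, hmax⟩ := Finite.exists_le_maximal (p := fun S : AddSubgroup W => S ≠ ⊤) hR
  refine ⟨S, hRS, ?_⟩
  have hS : S ≠ ⊤ := hmax.prop
  obtain ⟨w, hw⟩ : ∃ w, w ∉ S := by
    by_contra h
    push Not at h
    exact hS (eq_top_iff.mpr fun x _ => h x)
  have hzm : ∀ (x : W) (n : ℤ), n • x = 0 ∨ n • x = x := by
    intro x n
    rcases Int.even_or_odd n with ⟨m, rfl⟩ | ⟨m, rfl⟩
    · left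
      rw [add_smul, ← smul_add, hW2, smul_zero]
    · right
      rw [add_smul, one_smul, two_mul, add_smul, ← smul_add, hW2, smul_zero, zero_add]
  rw [AddSubgroup.index_eq_two_iff]
  refine ⟨w, fun x => ?_⟩
  by_cases hx : x ∈ S
  · refine Or.inr ⟨hx, fun h => hw ?_⟩
    have := S.sub_mem h hx
    simpa using this
  · refine Or.inl ⟨?_, hx⟩
    have hT : S ⊔ AddSubgroup.zmultiples x = ⊤ := by
      by_contra hT
      have hle : S ⊔ AddSubgroup.zmultiples x ≤ S := hmax.le_of_ge hT le_sup_left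
      exact hx (hle (AddSubgroup.mem_sup_right (AddSubgroup.mem_zmultiples x)))
    have hwT : w ∈ S ⊔ AddSubgroup.zmultiples x := by rw [hT]; trivial
    obtain ⟨s, hs, z, hz, hsz⟩ := AddSubgroup.mem_sup.mp hwT
    obtain ⟨n, rfl⟩ := AddSubgroup.mem_zmultiples_iff.mp hz
    rcases hzm x n with h0 | h1
    · exfalso
      rw [h0, add_zero] at hsz
      exact hw (hsz ▸ hs)
    · rw [h1] at hsz
      have : x + w = s := by
        rw [← hsz]
        linear_combination (norm := abel) hW2 x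
      rw [this]; exact hs

end IndexTwo

section Star

variable [Finite M] [Finite W] {sq : M → W} {b : M → M → W}

/-- (STAR) for a nontrivial involutory isometry `f`: `C_M(f)` is totally singular for `b`, and some
nonzero `v ∈ C_M(f)` has `v^⊥ = C_M(f)`. -/
theorem star_abs (D : QData sq b) (hcard : Nat.card M = Nat.card W ^ 2)
    (hnd : ∀ W₀ : AddSubgroup W, W₀.index = 2 → ∀ y : M, (∀ x, b x y ∈ W₀) → y = 0)
    (f : M → M) (hfadd : ∀ x y, f (x + y) = f x + f y) (hfsq : ∀ x, sq (f x) = sq x)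
    (hf2 : ∀ x, f (f x) = x) (hne : ∃ x, f x ≠ x) :
    (∀ a a', f a = a → f a' = a' → b a a' = 0) ∧
      ∃ v, f v = v ∧ v ≠ 0 ∧ ∀ x, b v x = 0 → f x = x := by
  classical
  -- the endomorphism `1 + f`
  let F : M →+ M := AddMonoidHom.mk' (fun x => x + f x) (by
    intro x y; rw [hfadd]; abel)
  have hF : ∀ x, F x = x + f x := fun x => rfl
  have memA : ∀ x, x ∈ F.ker ↔ f x = x := by
    intro x
    rw [AddMonoidHom.mem_ker, hF]
    constructor
    · intro h; exact (D.eq_of_add_eq_zero h).symm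
    · intro h; rw [h]; exact D.M2 x
  have hUA : F.range ≤ F.ker := by
    rintro _ ⟨x, rfl⟩
    rw [memA, hF, hfadd, hf2, add_comm]
  -- b (range, ker) = 0
  have hbUA : ∀ x a, f a = a → b (x + f x) a = 0 := by
    intro x a ha
    have h1 : b (f x) a = b x a := by
      have := D.b_inv f hfadd hfsq x a
      rw [ha] at this
      exact this
    rw [D.b_add, h1]; exact D.W2 _
  obtain ⟨x₀, hx₀⟩ := hne
  set v : M := x₀ + f x₀ with hv
  have hv0 : v ≠ 0 := by
    intro h
    exact hx₀ (D.eq_of_add_eq_zero h).symm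
  have hfv : f v = v := by
    rw [hv, hfadd, hf2, add_comm]
  -- the functional b v
  let φ : M →+ W := AddMonoidHom.mk' (fun x => b v x) (D.b_add_right v)
  have hφ : ∀ x, φ x = b v x := fun x => rfl
  have hsurj : φ.range = ⊤ := by
    by_contra hR
    obtain ⟨W₀, hle, hidx⟩ := exists_index_two D.W2 φ.range hR
    apply hv0
    apply hnd W₀ hidx v
    intro x
    rw [D.b_symm]
    exact hle ⟨x, rfl⟩
  have hAker : F.ker ≤ φ.ker := by
    intro a ha
    rw [AddMonoidHom.mem_ker, hφ, hv]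
    exact hbUA x₀ a ((memA a).mp ha)
  -- cardinalities
  have hWpos : 0 < Nat.card W := Nat.card_pos
  have c1 : Nat.card F.ker * Nat.card F.range = Nat.card M := by
    rw [← AddSubgroup.index_ker]; exact AddSubgroup.card_mul_index _
  have c2 : Nat.card φ.ker * Nat.card W = Nat.card M := by
    have h1 : Nat.card φ.range = Nat.card W := by rw [hsurj]; exact AddSubgroup.card_top
    rw [← h1, ← AddSubgroup.index_ker]; exact AddSubgroup.card_mul_index _
  have c3 : Nat.card F.range ≤ Nat.card F.ker := AddSubgroup.card_le_of_le hUA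
  have c4 : Nat.card F.ker ≤ Nat.card φ.ker := AddSubgroup.card_le_of_le hAker
  have c5 : Nat.card φ.ker = Nat.card W := by
    rw [hcard, pow_two] at c2
    exact Nat.eq_of_mul_eq_mul_right hWpos c2
  rw [c5] at c4
  rw [hcard, pow_two] at c1
  have c6 : Nat.card F.ker = Nat.card W := by nlinarith
  have c7 : Nat.card F.range = Nat.card W := by
    rw [c6] at c1
    exact Nat.eq_of_mul_eq_mul_left hWpos c1
  have hAeq : F.ker = φ.ker := AddSubgroup.eq_of_le_of_card_ge hAker (by rw [c5, c6])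
  have hUeq : F.range = F.ker := AddSubgroup.eq_of_le_of_card_ge hUA (by rw [c6, c7])
  refine ⟨?_, v, hfv, hv0, ?_⟩
  · intro a a' ha ha'
    have : a ∈ F.range := by rw [hUeq]; exact (memA a).mpr ha
    obtain ⟨x, rfl⟩ := this
    exact hbUA x a' ha'
  · intro x hx
    have : x ∈ F.ker := by rw [hAeq]; exact hx
    exact (memA x).mp this

end Star

section Main

variable [Finite M] [Finite W] {Γ : Type*} [Group Γ] {sq : M → W} {b : M → M → W}
  {ρ : Γ → M → M} {K E Q : Subgroup Γ}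

/-- an element of odd order with trivial square is trivial. -/
theorem eq_one_of_sq_of_odd {H : Type*} [Group H] (k : H) (hodd : Odd (orderOf k)) (h2 : k * k = 1) :
    k = 1 := by
  have h1 : orderOf k ∣ 2 := orderOf_dvd_of_pow_eq_one (by rw [pow_two]; exact h2)
  have h3 : orderOf k = 1 := by
    rcases (Nat.dvd_prime Nat.prime_two).mp h1 with h | h
    · exact h
    · exfalso; rw [h] at hodd; exact (by decide : ¬ Odd 2) hodd
  exact orderOf_eq_one_iff.mp h3

theorem odd_orderOf_of_mem {H : Type*} [Group H] (A : Subgroup H) (hA : Odd (Nat.card A))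
    (φ : H) (hφ : φ ∈ A) : Odd (orderOf φ) := by
  have hne : Nat.card A ≠ 0 := by
    rcases hA with ⟨k, hk⟩; omega
  haveI : Finite A := Nat.finite_of_card_ne_zero hne
  have h1 : orderOf (⟨φ, hφ⟩ : A) ∣ Nat.card A := orderOf_dvd_natCard _
  have h2 : orderOf (⟨φ, hφ⟩ : A) = orderOf φ := by
    rw [← Subgroup.orderOf_coe]
  rw [h2] at h1
  exact Odd.of_dvd_nat hA h1

/-- Step 2: `Q` acts trivially. -/
theorem Q_eq_bot (D : QData sq b) (R : RData ρ) (A : AData sq ρ K E Q) : Q = ⊥ := by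
  classical
  rw [eq_bot_iff]
  intro q hq
  rw [Subgroup.mem_bot]
  by_contra hq1
  have hqE : q ∈ E := A.QE hq
  have hex : ∃ m : ℕ, q ^ 2 ^ m = 1 := by
    obtain ⟨m, hm⟩ := A.E2 ⟨q, hqE⟩
    refine ⟨m, ?_⟩
    have := congrArg Subtype.val hm
    simpa using this
  have hm := Nat.find_spec hex
  have hm0 : Nat.find hex ≠ 0 := by
    intro h0
    rw [h0, pow_zero, pow_one] at hm
    exact hq1 hm
  obtain ⟨n, hn⟩ := Nat.exists_eq_succ_of_ne_zero hm0
  have hmin : ¬ q ^ 2 ^ n = 1 := Nat.find_min hex (by rw [hn]; exact Nat.lt_succ_self n)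
  apply hmin
  have hq'Q : q ^ 2 ^ n ∈ Q := Q.pow_mem hq _
  apply triv_abs D R A (q ^ 2 ^ n) (A.Esq _ (A.QE hq'Q))
  · rw [← pow_two, ← pow_mul, ← pow_succ, ← Nat.succ_eq_add_one, ← hn]; exact hm
  · intro k hk; exact A.QK _ hq'Q k hk

theorem K_ne_bot (R : RData ρ) (hcard : Nat.card M = Nat.card W ^ 2) (hW4 : 4 ≤ Nat.card W)
    (A : AData sq ρ K E Q) : K ≠ ⊥ := by
  intro hK
  have hall : ∀ x : M, x = 0 := fun x => A.fpf x (fun k hk => by
    rw [hK, Subgroup.mem_bot] at hk; rw [hk, R.one])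
  haveI : Subsingleton M := ⟨fun x y => by rw [hall x, hall y]⟩
  have h1 : Nat.card M = 1 := Nat.card_of_subsingleton (0 : M)
  rw [h1] at hcard
  nlinarith

/-- Step 3: `E` has at least 4 elements. -/
theorem four_le_card_E (R : RData ρ) (hcard : Nat.card M = Nat.card W ^ 2) (hW4 : 4 ≤ Nat.card W)
    (A : AData sq ρ K E Q) [Finite E] (hcnt : (Nat.card W - 1) ∣ (Nat.card E - 1)) :
    4 ≤ Nat.card E := by
  have hE : E ≠ ⊥ := by
    intro hE
    apply K_ne_bot R hcard hW4 A
    have := A.Kcomm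
    rw [hE, Subgroup.commutator_bot_right] at this
    exact le_bot_iff.mp this
  have h2 : 1 < Nat.card E := by
    rw [Subgroup.one_lt_card_iff_ne_bot]; exact hE
  have h3 : Nat.card W - 1 ≤ Nat.card E - 1 := Nat.le_of_dvd (by omega) hcnt
  omega

/-- Step 6: an element of `K` commuting with a nontrivial element of `E` is trivial. -/
theorem eq_one_of_commute (D : QData sq b) (R : RData ρ) (A : AData sq ρ K E Q)
    (hcard : Nat.card M = Nat.card W ^ 2)
    (hnd : ∀ W₀ : AddSubgroup W, W₀.index = 2 → ∀ y : M, (∀ x, b x y ∈ W₀) → y = 0)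
    (e : Γ) (he : e ∈ E) (he1 : e ≠ 1) (he2 : e * e = 1) (k : Γ) (hk : k ∈ K)
    (hke : k * e = e * k) : k = 1 := by
  have hne : ∃ x, ρ e x ≠ x := by
    by_contra h
    push Not at h
    exact he1 (R.faithful e h)
  obtain ⟨hA0, v, hfv, hv0, hvperp⟩ := star_abs D hcard hnd (ρ e) (R.add e) (A.Esq e he)
    (fun x => by rw [← R.mul, he2, R.one]) hne
  -- k preserves the fixed space of e
  have hpres : ∀ a, ρ e a = a → ρ e (ρ k a) = ρ k a := by
    intro a ha
    rw [← R.mul, ← hke, R.mul, ha]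
  -- k is trivial on the fixed space of e
  have hkA : ∀ a, ρ e a = a → ρ k a = a := by
    intro a ha
    exact D.eq_of_sq_eq_of_b (A.Ksq k hk a) (hA0 _ _ (hpres a ha) ha)
  have hkk : k * k = 1 := by
    apply R.faithful
    intro x
    have h1 : b v (ρ k x + x) = 0 := by
      rw [D.b_add_right]
      have : b v (ρ k x) = b v x := by
        have := D.b_inv (ρ k) (R.add k) (A.Ksq k hk) v x
        rw [hkA v hfv] at this
        exact this
      rw [this]; exact D.W2 _
    have h2 : ρ e (ρ k x + x) = ρ k x + x := hvperp _ h1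
    have h3 : ρ k (ρ k x + x) = ρ k x + x := hkA _ h2
    rw [R.add] at h3
    rw [R.mul]
    linear_combination (norm := abel) h3
  exact eq_one_of_sq_of_odd k (odd_orderOf_of_mem K A.Kodd k hk) hkk

theorem finite_of_faithful (R : RData ρ) : Finite Γ := by
  have hinj : Function.Injective ρ := by
    intro g h hgh
    have : g⁻¹ * h = 1 := by
      apply R.faithful
      intro x
      rw [R.mul, ← hgh, R.inv_apply]
    rw [inv_mul_eq_one] at this
    exact this
  exact Finite.of_injective ρ hinj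

/-- **Abstract (COREB)**: the configuration is impossible. -/
theorem coreB_abs (D : QData sq b) (R : RData ρ) (A : AData sq ρ K E Q)
    (hcard : Nat.card M = Nat.card W ^ 2) (hW4 : 4 ≤ Nat.card W)
    (hnd : ∀ W₀ : AddSubgroup W, W₀.index = 2 → ∀ y : M, (∀ x, b x y ∈ W₀) → y = 0)
    (hcnt : (Nat.card W - 1) ∣ (Nat.card E - 1)) : False := by
  classical
  haveI : Finite Γ := finite_of_faithful R
  have hQ := Q_eq_bot D R A
  have hEsq : ∀ e ∈ E, e * e = 1 := by
    intro e he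
    have := A.EsqQ e he
    rw [hQ, Subgroup.mem_bot, pow_two] at this
    exact this
  have hEcomm : ∀ a ∈ E, ∀ c ∈ E, a * c = c * a := by
    intro a ha c hc
    have := A.EcommQ a ha c hc
    rw [hQ, Subgroup.mem_bot, commutatorElement_eq_one_iff_mul_comm] at this
    exact this
  have h4 := four_le_card_E R hcard hW4 A hcnt
  -- inversion
  have hinv : ∀ e ∈ E, e ≠ 1 → ∀ k ∈ K, e * k * e⁻¹ = k⁻¹ := by
    intro e he he1
    have he2 := hEsq e he
    have hee : e⁻¹ = e := inv_eq_of_mul_eq_one_right he2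
    let ψ : K → K := fun k =>
      ⟨k.1⁻¹ * (e * k.1 * e⁻¹), K.mul_mem (K.inv_mem k.2) (A.EK e he k.1 k.2)⟩
    have hinj : Function.Injective ψ := by
      intro k l hkl
      have h : k.1⁻¹ * (e * k.1 * e⁻¹) = l.1⁻¹ * (e * l.1 * e⁻¹) := congrArg Subtype.val hkl
      have h' : l.1 * k.1⁻¹ * (e * k.1 * e⁻¹) = e * l.1 * e⁻¹ := by
        calc l.1 * k.1⁻¹ * (e * k.1 * e⁻¹) = l.1 * (k.1⁻¹ * (e * k.1 * e⁻¹)) := by group
          _ = l.1 * (l.1⁻¹ * (e * l.1 * e⁻¹)) := by rw [h]
          _ = e * l.1 * e⁻¹ := by group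
      have hc : (l.1 * k.1⁻¹) * e = e * (l.1 * k.1⁻¹) := by
        calc l.1 * k.1⁻¹ * e = (l.1 * k.1⁻¹ * (e * k.1 * e⁻¹)) * (e * k.1⁻¹) := by group
          _ = e * l.1 * e⁻¹ * (e * k.1⁻¹) := by rw [h']
          _ = e * (l.1 * k.1⁻¹) := by group
      have := eq_one_of_commute D R A hcard hnd e he he1 he2 (l.1 * k.1⁻¹)
        (K.mul_mem l.2 (K.inv_mem k.2)) hc
      rw [mul_inv_eq_one] at this
      exact Subtype.ext this.symm
    have hsurj := Finite.surjective_of_injective hinj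
    intro k hk
    obtain ⟨l, hl⟩ := hsurj ⟨k, hk⟩
    have hl' : l.1⁻¹ * (e * l.1 * e⁻¹) = k := congrArg Subtype.val hl
    rw [← hl', hee]
    calc e * (l.1⁻¹ * (e * l.1 * e)) * e = e * l.1⁻¹ * e * l.1 * (e * e) := by group
      _ = e * l.1⁻¹ * e * l.1 := by rw [he2, mul_one]
      _ = e⁻¹ * l.1⁻¹ * e⁻¹ * l.1 := by rw [hee]
      _ = (l.1⁻¹ * (e * l.1 * e))⁻¹ := by group
  -- two distinct involutions
  have hEne : E ≠ ⊥ := by
    intro h
    rw [h, Subgroup.card_bot] at h4
    omega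
  obtain ⟨e₁, he₁1⟩ := (Subgroup.ne_bot_iff_exists_ne_one.mp hEne)
  have he₁E : (e₁ : Γ) ∈ E := e₁.2
  have he₁1' : (e₁ : Γ) ≠ 1 := fun h => he₁1 (Subtype.ext h)
  have hex2 : ∃ e₂ ∈ E, e₂ ≠ 1 ∧ e₂ ≠ (e₁ : Γ) := by
    by_contra hcon
    push Not at hcon
    have hsub : (E : Set Γ) ⊆ {1, (e₁ : Γ)} := by
      intro x hx
      by_cases hx1 : x = 1
      · exact Or.inl hx1
      · exact Or.inr (hcon x hx hx1)
    have h1 : Nat.card E = (E : Set Γ).ncard := (Nat.card_coe_set_eq _)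
    have h2 : (E : Set Γ).ncard ≤ ({1, (e₁ : Γ)} : Set Γ).ncard :=
      Set.ncard_le_ncard hsub (Set.toFinite _)
    have h3 : ({1, (e₁ : Γ)} : Set Γ).ncard ≤ 2 := by
      calc ({1, (e₁ : Γ)} : Set Γ).ncard ≤ ({(e₁ : Γ)} : Set Γ).ncard + 1 := Set.ncard_insert_le _ _
        _ = 2 := by rw [Set.ncard_singleton]
    omega
  obtain ⟨e₂, he₂E, he₂1, he₂ne⟩ := hex2
  have he₃1 : (e₁ : Γ) * e₂ ≠ 1 := by
    intro h
    apply he₂ne
    have h1 : (e₁ : Γ)⁻¹ = e₂ := inv_eq_of_mul_eq_one_right h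
    have h2 : (e₁ : Γ)⁻¹ = e₁ := inv_eq_of_mul_eq_one_right (hEsq _ he₁E)
    rw [← h1, h2]
  apply K_ne_bot R hcard hW4 A
  rw [eq_bot_iff]
  intro k hk
  rw [Subgroup.mem_bot]
  have hk₂ := hinv e₂ he₂E he₂1 k hk
  have hk₁ := hinv e₁ he₁E he₁1' k⁻¹ (K.inv_mem hk)
  apply eq_one_of_commute D R A hcard hnd ((e₁ : Γ) * e₂) (E.mul_mem he₁E he₂E) he₃1
    (hEsq _ (E.mul_mem he₁E he₂E)) k hk
  have h5 : (e₁ : Γ) * e₂ * k * ((e₁ : Γ) * e₂)⁻¹ = k := by
    calc (e₁ : Γ) * e₂ * k * ((e₁ : Γ) * e₂)⁻¹ = e₁ * (e₂ * k * e₂⁻¹) * (e₁ : Γ)⁻¹ := by group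
      _ = e₁ * k⁻¹ * (e₁ : Γ)⁻¹ := by rw [hk₂]
      _ = k := by rw [hk₁, inv_inv]
  calc k * ((e₁ : Γ) * e₂) = ((e₁ : Γ) * e₂ * k * ((e₁ : Γ) * e₂)⁻¹) * ((e₁ : Γ) * e₂) := by rw [h5]
    _ = (e₁ : Γ) * e₂ * k := by group

end Main

end Abs

end Cfsg.Agent.Helper94.TH1
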