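import Mathlib
import Cfsg.Prelude.Def_RootSubgroups
import Cfsg.Agent.Lib.Helper94.RootSame

set_option autoImplicit false

namespace Cfsg.Agent.Helper94.Tv

open Cfsg Cfsg.Agent.Helper83 Cfsg.Agent.Helper94 Matrix

variable {ι : Type*} [Fintype ι] [DecidableEq ι] {k : Type*} [Field k]

/-- the matrix `1 + c u φ` -/
def tvm (u φ : ι → k) (c : k) : Matrix ι ι k := 1 + c • vecMulVec u φ

theorem tvm_zero (u φ : ι → k) : tvm u φ 0 = 1 := by simp [tvm]

theorem tvm_mul_tvm (u φ v ψ : ι → k) (c d : k) :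
    tvm u φ c * tvm v ψ d =
      1 + c • vecMulVec u φ + d • vecMulVec v ψ + (c * d * (φ ⬝ᵥ v)) • vecMulVec u ψ := by
  unfold tvm
  rw [add_mul, mul_add, mul_add, one_mul, mul_one, one_mul, smul_mul_assoc, mul_smul_comm,
    vecMulVec_mul_vecMulVec, vecMulVec_smul, smul_smul, smul_smul]
  abel

theorem tvm_mul_same {u φ : ι → k} (h : φ ⬝ᵥ u = 0) (c d : k) :
    tvm u φ c * tvm u φ d = tvm u φ (c + d) := by
  rw [tvm_mul_tvm, h, mul_zero, zero_smul, add_zero]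
  unfold tvm
  rw [add_smul, add_assoc]

theorem det_tvm (u φ : ι → k) (c : k) : (tvm u φ c).det = 1 + c * (φ ⬝ᵥ u) := by
  unfold tvm
  rw [← smul_vecMulVec, Matrix.vecMulVec_eq Unit, Matrix.det_one_add_replicateCol_mul_replicateRow,
    dotProduct_smul, smul_eq_mul]

theorem mul_tvm_mul {M N : Matrix ι ι k} (u φ : ι → k) (c : k) (h : M * N = 1) :
    M * tvm u φ c * N = tvm (M *ᵥ u) (φ ᵥ* N) c := by
  unfold tvm
  rw [mul_add, add_mul, mul_one, h, mul_smul_comm, smul_mul_assoc, mul_vecMulVec, vecMulVec_mul]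

theorem tvm_smul_smul (u φ : ι → k) (a b c : k) :
    tvm (a • u) (b • φ) c = tvm u φ (a * b * c) := by
  unfold tvm
  rw [smul_vecMulVec, vecMulVec_smul, smul_smul, smul_smul]
  congr 2
  ring

theorem tvm_mulVec (u φ x : ι → k) (c : k) : tvm u φ c *ᵥ x = x + (c * (φ ⬝ᵥ x)) • u := by
  unfold tvm
  rw [add_mulVec, one_mulVec, smul_mulVec, vecMulVec_mulVec]
  congr 1
  ext i
  simp only [Pi.smul_apply, MulOpposite.smul_eq_mul_unop, MulOpposite.unop_op, smul_eq_mul]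
  ring

theorem vecMul_tvm (u φ x : ι → k) (c : k) : x ᵥ* tvm u φ c = x + (c * (x ⬝ᵥ u)) • φ := by
  unfold tvm
  rw [vecMul_add, vecMul_one, vecMul_smul, vecMul_vecMulVec, smul_smul]

theorem tvm_injective {u φ : ι → k} (hu : u ≠ 0) (hφ : φ ≠ 0) {c d : k}
    (h : tvm u φ c = tvm u φ d) : c = d := by
  obtain ⟨i, hi⟩ := Function.ne_iff.1 hu
  obtain ⟨j, hj⟩ := Function.ne_iff.1 hφ
  have h1 := congrFun (congrFun h i) j
  unfold tvm at h1
  simp only [Matrix.add_apply, Matrix.smul_apply, vecMulVec_apply, smul_eq_mul] at h1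
  have h2 : c * (u i * φ j) = d * (u i * φ j) := add_left_cancel h1
  exact mul_right_cancel₀ (mul_ne_zero hi hj) h2

/-! ### transvection subgroups of the special linear group -/

/-- the element `1 + c u φ` of the special linear group -/
def tvSL (u φ : ι → k) (h : φ ⬝ᵥ u = 0) (c : k) : Matrix.SpecialLinearGroup ι k :=
  ⟨tvm u φ c, by rw [det_tvm, h, mul_zero, add_zero]⟩

theorem tvSL_coe (u φ : ι → k) (h : φ ⬝ᵥ u = 0) (c : k) :
    ((tvSL u φ h c : Matrix.SpecialLinearGroup ι k) : Matrix ι ι k) = tvm u φ c := rfl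

theorem tvSL_mul (u φ : ι → k) (h : φ ⬝ᵥ u = 0) (c d : k) :
    tvSL u φ h c * tvSL u φ h d = tvSL u φ h (c + d) := by
  apply Subtype.ext
  show ((tvSL u φ h c * tvSL u φ h d : Matrix.SpecialLinearGroup ι k) : Matrix ι ι k) = tvm u φ (c + d)
  rw [Matrix.SpecialLinearGroup.coe_mul, tvSL_coe, tvSL_coe, tvm_mul_same h]

theorem tvSL_zero (u φ : ι → k) (h : φ ⬝ᵥ u = 0) : tvSL u φ h 0 = 1 := by
  apply Subtype.ext
  show tvm u φ 0 = ((1 : Matrix.SpecialLinearGroup ι k) : Matrix ι ι k)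
  rw [tvm_zero, Matrix.SpecialLinearGroup.coe_one]

theorem tvSL_inv (u φ : ι → k) (h : φ ⬝ᵥ u = 0) (c : k) :
    (tvSL u φ h c)⁻¹ = tvSL u φ h (-c) := by
  rw [inv_eq_iff_mul_eq_one, tvSL_mul, add_neg_cancel, tvSL_zero]

/-- the transvection subgroup `{1 + c u φ}` -/
def TS (u φ : ι → k) : Subgroup (Matrix.SpecialLinearGroup ι k) :=
  Subgroup.closure {g | ∃ c : k, (g : Matrix ι ι k) = tvm u φ c}

theorem mem_TS {u φ : ι → k} (h : φ ⬝ᵥ u = 0) {g : Matrix.SpecialLinearGroup ι k} :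
    g ∈ TS u φ ↔ ∃ c : k, g = tvSL u φ h c := by
  constructor
  · intro hg
    unfold TS at hg
    induction hg using Subgroup.closure_induction with
    | mem x hx =>
      obtain ⟨c, hc⟩ := hx
      exact ⟨c, Subtype.ext hc⟩
    | one => exact ⟨0, (tvSL_zero u φ h).symm⟩
    | mul x y _ _ hx hy =>
      obtain ⟨c, rfl⟩ := hx
      obtain ⟨d, rfl⟩ := hy
      exact ⟨c + d, tvSL_mul u φ h c d⟩
    | inv x _ hx =>
      obtain ⟨c, rfl⟩ := hx
      exact ⟨-c, tvSL_inv u φ h c⟩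
  · rintro ⟨c, rfl⟩
    exact Subgroup.subset_closure ⟨c, rfl⟩

theorem tvSL_mem_TS (u φ : ι → k) (h : φ ⬝ᵥ u = 0) (c : k) : tvSL u φ h c ∈ TS u φ :=
  (mem_TS h).2 ⟨c, rfl⟩

theorem coe_inv_mul_coe (g : Matrix.SpecialLinearGroup ι k) :
    ((g⁻¹ : Matrix.SpecialLinearGroup ι k) : Matrix ι ι k) * (g : Matrix ι ι k) = 1 := by
  have := congrArg (fun x : Matrix.SpecialLinearGroup ι k => (x : Matrix ι ι k)) (inv_mul_cancel g)
  simpa only [Matrix.SpecialLinearGroup.coe_mul, Matrix.SpecialLinearGroup.coe_one] using this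

theorem coe_mul_coe_inv (g : Matrix.SpecialLinearGroup ι k) :
    (g : Matrix ι ι k) * ((g⁻¹ : Matrix.SpecialLinearGroup ι k) : Matrix ι ι k) = 1 := by
  have := congrArg (fun x : Matrix.SpecialLinearGroup ι k => (x : Matrix ι ι k)) (mul_inv_cancel g)
  simpa only [Matrix.SpecialLinearGroup.coe_mul, Matrix.SpecialLinearGroup.coe_one] using this

/-- conjugates of transvection subgroups -/
theorem conjBy_TS (u φ : ι → k) (g : Matrix.SpecialLinearGroup ι k) :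
    conjBy (TS u φ) g =
      TS ((g : Matrix ι ι k) *ᵥ u) (φ ᵥ* ((g⁻¹ : Matrix.SpecialLinearGroup ι k) : Matrix ι ι k)) := by
  unfold TS
  show Subgroup.map _ _ = _
  rw [MonoidHom.map_closure]
  congr 1
  ext y
  constructor
  · rintro ⟨x, ⟨c, hc⟩, rfl⟩
    refine ⟨c, ?_⟩
    show ((g * x * g⁻¹ : Matrix.SpecialLinearGroup ι k) : Matrix ι ι k) = _
    rw [Matrix.SpecialLinearGroup.coe_mul, Matrix.SpecialLinearGroup.coe_mul, hc,
      mul_tvm_mul u φ c (coe_mul_coe_inv g)]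
  · rintro ⟨c, hc⟩
    refine ⟨g⁻¹ * y * g, ⟨c, ?_⟩, ?_⟩
    · rw [Matrix.SpecialLinearGroup.coe_mul, Matrix.SpecialLinearGroup.coe_mul, hc,
        mul_tvm_mul _ _ c (coe_inv_mul_coe g), mulVec_mulVec, vecMul_vecMul, coe_inv_mul_coe,
        one_mulVec, vecMul_one]
    · show g * (g⁻¹ * y * g) * g⁻¹ = y
      group

theorem TS_smul_smul (u φ : ι → k) {a b : k} (ha : a ≠ 0) (hb : b ≠ 0) :
    TS (a • u) (b • φ) = TS u φ := by
  unfold TS
  congr 1
  ext g
  constructor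
  · rintro ⟨c, hc⟩
    exact ⟨a * b * c, by rw [hc, tvm_smul_smul]⟩
  · rintro ⟨c, hc⟩
    refine ⟨(a * b)⁻¹ * c, ?_⟩
    rw [hc, tvm_smul_smul, ← mul_assoc, mul_inv_cancel₀ (mul_ne_zero ha hb), one_mul]

end Cfsg.Agent.Helper94.Tv
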