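import Mathlib
import Cfsg.Prelude.Def_RootSubgroups
import Cfsg.Agent.Lib.Helper94.Tv

set_option autoImplicit false

namespace Cfsg.Agent.Helper94.Tv

open Cfsg Cfsg.Agent.Helper83 Cfsg.Agent.Helper94 Matrix
open scoped commutatorElement

variable {ι : Type*} [Fintype ι] [DecidableEq ι] {k : Type*} [Field k]

theorem tvSL_commute {u φ v ψ : ι → k} (hu : φ ⬝ᵥ u = 0) (hv : ψ ⬝ᵥ v = 0) (h1 : φ ⬝ᵥ v = 0)
    (h2 : ψ ⬝ᵥ u = 0) (c d : k) :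
    tvSL u φ hu c * tvSL v ψ hv d = tvSL v ψ hv d * tvSL u φ hu c := by
  apply Subtype.ext
  show ((tvSL u φ hu c * tvSL v ψ hv d : Matrix.SpecialLinearGroup ι k) : Matrix ι ι k) =
    ((tvSL v ψ hv d * tvSL u φ hu c : Matrix.SpecialLinearGroup ι k) : Matrix ι ι k)
  rw [Matrix.SpecialLinearGroup.coe_mul, Matrix.SpecialLinearGroup.coe_mul, tvSL_coe, tvSL_coe,
    tvm_mul_tvm, tvm_mul_tvm, h1, h2, mul_zero, mul_zero, zero_smul, zero_smul]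
  abel

theorem TS_commute {u φ v ψ : ι → k} (hu : φ ⬝ᵥ u = 0) (hv : ψ ⬝ᵥ v = 0) (h1 : φ ⬝ᵥ v = 0)
    (h2 : ψ ⬝ᵥ u = 0) : ∀ a ∈ TS u φ, ∀ b ∈ TS v ψ, a * b = b * a := by
  intro a ha b hb
  obtain ⟨c, rfl⟩ := (mem_TS hu).1 ha
  obtain ⟨d, rfl⟩ := (mem_TS hv).1 hb
  exact tvSL_commute hu hv h1 h2 c d

theorem TS_isMulCommutative {u φ : ι → k} (hu : φ ⬝ᵥ u = 0) : IsMulCommutative (TS u φ) := by
  refine ⟨⟨?_⟩⟩
  rintro ⟨a, ha⟩ ⟨b, hb⟩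
  apply Subtype.ext
  exact TS_commute hu hu hu hu a ha b hb

theorem TS_commutator_eq_bot {u φ v ψ : ι → k} (hu : φ ⬝ᵥ u = 0) (hv : ψ ⬝ᵥ v = 0)
    (h1 : φ ⬝ᵥ v = 0) (h2 : ψ ⬝ᵥ u = 0) : ⁅TS u φ, TS v ψ⁆ = ⊥ := by
  rw [Subgroup.commutator_eq_bot_iff_le_centralizer]
  exact le_centralizer_of_commute (TS_commute hu hv h1 h2)

theorem ring_comm_identity {R : Type*} [Ring R] {X Y : R} (hXX : X * X = 0) (hYY : Y * Y = 0)
    (hXY : X * Y = 0) : (1 + X) * (1 + Y) * (1 - X) * (1 - Y) = 1 - Y * X := by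
  have e1 : (1 + X) * (1 + Y) = 1 + X + Y + X * Y := by noncomm_ring
  have e2 : (1 + X + Y) * (1 - X) = 1 - X * X + Y - Y * X := by noncomm_ring
  have e3 : (1 + Y - Y * X) * (1 - Y) = 1 - Y * Y - Y * X + Y * (X * Y) := by noncomm_ring
  rw [e1, hXY, add_zero, e2, hXX, sub_zero, e3, hYY, hXY, mul_zero, sub_zero, add_zero]

theorem tvm_neg (u φ : ι → k) (c : k) : tvm u φ (-c) = 1 - c • vecMulVec u φ := by
  unfold tvm
  rw [neg_smul, sub_eq_add_neg]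

/-- the commutator of two transvections in the commutator case -/
theorem tvSL_commutator {u φ v ψ : ι → k} (hu : φ ⬝ᵥ u = 0) (hv : ψ ⬝ᵥ v = 0) (h1 : φ ⬝ᵥ v = 0)
    (c d : k) :
    tvSL u φ hu c * tvSL v ψ hv d * (tvSL u φ hu c)⁻¹ * (tvSL v ψ hv d)⁻¹ =
      tvSL v φ h1 (-(c * d * (ψ ⬝ᵥ u))) := by
  rw [tvSL_inv, tvSL_inv]
  apply Subtype.ext
  show ((tvSL u φ hu c * tvSL v ψ hv d * tvSL u φ hu (-c) * tvSL v ψ hv (-d) :
    Matrix.SpecialLinearGroup ι k) : Matrix ι ι k) = tvm v φ (-(c * d * (ψ ⬝ᵥ u)))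
  rw [Matrix.SpecialLinearGroup.coe_mul, Matrix.SpecialLinearGroup.coe_mul,
    Matrix.SpecialLinearGroup.coe_mul, tvSL_coe, tvSL_coe, tvSL_coe, tvSL_coe, tvm_neg, tvm_neg,
    tvm_neg]
  have hXX : (c • vecMulVec u φ) * (c • vecMulVec u φ) = 0 := by
    rw [smul_mul_assoc, mul_smul_comm, vecMulVec_mul_vecMulVec, hu, zero_smul, vecMulVec_zero,
      smul_zero, smul_zero]
  have hYY : (d • vecMulVec v ψ) * (d • vecMulVec v ψ) = 0 := by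
    rw [smul_mul_assoc, mul_smul_comm, vecMulVec_mul_vecMulVec, hv, zero_smul, vecMulVec_zero,
      smul_zero, smul_zero]
  have hXY : (c • vecMulVec u φ) * (d • vecMulVec v ψ) = 0 := by
    rw [smul_mul_assoc, mul_smul_comm, vecMulVec_mul_vecMulVec, h1, zero_smul, vecMulVec_zero,
      smul_zero, smul_zero]
  have hYX : (d • vecMulVec v ψ) * (c • vecMulVec u φ) = (c * d * (ψ ⬝ᵥ u)) • vecMulVec v φ := by
    rw [smul_mul_assoc, mul_smul_comm, vecMulVec_mul_vecMulVec, vecMulVec_smul, smul_smul,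
      smul_smul]
    congr 1
    ring
  unfold tvm
  rw [ring_comm_identity hXX hYY hXY, hYX]

theorem tvSL_eq_one_iff {u φ : ι → k} (hu : φ ⬝ᵥ u = 0) (hu0 : u ≠ 0) (hφ0 : φ ≠ 0) {c : k} :
    tvSL u φ hu c = 1 ↔ c = 0 := by
  constructor
  · intro h
    rw [← tvSL_zero u φ hu] at h
    have := congrArg (fun x : Matrix.SpecialLinearGroup ι k => (x : Matrix ι ι k)) h
    exact tvm_injective hu0 hφ0 this
  · rintro rfl
    exact tvSL_zero u φ hu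

theorem TS_ne_bot {u φ : ι → k} (hu : φ ⬝ᵥ u = 0) (hu0 : u ≠ 0) (hφ0 : φ ≠ 0) : TS u φ ≠ ⊥ := by
  intro h
  have h1 := tvSL_mem_TS u φ hu 1
  rw [h, Subgroup.mem_bot, tvSL_eq_one_iff hu hu0 hφ0] at h1
  exact one_ne_zero h1

/-- the commutator subgroup in the commutator case -/
theorem TS_commutator {u φ v ψ : ι → k} (hu : φ ⬝ᵥ u = 0) (hv : ψ ⬝ᵥ v = 0) (h1 : φ ⬝ᵥ v = 0)
    (h2 : ψ ⬝ᵥ u ≠ 0) : ⁅TS u φ, TS v ψ⁆ = TS v φ := by
  apply le_antisymm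
  · rw [Subgroup.commutator_le]
    intro a ha b hb
    obtain ⟨c, rfl⟩ := (mem_TS hu).1 ha
    obtain ⟨d, rfl⟩ := (mem_TS hv).1 hb
    rw [commutatorElement_def, tvSL_commutator hu hv h1]
    exact tvSL_mem_TS _ _ _ _
  · intro x hx
    obtain ⟨e, rfl⟩ := (mem_TS h1).1 hx
    have h3 := tvSL_commutator hu hv h1 1 (-(e / (ψ ⬝ᵥ u)))
    have e1 : -(1 * -(e / (ψ ⬝ᵥ u)) * (ψ ⬝ᵥ u)) = e := by field_simp
    rw [e1, ← commutatorElement_def] at h3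
    rw [← h3]
    exact Subgroup.commutator_mem_commutator (tvSL_mem_TS _ _ _ _) (tvSL_mem_TS _ _ _ _)

/-- the commutator case -/
theorem TS_commutatorCase {S : Set (Subgroup (Matrix.SpecialLinearGroup ι k))} {u φ v ψ : ι → k}
    (hu : φ ⬝ᵥ u = 0) (hv : ψ ⬝ᵥ v = 0) (h1 : φ ⬝ᵥ v = 0) (h2 : ψ ⬝ᵥ u ≠ 0) (hu0 : u ≠ 0)
    (hφ0 : φ ≠ 0) (hv0 : v ≠ 0) (hψ0 : ψ ≠ 0) (hmem : TS v φ ∈ S) :
    RootCommutatorCase S (TS u φ) (TS v ψ) := by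
  have hK := TS_commutator hu hv h1 h2
  refine ⟨by rw [hK]; exact hmem, ?_, ?_, ?_⟩
  · intro c hc x hx
    rw [hK] at hc
    have hA : c ∈ Subgroup.centralizer ((TS u φ : Subgroup _) : Set _) :=
      le_centralizer_of_commute (TS_commute h1 hu hu h1) hc
    have hB : c ∈ Subgroup.centralizer ((TS v ψ : Subgroup _) : Set _) :=
      le_centralizer_of_commute (TS_commute h1 hv h1 hv) hc
    have := mem_centralizer_sup hA hB
    rw [Subgroup.mem_centralizer_iff] at this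
    exact (this x hx).symm
  · intro a ha ha1
    obtain ⟨c, rfl⟩ := (mem_TS hu).1 ha
    have hc : c ≠ 0 := fun h => ha1 ((tvSL_eq_one_iff hu hu0 hφ0).2 h)
    rw [hK]
    apply le_antisymm
    · rw [Subgroup.closure_le]
      rintro _ ⟨b, hb, rfl⟩
      obtain ⟨d, rfl⟩ := (mem_TS hv).1 hb
      show tvSL u φ hu c * tvSL v ψ hv d * (tvSL u φ hu c)⁻¹ * (tvSL v ψ hv d)⁻¹ ∈ TS v φ
      rw [tvSL_commutator hu hv h1]
      exact tvSL_mem_TS _ _ _ _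
    · intro x hx
      obtain ⟨e, rfl⟩ := (mem_TS h1).1 hx
      apply Subgroup.subset_closure
      refine ⟨tvSL v ψ hv (-(e / (c * (ψ ⬝ᵥ u)))), tvSL_mem_TS _ _ _ _, ?_⟩
      show tvSL u φ hu c * tvSL v ψ hv (-(e / (c * (ψ ⬝ᵥ u)))) * (tvSL u φ hu c)⁻¹ *
        (tvSL v ψ hv (-(e / (c * (ψ ⬝ᵥ u)))))⁻¹ = _
      rw [tvSL_commutator hu hv h1]
      congr 1
      field_simp
  · intro b hb hb1
    obtain ⟨d, rfl⟩ := (mem_TS hv).1 hb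
    have hd : d ≠ 0 := fun h => hb1 ((tvSL_eq_one_iff hv hv0 hψ0).2 h)
    rw [hK]
    apply le_antisymm
    · rw [Subgroup.closure_le]
      rintro _ ⟨a, ha, rfl⟩
      obtain ⟨c, rfl⟩ := (mem_TS hu).1 ha
      show tvSL u φ hu c * tvSL v ψ hv d * (tvSL u φ hu c)⁻¹ * (tvSL v ψ hv d)⁻¹ ∈ TS v φ
      rw [tvSL_commutator hu hv h1]
      exact tvSL_mem_TS _ _ _ _
    · intro x hx
      obtain ⟨e, rfl⟩ := (mem_TS h1).1 hx
      apply Subgroup.subset_closure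
      refine ⟨tvSL u φ hu (-(e / (d * (ψ ⬝ᵥ u)))), tvSL_mem_TS _ _ _ _, ?_⟩
      show tvSL u φ hu (-(e / (d * (ψ ⬝ᵥ u)))) * tvSL v ψ hv d *
        (tvSL u φ hu (-(e / (d * (ψ ⬝ᵥ u)))))⁻¹ * (tvSL v ψ hv d)⁻¹ = _
      rw [tvSL_commutator hu hv h1]
      congr 1
      field_simp

end Cfsg.Agent.Helper94.Tv
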