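import Mathlib
import Cfsg.Prelude.Def_RootSubgroups
import Cfsg.Agent.Lib.Helper94.TvPair
import Cfsg.Agent.Lib.Helper94.RootMap
import Cfsg.Agent.Lib.Helper83.SL2

set_option autoImplicit false

namespace Cfsg.Agent.Helper94.Tv

open Cfsg Cfsg.Agent.Helper83 Cfsg.Agent.Helper94 Matrix
open scoped commutatorElement

variable {ι : Type*} [Fintype ι] [DecidableEq ι] {k : Type*} [Field k]

/-- the matrix with columns `u`, `v` -/
def Emat (u v : ι → k) : Matrix ι (Fin 2) k := Matrix.of (fun i j => if j = 0 then u i else v i)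

/-- the matrix with rows `ψ`, `φ` -/
def Edual (ψ φ : ι → k) : Matrix (Fin 2) ι k := Matrix.of (fun j i => if j = 0 then ψ i else φ i)

theorem Edual_mul_Emat {u φ v ψ : ι → k} (hu : φ ⬝ᵥ u = 0) (hv : ψ ⬝ᵥ v = 0) (h1 : φ ⬝ᵥ v = 1)
    (h2 : ψ ⬝ᵥ u = 1) : Edual ψ φ * Emat u v = 1 := by
  ext a b
  rw [Matrix.mul_apply]
  fin_cases a <;> fin_cases b
  · simpa [Emat, Edual, dotProduct] using h2
  · simpa [Emat, Edual, dotProduct] using hv
  · simpa [Emat, Edual, dotProduct] using hu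
  · simpa [Emat, Edual, dotProduct] using h1

/-- the embedding of `2 × 2` matrices -/
def embM (u φ v ψ : ι → k) (M : Matrix (Fin 2) (Fin 2) k) : Matrix ι ι k :=
  1 + Emat u v * (M - 1) * Edual ψ φ

theorem embM_one (u φ v ψ : ι → k) : embM u φ v ψ 1 = 1 := by
  unfold embM
  rw [sub_self, Matrix.mul_zero, Matrix.zero_mul, add_zero]

theorem embM_mul {u φ v ψ : ι → k} (hE : Edual ψ φ * Emat u v = 1)
    (M N : Matrix (Fin 2) (Fin 2) k) : embM u φ v ψ (M * N) = embM u φ v ψ M * embM u φ v ψ N := by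
  unfold embM
  have key : Emat u v * (M - 1) * Edual ψ φ * (Emat u v * (N - 1) * Edual ψ φ) =
      Emat u v * ((M - 1) * (N - 1)) * Edual ψ φ := by
    calc Emat u v * (M - 1) * Edual ψ φ * (Emat u v * (N - 1) * Edual ψ φ)
        = Emat u v * (M - 1) * (Edual ψ φ * Emat u v) * (N - 1) * Edual ψ φ := by
          simp only [Matrix.mul_assoc]
      _ = Emat u v * ((M - 1) * (N - 1)) * Edual ψ φ := by
          rw [hE, Matrix.mul_one]; simp only [Matrix.mul_assoc]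
  rw [add_mul, mul_add, mul_add, one_mul, mul_one, one_mul, key]
  have e : M * N - 1 = (M - 1) + ((N - 1) + (M - 1) * (N - 1)) := by noncomm_ring
  rw [e, Matrix.mul_add, Matrix.mul_add, Matrix.add_mul, Matrix.add_mul, add_assoc]
  abel

theorem det_embM {u φ v ψ : ι → k} (hE : Edual ψ φ * Emat u v = 1)
    (M : Matrix (Fin 2) (Fin 2) k) : (embM u φ v ψ M).det = M.det := by
  unfold embM
  rw [Matrix.mul_assoc, det_one_add_mul_comm, Matrix.mul_assoc, hE, Matrix.mul_one,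
    add_sub_cancel]

theorem embM_injective {u φ v ψ : ι → k} (hE : Edual ψ φ * Emat u v = 1)
    {M : Matrix (Fin 2) (Fin 2) k} (h : embM u φ v ψ M = 1) : M = 1 := by
  unfold embM at h
  have h1 : Emat u v * (M - 1) * Edual ψ φ = 0 := by
    have := congrArg (fun X => X - 1) h
    simpa using this
  have h2 : Edual ψ φ * (Emat u v * (M - 1) * Edual ψ φ) * Emat u v = 0 := by
    rw [h1, Matrix.mul_zero, Matrix.zero_mul]
  have h3 : Edual ψ φ * (Emat u v * (M - 1) * Edual ψ φ) * Emat u v =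
      (Edual ψ φ * Emat u v) * (M - 1) * (Edual ψ φ * Emat u v) := by
    simp only [Matrix.mul_assoc]
  rw [h3, hE, Matrix.one_mul, Matrix.mul_one] at h2
  exact sub_eq_zero.1 h2

theorem embM_upper (u φ v ψ : ι → k) (t : k) : embM u φ v ψ !![1, t; 0, 1] = tvm u φ t := by
  unfold embM tvm
  congr 1
  ext i j
  simp [Matrix.mul_apply, Fin.sum_univ_two, Emat, Edual, vecMulVec_apply]
  ring

theorem embM_lower (u φ v ψ : ι → k) (t : k) : embM u φ v ψ !![1, 0; t, 1] = tvm v ψ t := by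
  unfold embM tvm
  congr 1
  ext i j
  simp [Matrix.mul_apply, Fin.sum_univ_two, Emat, Edual, vecMulVec_apply]
  ring

/-- the embedding of `SL₂` attached to a hyperbolic pair of flags -/
def embSL {u φ v ψ : ι → k} (hE : Edual ψ φ * Emat u v = 1) :
    Matrix.SpecialLinearGroup (Fin 2) k →* Matrix.SpecialLinearGroup ι k where
  toFun M := ⟨embM u φ v ψ (M : Matrix (Fin 2) (Fin 2) k), by rw [det_embM hE, M.2]⟩
  map_one' := by
    apply Subtype.ext
    show embM u φ v ψ ((1 : Matrix.SpecialLinearGroup (Fin 2) k) : Matrix (Fin 2) (Fin 2) k) =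
      ((1 : Matrix.SpecialLinearGroup ι k) : Matrix ι ι k)
    rw [Matrix.SpecialLinearGroup.coe_one, embM_one, Matrix.SpecialLinearGroup.coe_one]
  map_mul' M N := by
    apply Subtype.ext
    show embM u φ v ψ ((M * N : Matrix.SpecialLinearGroup (Fin 2) k) : Matrix (Fin 2) (Fin 2) k) =
      embM u φ v ψ M * embM u φ v ψ N
    rw [Matrix.SpecialLinearGroup.coe_mul, embM_mul hE]

theorem embSL_coe {u φ v ψ : ι → k} (hE : Edual ψ φ * Emat u v = 1)
    (M : Matrix.SpecialLinearGroup (Fin 2) k) :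
    ((embSL hE M : Matrix.SpecialLinearGroup ι k) : Matrix ι ι k) =
      embM u φ v ψ (M : Matrix (Fin 2) (Fin 2) k) := rfl

theorem embSL_injective {u φ v ψ : ι → k} (hE : Edual ψ φ * Emat u v = 1) :
    Function.Injective (embSL hE) := by
  rw [injective_iff_map_eq_one]
  intro M hM
  apply Subtype.ext
  have := congrArg (fun x : Matrix.SpecialLinearGroup ι k => (x : Matrix ι ι k)) hM
  simp only [embSL_coe, Matrix.SpecialLinearGroup.coe_one] at this
  exact embM_injective hE this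

theorem embSL_uSL {u φ v ψ : ι → k} (hE : Edual ψ φ * Emat u v = 1) (hu : φ ⬝ᵥ u = 0) (t : k) :
    embSL hE (uSL t) = tvSL u φ hu t := by
  apply Subtype.ext
  show embM u φ v ψ !![1, t; 0, 1] = tvm u φ t
  exact embM_upper u φ v ψ t

theorem embSL_lSL {u φ v ψ : ι → k} (hE : Edual ψ φ * Emat u v = 1) (hv : ψ ⬝ᵥ v = 0) (t : k) :
    embSL hE (lSL t) = tvSL v ψ hv t := by
  apply Subtype.ext
  show embM u φ v ψ !![1, 0; t, 1] = tvm v ψ t
  exact embM_lower u φ v ψ t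

theorem map_upper {u φ v ψ : ι → k} (hE : Edual ψ φ * Emat u v = 1) (hu : φ ⬝ᵥ u = 0) :
    (upperUnipotentSL2 k).map (embSL hE) = TS u φ := by
  ext x
  rw [Subgroup.mem_map, mem_TS hu]
  constructor
  · rintro ⟨g, hg, rfl⟩
    obtain ⟨t, rfl⟩ := mem_upperUnipotentSL2.1 hg
    exact ⟨t, embSL_uSL hE hu t⟩
  · rintro ⟨t, rfl⟩
    exact ⟨uSL t, mem_upperUnipotentSL2.2 ⟨t, rfl⟩, embSL_uSL hE hu t⟩

theorem map_lower {u φ v ψ : ι → k} (hE : Edual ψ φ * Emat u v = 1) (hv : ψ ⬝ᵥ v = 0) :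
    (lowerUnipotentSL2 k).map (embSL hE) = TS v ψ := by
  ext x
  rw [Subgroup.mem_map, mem_TS hv]
  constructor
  · rintro ⟨g, hg, rfl⟩
    obtain ⟨t, rfl⟩ := mem_lowerUnipotentSL2.1 hg
    exact ⟨t, embSL_lSL hE hv t⟩
  · rintro ⟨t, rfl⟩
    exact ⟨lSL t, mem_lowerUnipotentSL2.2 ⟨t, rfl⟩, embSL_lSL hE hv t⟩

/-- two "opposite" flags give a rank one pair which is an image of `SL₂(k)` -/
theorem TS_rankOne_psl2 {u φ v ψ : ι → k} (hu : φ ⬝ᵥ u = 0) (hv : ψ ⬝ᵥ v = 0)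
    (h1 : φ ⬝ᵥ v ≠ 0) (h2 : ψ ⬝ᵥ u ≠ 0) :
    IsRankOnePair (TS u φ) (TS v ψ) ∧ IsPSL2PairOver k (TS u φ) (TS v ψ) := by
  have ha : (φ ⬝ᵥ v)⁻¹ ≠ 0 := inv_ne_zero h1
  have hb : (ψ ⬝ᵥ u)⁻¹ ≠ 0 := inv_ne_zero h2
  rw [← TS_smul_smul v ψ ha hb]
  have hv' : ((ψ ⬝ᵥ u)⁻¹ • ψ) ⬝ᵥ ((φ ⬝ᵥ v)⁻¹ • v) = 0 := by
    rw [smul_dotProduct, dotProduct_smul, hv, smul_zero, smul_zero]
  have h1' : φ ⬝ᵥ ((φ ⬝ᵥ v)⁻¹ • v) = 1 := by
    rw [dotProduct_smul, smul_eq_mul, inv_mul_cancel₀ h1]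
  have h2' : ((ψ ⬝ᵥ u)⁻¹ • ψ) ⬝ᵥ u = 1 := by
    rw [smul_dotProduct, smul_eq_mul, inv_mul_cancel₀ h2]
  have hE := Edual_mul_Emat hu hv' h1' h2'
  have hinj := embSL_injective hE
  have hmu := map_upper hE hu
  have hml := map_lower hE hv'
  constructor
  · have hr : IsRankOnePair (upperUnipotentSL2 k) (lowerUnipotentSL2 k) :=
      RankOnePair_symm sl2_isRankOnePair
    have hne : (upperUnipotentSL2 k).map (embSL hE) ≠ (lowerUnipotentSL2 k).map (embSL hE) :=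
      fun h => hr.ne (Subgroup.map_injective hinj h)
    have h3 := rankOneCondition_map (embSL hE) hr.cond_left hne
    have h4 := rankOneCondition_map (embSL hE) hr.cond_right hne.symm
    rw [hmu, hml] at h3 h4 hne
    exact ⟨hne, isNilpotent_of_comm (TS_isMulCommutative hu),
      isNilpotent_of_comm (TS_isMulCommutative hv'), h3, h4⟩
  · refine ⟨embSL hE, ?_, ?_, hmu, hml⟩
    · rw [MonoidHom.range_eq_map, ← sl2_generation, Subgroup.map_sup, hmu, hml, sup_comm]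
    · rw [(MonoidHom.ker_eq_bot_iff (embSL hE)).2 hinj]
      exact bot_le

end Cfsg.Agent.Helper94.Tv
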