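import Mathlib
import Cfsg.Prelude.Def_RootSubgroups
import Cfsg.Agent.Lib.Helper94.TvSL2

set_option autoImplicit false

namespace Cfsg.Agent.Helper94.Tv

open Cfsg Cfsg.Agent.Helper83 Cfsg.Agent.Helper94 Matrix
open scoped commutatorElement

variable {ι : Type*} [Fintype ι] [DecidableEq ι] {k : Type*} [Field k]

/-- `(u, φ)` is an incident point-hyperplane pair -/
def IsFlag (u φ : ι → k) : Prop := u ≠ 0 ∧ φ ≠ 0 ∧ φ ⬝ᵥ u = 0

/-- proportional vectors -/
theorem exists_smul_of_minors {u v : ι → k} (hu : u ≠ 0) (hv : v ≠ 0)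
    (h : ∀ i j, u i * v j = u j * v i) : ∃ c : k, c ≠ 0 ∧ v = c • u := by
  obtain ⟨i₀, hi₀⟩ := Function.ne_iff.1 hu
  have hi₀' : u i₀ ≠ 0 := hi₀
  have hvu : v = (v i₀ / u i₀) • u := by
    ext j
    rw [Pi.smul_apply, smul_eq_mul, div_mul_eq_mul_div, eq_div_iff hi₀', mul_comm (v j), h i₀ j,
      mul_comm]
  refine ⟨v i₀ / u i₀, ?_, hvu⟩
  intro h0
  rw [h0, zero_smul] at hvu
  exact hv hvu

/-- moving the centre, keeping the hyperplane -/
theorem move_center {u v φ : ι → k} (hu : IsFlag u φ) (hv : IsFlag v φ) :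
    ∃ g : Matrix.SpecialLinearGroup ι k, TS v φ = conjBy (TS u φ) g := by
  by_cases hind : ∃ i j, u i * v j ≠ u j * v i
  · obtain ⟨i, j, hij⟩ := hind
    have hΔ : u i * v j - u j * v i ≠ 0 := sub_ne_zero.2 hij
    set a : k := (v j - u j) / (u i * v j - u j * v i) with ha
    set b : k := (u i - v i) / (u i * v j - u j * v i) with hb
    have hχu : (Pi.single i a + Pi.single j b : ι → k) ⬝ᵥ u = 1 := by
      rw [add_dotProduct, single_dotProduct, single_dotProduct, ha, hb, div_mul_eq_mul_div,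
        div_mul_eq_mul_div, ← add_div, div_eq_one_iff_eq hΔ]
      ring
    have hχv : (Pi.single i a + Pi.single j b : ι → k) ⬝ᵥ v = 1 := by
      rw [add_dotProduct, single_dotProduct, single_dotProduct, ha, hb, div_mul_eq_mul_div,
        div_mul_eq_mul_div, ← add_div, div_eq_one_iff_eq hΔ]
      ring
    have hχ : (Pi.single i a + Pi.single j b : ι → k) ⬝ᵥ (v - u) = 0 := by
      rw [dotProduct_sub, hχu, hχv, sub_self]
    refine ⟨tvSL (v - u) _ hχ 1, ?_⟩
    rw [conjBy_TS, tvSL_inv, tvSL_coe, tvSL_coe, tvm_mulVec, vecMul_tvm, hχu, dotProduct_sub,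
      hu.2.2, hv.2.2, sub_self, mul_zero, zero_smul, add_zero, mul_one, one_smul,
      add_sub_cancel]
  · push Not at hind
    obtain ⟨c, hc, rfl⟩ := exists_smul_of_minors hu.1 hv.1 hind
    refine ⟨1, ?_⟩
    rw [conjBy_one]
    have := TS_smul_smul u φ hc (one_ne_zero (α := k))
    rwa [one_smul] at this

/-- moving the hyperplane, keeping the centre -/
theorem move_axis {u φ ψ : ι → k} (hφ : IsFlag u φ) (hψ : IsFlag u ψ) :
    ∃ g : Matrix.SpecialLinearGroup ι k, TS u ψ = conjBy (TS u φ) g := by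
  by_cases hind : ∃ i j, φ i * ψ j ≠ φ j * ψ i
  · obtain ⟨i, j, hij⟩ := hind
    have hΔ : φ i * ψ j - φ j * ψ i ≠ 0 := sub_ne_zero.2 hij
    set a : k := (ψ j - φ j) / (φ i * ψ j - φ j * ψ i) with ha
    set b : k := (φ i - ψ i) / (φ i * ψ j - φ j * ψ i) with hb
    have hφw : φ ⬝ᵥ (Pi.single i a + Pi.single j b : ι → k) = 1 := by
      rw [dotProduct_add, dotProduct_single, dotProduct_single, ha, hb, mul_div_assoc',
        mul_div_assoc', ← add_div, div_eq_one_iff_eq hΔ]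
      ring
    have hψw : ψ ⬝ᵥ (Pi.single i a + Pi.single j b : ι → k) = 1 := by
      rw [dotProduct_add, dotProduct_single, dotProduct_single, ha, hb, mul_div_assoc',
        mul_div_assoc', ← add_div, div_eq_one_iff_eq hΔ]
      ring
    have hw : (φ - ψ) ⬝ᵥ (Pi.single i a + Pi.single j b : ι → k) = 0 := by
      rw [sub_dotProduct, hφw, hψw, sub_self]
    refine ⟨tvSL _ (φ - ψ) hw 1, ?_⟩
    rw [conjBy_TS, tvSL_inv, tvSL_coe, tvSL_coe, tvm_mulVec, vecMul_tvm, hφw, sub_dotProduct,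
      hφ.2.2, hψ.2.2, sub_self, mul_zero, zero_smul, add_zero, mul_one, neg_smul, one_smul]
    congr 1
    abel
  · push Not at hind
    obtain ⟨c, hc, rfl⟩ := exists_smul_of_minors hφ.2.1 hψ.2.1 hind
    refine ⟨1, ?_⟩
    rw [conjBy_one]
    have := TS_smul_smul u φ (one_ne_zero (α := k)) hc
    rwa [one_smul] at this

theorem single_flag {i j : ι} (hij : i ≠ j) : IsFlag (Pi.single i (1 : k)) (Pi.single j (1 : k)) := by
  refine ⟨?_, ?_, ?_⟩
  · intro h
    have := congrFun h i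
    simp at this
  · intro h
    have := congrFun h j
    simp at this
  · rw [single_dotProduct, one_mul, Pi.single_eq_of_ne (Ne.symm hij)]

/-- the class of transvection subgroups: the conjugates of the root subgroup `1 + c E_{i0,i1}` -/
def tvClass (k : Type*) [Field k] (i0 i1 : ι) : Set (Subgroup (Matrix.SpecialLinearGroup ι k)) :=
  {A | ∃ g : Matrix.SpecialLinearGroup ι k,
    A = conjBy (TS (Pi.single i0 (1 : k)) (Pi.single i1 (1 : k))) g}

theorem conjBy_mem_tvClass {i0 i1 : ι} {A : Subgroup (Matrix.SpecialLinearGroup ι k)}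
    (hA : A ∈ tvClass k i0 i1) (g : Matrix.SpecialLinearGroup ι k) :
    conjBy A g ∈ tvClass k i0 i1 := by
  obtain ⟨h, rfl⟩ := hA
  exact ⟨g * h, conjBy_conjBy _ _ _⟩

theorem exists_flag_of_mem {i0 i1 : ι} (h01 : i0 ≠ i1)
    {A : Subgroup (Matrix.SpecialLinearGroup ι k)} (hA : A ∈ tvClass k i0 i1) :
    ∃ u φ : ι → k, IsFlag u φ ∧ A = TS u φ := by
  obtain ⟨g, rfl⟩ := hA
  have hf := single_flag (k := k) h01
  refine ⟨_, _, ⟨?_, ?_, ?_⟩, conjBy_TS _ _ g⟩
  · intro h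
    have h1 := congrArg (fun x => ((g⁻¹ : Matrix.SpecialLinearGroup ι k) : Matrix ι ι k) *ᵥ x) h
    simp only [mulVec_mulVec, coe_inv_mul_coe, one_mulVec, mulVec_zero] at h1
    exact hf.1 h1
  · intro h
    have h1 := congrArg (fun x => x ᵥ* (g : Matrix ι ι k)) h
    simp only [vecMul_vecMul, coe_inv_mul_coe, vecMul_one, zero_vecMul] at h1
    exact hf.2.1 h1
  · rw [dotProduct_mulVec, vecMul_vecMul, coe_inv_mul_coe, vecMul_one]
    exact hf.2.2

theorem exists_aux_functional {i0 i1 i2 : ι} (h01 : i0 ≠ i1) (h02 : i0 ≠ i2) (h12 : i1 ≠ i2)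
    (u : ι → k) :
    ∃ χ : ι → k, χ ≠ 0 ∧ χ ⬝ᵥ (Pi.single i0 (1 : k)) = 0 ∧ χ ⬝ᵥ u = 0 := by
  by_cases hz : u i1 = 0 ∧ u i2 = 0
  · refine ⟨Pi.single i1 1, ?_, ?_, ?_⟩
    · intro h
      have := congrFun h i1
      simp at this
    · rw [single_dotProduct, one_mul, Pi.single_eq_of_ne (Ne.symm h01)]
    · rw [single_dotProduct, one_mul, hz.1]
  · refine ⟨Pi.single i1 (u i2) - Pi.single i2 (u i1), ?_, ?_, ?_⟩
    · intro h
      apply hz
      have e1 := congrFun h i1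
      have e2 := congrFun h i2
      simp only [Pi.sub_apply, Pi.single_eq_same, Pi.single_eq_of_ne h12,
        Pi.single_eq_of_ne (Ne.symm h12), Pi.zero_apply, sub_zero, zero_sub, neg_eq_zero] at e1 e2
      exact ⟨e2, e1⟩
    · rw [sub_dotProduct, single_dotProduct, single_dotProduct, Pi.single_eq_of_ne (Ne.symm h01),
        Pi.single_eq_of_ne (Ne.symm h02), mul_zero, mul_zero, sub_zero]
    · rw [sub_dotProduct, single_dotProduct, single_dotProduct]
      ring

/-- every flag subgroup belongs to the class -/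
theorem flag_mem_tvClass {i0 i1 i2 : ι} (h01 : i0 ≠ i1) (h02 : i0 ≠ i2) (h12 : i1 ≠ i2)
    {u φ : ι → k} (hf : IsFlag u φ) : TS u φ ∈ tvClass k i0 i1 := by
  obtain ⟨χ, hχ0, hχe, hχu⟩ := exists_aux_functional (k := k) h01 h02 h12 u
  have hf0 := single_flag (k := k) h01
  have f1 : IsFlag (Pi.single i0 (1 : k)) χ := ⟨hf0.1, hχ0, hχe⟩
  have f2 : IsFlag u χ := ⟨hf.1, hχ0, hχu⟩
  obtain ⟨g1, hg1⟩ := move_axis hf0 f1
  obtain ⟨g2, hg2⟩ := move_center f1 f2
  obtain ⟨g3, hg3⟩ := move_axis f2 hf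
  refine ⟨g3 * (g2 * g1), ?_⟩
  rw [hg3, hg2, hg1, conjBy_conjBy, conjBy_conjBy, mul_assoc]

end Cfsg.Agent.Helper94.Tv
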