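import Mathlib
import Cfsg.Prelude.Def_RootSubgroups
import Cfsg.Agent.Lib.Helper94.TvClass

set_option autoImplicit false

namespace Cfsg.Agent.Helper94.Tv

open Cfsg Cfsg.Agent.Helper83 Cfsg.Agent.Helper94 Matrix
open scoped commutatorElement

variable {ι : Type*} [Fintype ι] [DecidableEq ι] {k : Type*} [Field k]

/-- a diagonal element as a product of elementary transvections (as in `Cfsg.Agent.Helper93`) -/
theorem diag2n_decompose {i j : ι} (hij : i ≠ j) (a : k) (ha : a ≠ 0) :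
    (diagonal (fun l ↦ if l = i then a else if l = j then a⁻¹ else 1) : Matrix ι ι k) =
      Matrix.transvection i j a * Matrix.transvection j i (-a⁻¹) * Matrix.transvection i j a *
        Matrix.transvection i j (-1) * Matrix.transvection j i 1 * Matrix.transvection i j (-1) := by
  simp only [Matrix.transvection]
  simp [mul_add, add_mul, single_mul_single_same, single_mul_single_of_ne, hij, hij.symm]
  simp only [mul_inv_cancel₀ ha, inv_mul_cancel₀ ha]
  ext x y
  simp only [diagonal_apply, Matrix.add_apply, one_apply, single_apply]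
  by_cases hxi : x = i <;> by_cases hxj : x = j <;> by_cases hyi : y = i <;> by_cases hyj : y = j <;>
    simp_all [eq_comm]

theorem transvection_eq_tvSL {i j : ι} (hij : i ≠ j) (a : k) :
    Matrix.SpecialLinearGroup.transvection hij a =
      tvSL (Pi.single i (1 : k)) (Pi.single j (1 : k)) (single_flag hij).2.2 a := by
  apply Subtype.ext
  show Matrix.transvection i j a = tvm (Pi.single i (1 : k)) (Pi.single j (1 : k)) a
  unfold Matrix.transvection tvm
  rw [← single_eq_single_vecMulVec_single, smul_single, smul_eq_mul, mul_one]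

theorem tv_generates {i0 i1 i2 : ι} (h01 : i0 ≠ i1) (h02 : i0 ≠ i2) (h12 : i1 ≠ i2) :
    (⨆ A ∈ tvClass k i0 i1, A) = ⊤ := by
  have : Nontrivial ι := ⟨⟨i0, i1, h01⟩⟩
  rw [eq_top_iff]
  intro M _
  have htr : ∀ (i j : ι) (hij : i ≠ j) (a : k),
      Matrix.SpecialLinearGroup.transvection hij a ∈ ⨆ A ∈ tvClass k i0 i1, A := by
    intro i j hij a
    have hmem := flag_mem_tvClass (k := k) h01 h02 h12 (single_flag (k := k) hij)
    have h1 : TS (Pi.single i (1 : k)) (Pi.single j (1 : k)) ≤ ⨆ A ∈ tvClass k i0 i1, A :=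
      le_iSup₂_of_le (f := fun A _ => A) _ hmem le_rfl
    apply h1
    rw [transvection_eq_tvSL]
    exact tvSL_mem_TS _ _ _ _
  refine Matrix.SpecialLinearGroup.diagonal_transvection_induction'
    (fun M => M ∈ ⨆ A ∈ tvClass k i0 i1, A) M ?_ htr ?_
  · intro i j hij c hc
    have : Matrix.SpecialLinearGroup.diag2n hij c hc =
        Matrix.SpecialLinearGroup.transvection hij c *
        Matrix.SpecialLinearGroup.transvection hij.symm (-c⁻¹) *
        Matrix.SpecialLinearGroup.transvection hij c *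
        Matrix.SpecialLinearGroup.transvection hij (-1) *
        Matrix.SpecialLinearGroup.transvection hij.symm 1 *
        Matrix.SpecialLinearGroup.transvection hij (-1) :=
      Subtype.ext (diag2n_decompose hij c hc)
    show Matrix.SpecialLinearGroup.diag2n hij c hc ∈ _
    rw [this]
    refine Subgroup.mul_mem _ (Subgroup.mul_mem _ (Subgroup.mul_mem _ (Subgroup.mul_mem _
      (Subgroup.mul_mem _ ?_ ?_) ?_) ?_) ?_) ?_ <;> exact htr _ _ _ _
  · intro A B hA hB
    exact Subgroup.mul_mem _ hA hB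

theorem tv_pair {i0 i1 i2 : ι} (h01 : i0 ≠ i1) (h02 : i0 ≠ i2) (h12 : i1 ≠ i2)
    {u φ v ψ : ι → k} (hf : IsFlag u φ) (hg : IsFlag v ψ) :
    ⁅TS u φ, TS v ψ⁆ = ⊥ ∨ IsRankOnePair (TS u φ) (TS v ψ) ∨
      RootCommutatorCase (tvClass k i0 i1) (TS u φ) (TS v ψ) := by
  by_cases h1 : φ ⬝ᵥ v = 0
  · by_cases h2 : ψ ⬝ᵥ u = 0
    · exact Or.inl (TS_commutator_eq_bot hf.2.2 hg.2.2 h1 h2)
    · right; right
      exact TS_commutatorCase hf.2.2 hg.2.2 h1 h2 hf.1 hf.2.1 hg.1 hg.2.1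
        (flag_mem_tvClass h01 h02 h12 ⟨hg.1, hf.2.1, h1⟩)
  · by_cases h2 : ψ ⬝ᵥ u = 0
    · right; right
      apply commutatorCase_symm
      exact TS_commutatorCase hg.2.2 hf.2.2 h2 h1 hg.1 hg.2.1 hf.1 hf.2.1
        (flag_mem_tvClass h01 h02 h12 ⟨hf.1, hg.2.1, h2⟩)
    · exact Or.inr (Or.inl (TS_rankOne_psl2 hf.2.2 hg.2.2 h1 h2).1)

theorem tv_isRootSubgroupSet {i0 i1 i2 : ι} (h01 : i0 ≠ i1) (h02 : i0 ≠ i2) (h12 : i1 ≠ i2) :
    IsRootSubgroupSet (tvClass k i0 i1) := by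
  refine ⟨?_, ?_, tv_generates h01 h02 h12, fun A hA g => conjBy_mem_tvClass hA g, ?_⟩
  · intro A hA
    obtain ⟨u, φ, hf, rfl⟩ := exists_flag_of_mem h01 hA
    exact TS_isMulCommutative hf.2.2
  · intro A hA
    obtain ⟨u, φ, hf, rfl⟩ := exists_flag_of_mem h01 hA
    exact TS_ne_bot hf.2.2 hf.1 hf.2.1
  · intro A hA B hB
    obtain ⟨u, φ, hf, rfl⟩ := exists_flag_of_mem h01 hA
    obtain ⟨v, ψ, hg, rfl⟩ := exists_flag_of_mem h01 hB
    exact tv_pair h01 h02 h12 hf hg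

theorem tv_isConjClass (i0 i1 : ι) : IsConjClassOfSubgroups (tvClass k i0 i1) := by
  refine ⟨⟨_, 1, (conjBy_one _).symm⟩, ?_⟩
  rintro A ⟨g, rfl⟩ B ⟨h, rfl⟩
  refine ⟨h * g⁻¹, ?_⟩
  rw [conjBy_conjBy, mul_assoc, inv_mul_cancel, mul_one]

theorem tv_rankOne_example {i0 i1 i2 : ι} (h01 : i0 ≠ i1) (h02 : i0 ≠ i2) (h12 : i1 ≠ i2) :
    ∃ A ∈ tvClass k i0 i1, ∃ B ∈ tvClass k i0 i1, IsRankOnePair A B := by
  have f1 := single_flag (k := k) h01
  have f2 := single_flag (k := k) (Ne.symm h01)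
  refine ⟨_, flag_mem_tvClass h01 h02 h12 f1, _, flag_mem_tvClass h01 h02 h12 f2, ?_⟩
  refine (TS_rankOne_psl2 f1.2.2 f2.2.2 ?_ ?_).1
  · rw [single_dotProduct, one_mul, Pi.single_eq_same]; exact one_ne_zero
  · rw [single_dotProduct, one_mul, Pi.single_eq_same]; exact one_ne_zero

theorem TS_ne_of_axis {u φ ψ : ι → k} (hf : IsFlag u φ) (hg : IsFlag u ψ) {w : ι → k}
    (h1 : φ ⬝ᵥ w ≠ 0) (h2 : ψ ⬝ᵥ w = 0) : TS u φ ≠ TS u ψ := by
  intro h
  have h3 := tvSL_mem_TS u φ hf.2.2 1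
  rw [h, mem_TS hg.2.2] at h3
  obtain ⟨c, hc⟩ := h3
  have h4 := congrArg (fun x : Matrix.SpecialLinearGroup ι k => (x : Matrix ι ι k) *ᵥ w) hc
  simp only [tvSL_coe, tvm_mulVec, h2, mul_zero, zero_smul, add_zero, one_mul] at h4
  have h5 : (φ ⬝ᵥ w) • u = 0 := by
    have := congrArg (fun x => x - w) h4
    simpa using this
  rcases smul_eq_zero.1 h5 with h6 | h6
  · exact h1 h6
  · exact hf.1 h6

theorem tv_nondegenerate {i0 i1 i2 : ι} (h01 : i0 ≠ i1) (h02 : i0 ≠ i2) (h12 : i1 ≠ i2) :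
    IsNondegenerateRootSet (tvClass k i0 i1) := by
  have f01 := single_flag (k := k) h01
  have f02 := single_flag (k := k) h02
  have f12 := single_flag (k := k) h12
  have m01 := flag_mem_tvClass (k := k) h01 h02 h12 f01
  have m02 := flag_mem_tvClass (k := k) h01 h02 h12 f02
  have m12 := flag_mem_tvClass (k := k) h01 h02 h12 f12
  refine ⟨⟨_, m01, _, m02, ?_, ?_⟩, tv_rankOne_example h01 h02 h12, ⟨_, m12, _, m01, ?_⟩⟩
  · apply TS_ne_of_axis f01 f02 (w := Pi.single i1 1)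
    · rw [single_dotProduct, one_mul, Pi.single_eq_same]; exact one_ne_zero
    · rw [single_dotProduct, one_mul, Pi.single_eq_of_ne (Ne.symm h12)]
  · apply TS_commutator_eq_bot f01.2.2 f02.2.2
    · exact f01.2.2
    · exact f02.2.2
  · -- `(u, φ) = (e₁, e₂)`, `(v, ψ) = (e₀, e₁)`
    apply TS_commutatorCase f12.2.2 f01.2.2 ?_ ?_ f12.1 f12.2.1 f01.1 f01.2.1
    · exact flag_mem_tvClass h01 h02 h12 f02
    · exact f02.2.2
    · rw [single_dotProduct, one_mul, Pi.single_eq_same]; exact one_ne_zero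

theorem tv_kRoot {i0 i1 i2 : ι} (h01 : i0 ≠ i1) (h02 : i0 ≠ i2) (h12 : i1 ≠ i2) :
    IsKRootSubgroupSet k (tvClass k i0 i1) := by
  have hS := tv_isRootSubgroupSet (k := k) h01 h02 h12
  refine ⟨hS, ?_⟩
  intro A hA B hB hr
  obtain ⟨u, φ, hf, rfl⟩ := exists_flag_of_mem h01 hA
  obtain ⟨v, ψ, hg, rfl⟩ := exists_flag_of_mem h01 hB
  by_cases h1 : φ ⬝ᵥ v = 0
  · by_cases h2 : ψ ⬝ᵥ u = 0
    · exact absurd (le_centralizer_of_commute (TS_commute hf.2.2 hg.2.2 h1 h2))
        (rankOne_not_le_centralizer hr)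
    · exfalso
      apply rankOne_commutator_not_mem hS hA hB hr
      rw [TS_commutator hf.2.2 hg.2.2 h1 h2]
      exact flag_mem_tvClass h01 h02 h12 ⟨hg.1, hf.2.1, h1⟩
  · by_cases h2 : ψ ⬝ᵥ u = 0
    · exfalso
      apply rankOne_commutator_not_mem hS hA hB hr
      rw [Subgroup.commutator_comm, TS_commutator hg.2.2 hf.2.2 h2 h1]
      exact flag_mem_tvClass h01 h02 h12 ⟨hf.1, hg.2.1, h2⟩
    · exact (TS_rankOne_psl2 hf.2.2 hg.2.2 h1 h2).2

theorem tv_connected {i0 i1 i2 : ι} (h01 : i0 ≠ i1) (h02 : i0 ≠ i2) (h12 : i1 ≠ i2) :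
    IsConnectedFamily (FAdj (tvClass k i0 i1)) (tvClass k i0 i1) :=
  connected_of_conjClass (tv_isRootSubgroupSet h01 h02 h12) (tv_isConjClass i0 i1)
    (tv_rankOne_example h01 h02 h12)

theorem tvm_single (i j : ι) (c : k) :
    tvm (Pi.single i (1 : k)) (Pi.single j (1 : k)) c = Matrix.transvection i j c := by
  unfold Matrix.transvection tvm
  rw [← single_eq_single_vecMulVec_single, smul_single, smul_eq_mul, mul_one]

/-- the class of the statement -/
theorem tvClass_eq (i0 i1 : ι) :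
    {A : Subgroup (Matrix.SpecialLinearGroup ι k) | ∃ g : Matrix.SpecialLinearGroup ι k,
      A = conjBy (Subgroup.closure {t : Matrix.SpecialLinearGroup ι k |
        ∃ c : k, (t : Matrix ι ι k) = Matrix.transvection i0 i1 c}) g} = tvClass k i0 i1 := by
  have h : {t : Matrix.SpecialLinearGroup ι k |
      ∃ c : k, (t : Matrix ι ι k) = Matrix.transvection i0 i1 c} =
      {g : Matrix.SpecialLinearGroup ι k |
        ∃ c : k, (g : Matrix ι ι k) = tvm (Pi.single i0 (1 : k)) (Pi.single i1 (1 : k)) c} := by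
    ext t
    simp only [Set.mem_setOf_eq, tvm_single]
  rw [h]
  rfl

/-- all four properties of the class of transvection subgroups -/
theorem tv_all {i0 i1 i2 : ι} (h01 : i0 ≠ i1) (h02 : i0 ≠ i2) (h12 : i1 ≠ i2)
    (S : Set (Subgroup (Matrix.SpecialLinearGroup ι k))) (hS : S = tvClass k i0 i1) :
    IsRootSubgroupClass S ∧ IsNondegenerateRootSet S ∧ IsKRootSubgroupSet k S ∧
      IsConnectedFamily (FAdj S) S := by
  subst hS
  exact ⟨⟨tv_isRootSubgroupSet h01 h02 h12, tv_isConjClass i0 i1⟩, tv_nondegenerate h01 h02 h12,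
    tv_kRoot h01 h02 h12, tv_connected h01 h02 h12⟩

end Cfsg.Agent.Helper94.Tv
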