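import Mathlib
import Cfsg.Prelude.Def_RootSubgroups
import Cfsg.Agent.Lib.Helper94.TvRoot

set_option autoImplicit false

namespace Cfsg.Agent.Helper94.Tv

open Cfsg Cfsg.Agent.Helper83 Cfsg.Agent.Helper94 Matrix

variable {ι : Type*} [Fintype ι] [DecidableEq ι] {k : Type*} [Field k]

/-- the set of transvections (as elements): conjugates of `1 + c E_{i0 i1}`, `c ≠ 0` -/
def tvElts (k : Type*) [Field k] (i0 i1 : ι) : Set (Matrix.SpecialLinearGroup ι k) :=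
  {t | ∃ c : k, c ≠ 0 ∧ ∃ g : Matrix.SpecialLinearGroup ι k,
    ((g⁻¹ * t * g : Matrix.SpecialLinearGroup ι k) : Matrix ι ι k) = Matrix.transvection i0 i1 c}

theorem conj_flag (g : Matrix.SpecialLinearGroup ι k) (u φ : ι → k) :
    (φ ᵥ* ((g⁻¹ : Matrix.SpecialLinearGroup ι k) : Matrix ι ι k)) ⬝ᵥ ((g : Matrix ι ι k) *ᵥ u) =
      φ ⬝ᵥ u := by
  rw [dotProduct_mulVec, vecMul_vecMul, coe_inv_mul_coe, vecMul_one]

theorem conj_tvSL (g : Matrix.SpecialLinearGroup ι k) {u φ : ι → k} (h : φ ⬝ᵥ u = 0) (c : k) :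
    g * tvSL u φ h c * g⁻¹ =
      tvSL ((g : Matrix ι ι k) *ᵥ u)
        (φ ᵥ* ((g⁻¹ : Matrix.SpecialLinearGroup ι k) : Matrix ι ι k))
        ((conj_flag g u φ).trans h) c := by
  apply Subtype.ext
  show ((g * tvSL u φ h c * g⁻¹ : Matrix.SpecialLinearGroup ι k) : Matrix ι ι k) = tvm _ _ c
  rw [Matrix.SpecialLinearGroup.coe_mul, Matrix.SpecialLinearGroup.coe_mul, tvSL_coe,
    mul_tvm_mul u φ c (coe_mul_coe_inv g)]

theorem tvSL_rescale {u φ : ι → k} (h : φ ⬝ᵥ u = 0) (c : k) :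
    tvSL u φ h c = tvSL (c • u) φ (by rw [dotProduct_smul, h, smul_zero]) 1 := by
  apply Subtype.ext
  show tvm u φ c = tvm (c • u) φ 1
  have := tvm_smul_smul u φ c 1 1
  rw [one_smul, mul_one, mul_one] at this
  exact this.symm

theorem transvection_coe_eq {i0 i1 : ι} (h01 : i0 ≠ i1) {s : Matrix.SpecialLinearGroup ι k} {c : k}
    (hs : (s : Matrix ι ι k) = Matrix.transvection i0 i1 c) :
    s = tvSL (Pi.single i0 (1 : k)) (Pi.single i1 (1 : k)) (single_flag h01).2.2 c := by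
  apply Subtype.ext
  rw [hs]
  exact (tvm_single i0 i1 c).symm

/-- membership in the element class via the subgroup class -/
theorem mem_tvElts_iff {i0 i1 : ι} (h01 : i0 ≠ i1) {t : Matrix.SpecialLinearGroup ι k} :
    t ∈ tvElts k i0 i1 ↔ t ≠ 1 ∧ ∃ A ∈ tvClass k i0 i1, t ∈ A := by
  have hf := single_flag (k := k) h01
  constructor
  · rintro ⟨c, hc, g, hg⟩
    have h1 := transvection_coe_eq h01 hg
    have h2 : t = g * tvSL (Pi.single i0 (1 : k)) (Pi.single i1 (1 : k)) hf.2.2 c * g⁻¹ := by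
      rw [← h1]; group
    constructor
    · intro ht
      rw [ht, mul_one, inv_mul_cancel] at h1
      exact hc ((tvSL_eq_one_iff hf.2.2 hf.1 hf.2.1).1 h1.symm)
    · refine ⟨_, ⟨g, rfl⟩, ?_⟩
      rw [h2]
      exact ⟨_, tvSL_mem_TS _ _ _ c, rfl⟩
  · rintro ⟨ht, A, ⟨g, rfl⟩, hmem⟩
    obtain ⟨s, hs, rfl⟩ := hmem
    obtain ⟨c, rfl⟩ := (mem_TS hf.2.2).1 hs
    refine ⟨c, ?_, g, ?_⟩
    · rintro rfl
      apply ht
      rw [tvSL_zero]
      simp
    · show ((g⁻¹ * (g * tvSL _ _ hf.2.2 c * g⁻¹) * g : Matrix.SpecialLinearGroup ι k) :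
        Matrix ι ι k) = _
      have : g⁻¹ * (g * tvSL (Pi.single i0 (1 : k)) (Pi.single i1 (1 : k)) hf.2.2 c * g⁻¹) * g =
          tvSL (Pi.single i0 (1 : k)) (Pi.single i1 (1 : k)) hf.2.2 c := by group
      rw [this, tvSL_coe, tvm_single]

theorem tvSL_mem_tvElts {i0 i1 i2 : ι} (h01 : i0 ≠ i1) (h02 : i0 ≠ i2) (h12 : i1 ≠ i2)
    {u φ : ι → k} (hf : IsFlag u φ) {c : k} (hc : c ≠ 0) :
    tvSL u φ hf.2.2 c ∈ tvElts k i0 i1 := by
  rw [mem_tvElts_iff h01]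
  refine ⟨?_, _, flag_mem_tvClass h01 h02 h12 hf, tvSL_mem_TS _ _ _ _⟩
  intro h
  exact hc ((tvSL_eq_one_iff hf.2.2 hf.1 hf.2.1).1 h)

theorem exists_flag_of_mem_tvElts {i0 i1 : ι} (h01 : i0 ≠ i1) {t : Matrix.SpecialLinearGroup ι k}
    (ht : t ∈ tvElts k i0 i1) : ∃ (u φ : ι → k) (hf : IsFlag u φ), t = tvSL u φ hf.2.2 1 := by
  obtain ⟨ht1, A, hA, htA⟩ := (mem_tvElts_iff h01).1 ht
  obtain ⟨u, φ, hf, rfl⟩ := exists_flag_of_mem h01 hA
  obtain ⟨c, rfl⟩ := (mem_TS hf.2.2).1 htA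
  have hc : c ≠ 0 := fun h => ht1 ((tvSL_eq_one_iff hf.2.2 hf.1 hf.2.1).2 h)
  refine ⟨c • u, φ, ⟨smul_ne_zero hc hf.1, hf.2.1, by rw [dotProduct_smul, hf.2.2, smul_zero]⟩, ?_⟩
  exact tvSL_rescale hf.2.2 c

theorem conj_mem_tvElts {i0 i1 : ι} {t : Matrix.SpecialLinearGroup ι k} (ht : t ∈ tvElts k i0 i1)
    (g : Matrix.SpecialLinearGroup ι k) : g * t * g⁻¹ ∈ tvElts k i0 i1 := by
  obtain ⟨c, hc, h, hh⟩ := ht
  refine ⟨c, hc, g * h, ?_⟩
  have : (g * h)⁻¹ * (g * t * g⁻¹) * (g * h) = h⁻¹ * t * h := by group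
  rw [this, hh]


/-- the diagonal matrices `diag(a at i, a⁻¹ at j, 1)` multiply to one -/
theorem diag2n_mul_inv {i j : ι} (hij : i ≠ j) (a : k) (ha : a ≠ 0) :
    Matrix.SpecialLinearGroup.diag2n hij a ha *
      Matrix.SpecialLinearGroup.diag2n hij a⁻¹ (inv_ne_zero ha) = 1 := by
  apply Subtype.ext
  show ((Matrix.SpecialLinearGroup.diag2n hij a ha *
      Matrix.SpecialLinearGroup.diag2n hij a⁻¹ (inv_ne_zero ha) : Matrix.SpecialLinearGroup ι k) :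
      Matrix ι ι k) = ((1 : Matrix.SpecialLinearGroup ι k) : Matrix ι ι k)
  rw [Matrix.SpecialLinearGroup.coe_mul, Matrix.SpecialLinearGroup.coe_one]
  show (Matrix.SpecialLinearGroup.diag2n hij a ha).1 *
    (Matrix.SpecialLinearGroup.diag2n hij a⁻¹ (inv_ne_zero ha)).1 = 1
  rw [Matrix.SpecialLinearGroup.diag2n_coe, Matrix.SpecialLinearGroup.diag2n_coe,
    diagonal_mul_diagonal, ← diagonal_one]
  congr 1
  funext l
  by_cases h1 : l = i
  · simp [h1, ha]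
  · by_cases h2 : l = j
    · simp [h2, hij.symm, ha]
    · simp [h1, h2]

/-- standard transvections with different parameters are conjugate when there is a third index -/
theorem conj_standard {i0 i1 i2 : ι} (h01 : i0 ≠ i1) (h02 : i0 ≠ i2) (h12 : i1 ≠ i2) {c d : k}
    (hc : c ≠ 0) (hd : d ≠ 0) :
    ∃ g : Matrix.SpecialLinearGroup ι k,
      tvSL (Pi.single i0 (1 : k)) (Pi.single i1 (1 : k)) (single_flag h01).2.2 d =
        g * tvSL (Pi.single i0 (1 : k)) (Pi.single i1 (1 : k)) (single_flag h01).2.2 c * g⁻¹ := by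
  have hdc : d / c ≠ 0 := div_ne_zero hd hc
  refine ⟨Matrix.SpecialLinearGroup.diag2n h02 (d / c) hdc, ?_⟩
  have hinv : (Matrix.SpecialLinearGroup.diag2n h02 (d / c) hdc)⁻¹ =
      Matrix.SpecialLinearGroup.diag2n h02 (d / c)⁻¹ (inv_ne_zero hdc) :=
    inv_eq_of_mul_eq_one_right (diag2n_mul_inv h02 _ hdc)
  rw [conj_tvSL]
  apply Subtype.ext
  show tvm _ _ d = tvm _ _ c
  rw [hinv]
  show tvm _ _ d = tvm ((Matrix.SpecialLinearGroup.diag2n h02 (d / c) hdc).1 *ᵥ _)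
    (_ ᵥ* (Matrix.SpecialLinearGroup.diag2n h02 (d / c)⁻¹ (inv_ne_zero hdc)).1) c
  rw [Matrix.SpecialLinearGroup.diag2n_coe, Matrix.SpecialLinearGroup.diag2n_coe,
    diagonal_mulVec_single, single_vecMul_diagonal]
  simp only [if_true, if_neg h01.symm, if_neg h12, mul_one, one_mul]
  have e1 : (Pi.single i0 (d / c) : ι → k) = (d / c) • Pi.single i0 (1 : k) := by
    rw [← Pi.single_smul, smul_eq_mul, mul_one]
  rw [e1]
  have := tvm_smul_smul (Pi.single i0 (1 : k)) (Pi.single i1 (1 : k)) (d / c) 1 c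
  rw [one_smul, mul_one, div_mul_cancel₀ d hc] at this
  exact this.symm

/-- the transvections form a single conjugacy class -/
theorem tvElts_conj {i0 i1 i2 : ι} (h01 : i0 ≠ i1) (h02 : i0 ≠ i2) (h12 : i1 ≠ i2)
    {a b : Matrix.SpecialLinearGroup ι k} (ha : a ∈ tvElts k i0 i1) (hb : b ∈ tvElts k i0 i1) :
    ∃ g : Matrix.SpecialLinearGroup ι k, b = g * a * g⁻¹ := by
  obtain ⟨c, hc, g, hg⟩ := ha
  obtain ⟨d, hd, h, hh⟩ := hb
  have h1 := transvection_coe_eq h01 hg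
  have h2 := transvection_coe_eq h01 hh
  obtain ⟨δ, hδ⟩ := conj_standard (k := k) h01 h02 h12 hc hd
  refine ⟨h * δ * g⁻¹, ?_⟩
  have e1 : b = h * (h⁻¹ * b * h) * h⁻¹ := by group
  rw [e1, h2, hδ, ← h1]
  group


/-! ### characteristic two: transvections are involutions -/

theorem tvSL_sq [CharP k 2] {u φ : ι → k} (h : φ ⬝ᵥ u = 0) (c : k) :
    tvSL u φ h c * tvSL u φ h c = 1 := by
  rw [tvSL_mul, CharTwo.add_self_eq_zero, tvSL_zero]

theorem tvSL_inv_char_two [CharP k 2] {u φ : ι → k} (h : φ ⬝ᵥ u = 0) (c : k) :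
    (tvSL u φ h c)⁻¹ = tvSL u φ h c :=
  inv_eq_of_mul_eq_one_right (tvSL_sq h c)

theorem orderOf_tvSL [CharP k 2] {u φ : ι → k} (hf : IsFlag u φ) {c : k} (hc : c ≠ 0) :
    orderOf (tvSL u φ hf.2.2 c) = 2 := by
  apply orderOf_eq_prime
  · rw [pow_two, tvSL_sq]
  · intro h
    exact hc ((tvSL_eq_one_iff hf.2.2 hf.1 hf.2.1).1 h)

/-- generation by the transvections -/
theorem tvElts_generate {i0 i1 i2 : ι} (h01 : i0 ≠ i1) (h02 : i0 ≠ i2) (h12 : i1 ≠ i2) :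
    Subgroup.closure (tvElts k i0 i1) = ⊤ := by
  rw [eq_top_iff, ← tv_generates (k := k) h01 h02 h12]
  apply iSup₂_le
  intro A hA t ht
  by_cases h1 : t = 1
  · rw [h1]; exact Subgroup.one_mem _
  · exact Subgroup.subset_closure ((mem_tvElts_iff h01).2 ⟨h1, A, hA, ht⟩)

/-! ### products of two transvections -/

/-- in a group, if `a`, `b` are involutions and `z = (ab)^m` is an involution (or trivial), then `z`
commutes with `a` and `b` -/
theorem commute_pow_of_involutions {G : Type*} [Group G] {a b : G} (ha : a * a = 1)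
    (hb : b * b = 1) (m : ℕ) (hz : ((a * b) ^ m) ^ 2 = 1) :
    Commute ((a * b) ^ m) a ∧ Commute ((a * b) ^ m) b := by
  have ha' : a⁻¹ = a := inv_eq_of_mul_eq_one_right ha
  have hb' : b⁻¹ = b := inv_eq_of_mul_eq_one_right hb
  have hzi : ((a * b) ^ m)⁻¹ = (a * b) ^ m := inv_eq_of_mul_eq_one_right (by rw [← pow_two, hz])
  have h1 : a * (a * b) * a⁻¹ = (a * b)⁻¹ := by
    rw [_root_.mul_inv_rev, ha', hb', ← mul_assoc, ha, one_mul]
  have h2 : b⁻¹ * (a * b) * b⁻¹⁻¹ = (a * b)⁻¹ := by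
    rw [_root_.mul_inv_rev, inv_inv, ha', hb', mul_assoc, mul_assoc, hb, mul_one]
  constructor
  · have := conj_pow (a := a) (b := a * b) (i := m)
    rw [h1, inv_pow, hzi] at this
    -- this : (a*b)^m = a * (a*b)^m * a⁻¹
    show (a * b) ^ m * a = a * (a * b) ^ m
    calc (a * b) ^ m * a = (a * (a * b) ^ m * a⁻¹) * a := by rw [← this]
      _ = a * (a * b) ^ m := by group
  · have := conj_pow (a := b⁻¹) (b := a * b) (i := m)
    rw [h2, inv_pow, hzi, inv_inv, hb'] at this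
    -- this : (a*b)^m = b * (a*b)^m * b
    show (a * b) ^ m * b = b * (a * b) ^ m
    calc (a * b) ^ m * b = (b * (a * b) ^ m * b) * b := by rw [← this]
      _ = b * (a * b) ^ m := by rw [mul_assoc, hb, mul_one]

/-- a matrix fixing `u`, `v` and the common kernel of `φ`, `ψ` is the identity -/
theorem eq_one_of_fix {u φ v ψ : ι → k} (hα : φ ⬝ᵥ v ≠ 0) (hβ : ψ ⬝ᵥ u ≠ 0) (hu : φ ⬝ᵥ u = 0)
    (hv : ψ ⬝ᵥ v = 0) (Z : Matrix ι ι k) (hZu : Z *ᵥ u = u) (hZv : Z *ᵥ v = v)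
    (hZK : ∀ w, φ ⬝ᵥ w = 0 → ψ ⬝ᵥ w = 0 → Z *ᵥ w = w) : Z = 1 := by
  rw [Matrix.ext_iff_mulVec]
  intro w
  rw [one_mulVec]
  set s : k := (ψ ⬝ᵥ w) / (ψ ⬝ᵥ u) with hs
  set t : k := (φ ⬝ᵥ w) / (φ ⬝ᵥ v) with ht
  set r : ι → k := w - s • u - t • v with hr
  have h1 : φ ⬝ᵥ r = 0 := by
    rw [hr, dotProduct_sub, dotProduct_sub, dotProduct_smul, dotProduct_smul, hu, smul_zero,
      sub_zero, ht, smul_eq_mul, div_mul_cancel₀ _ hα, sub_self]
  have h2 : ψ ⬝ᵥ r = 0 := by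
    rw [hr, dotProduct_sub, dotProduct_sub, dotProduct_smul, dotProduct_smul, hv, smul_zero,
      sub_zero, hs, smul_eq_mul, div_mul_cancel₀ _ hβ, sub_self]
  have hw : w = r + s • u + t • v := by rw [hr]; abel
  rw [hw, mulVec_add, mulVec_add, mulVec_smul, mulVec_smul, hZu, hZv, hZK r h1 h2]

/-- if `Z` commutes with the transvection `1 + uφ` and `φ(v) ≠ 0`, then `u` is an eigenvector -/
theorem eigen_of_commute {u φ v : ι → k} (hα : φ ⬝ᵥ v ≠ 0) (Z : Matrix ι ι k)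
    (hZ : Z * tvm u φ 1 = tvm u φ 1 * Z) : ∃ l : k, Z *ᵥ u = l • u := by
  have h1 := congrArg (fun M : Matrix ι ι k => M *ᵥ v) hZ
  simp only [← mulVec_mulVec, tvm_mulVec, one_mul, mulVec_add, mulVec_smul] at h1
  have h2 : (φ ⬝ᵥ v) • Z *ᵥ u = (φ ⬝ᵥ Z *ᵥ v) • u := add_left_cancel h1
  refine ⟨(φ ⬝ᵥ Z *ᵥ v) / (φ ⬝ᵥ v), ?_⟩
  rw [div_eq_inv_mul, ← smul_smul, ← h2, smul_smul, inv_mul_cancel₀ hα, one_smul]

/-- an involutory matrix in characteristic two has only the eigenvalue one -/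
theorem eigen_eq_one [CharP k 2] {u : ι → k} (hu : u ≠ 0) {Z : Matrix ι ι k} (hZ2 : Z * Z = 1)
    {l : k} (hl : Z *ᵥ u = l • u) : Z *ᵥ u = u := by
  have h1 : (Z * Z) *ᵥ u = (l * l) • u := by
    rw [← mulVec_mulVec, hl, mulVec_smul, hl, smul_smul]
  rw [hZ2, one_mulVec] at h1
  have h2 : (l * l - 1) • u = 0 := by rw [sub_smul, one_smul, ← h1, sub_self]
  rcases smul_eq_zero.1 h2 with h3 | h3
  · have h4 : (l + 1) ^ 2 = 0 := by
      rw [CharTwo.add_sq, one_pow, pow_two, ← CharTwo.sub_eq_add, h3]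
    have h5 : l + 1 = 0 := pow_eq_zero_iff (two_ne_zero) |>.1 h4
    have h6 : l = 1 := by
      rw [← CharTwo.sub_eq_add, sub_eq_zero] at h5
      exact h5
    rw [hl, h6, one_smul]
  · exact absurd h3 hu

theorem pow_fix_kernel {u φ v ψ : ι → k} (m : ℕ) (w : ι → k) (h1 : φ ⬝ᵥ w = 0)
    (h2 : ψ ⬝ᵥ w = 0) : (tvm u φ 1 * tvm v ψ 1) ^ m *ᵥ w = w := by
  induction m with
  | zero => rw [pow_zero, one_mulVec]
  | succ m ih =>
    have e : (tvm u φ 1 * tvm v ψ 1) *ᵥ w = w := by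
      rw [← mulVec_mulVec, tvm_mulVec v ψ, h2, mul_zero, zero_smul, add_zero, tvm_mulVec, h1,
        mul_zero, zero_smul, add_zero]
    rw [pow_succ, ← mulVec_mulVec, e, ih]


/-- a power of the product of two "hyperbolic" transvections which is an involution is trivial -/
theorem pow_eq_one_of_sq [CharP k 2] {u φ v ψ : ι → k} (hf : IsFlag u φ) (hg : IsFlag v ψ)
    (hα : φ ⬝ᵥ v ≠ 0) (hβ : ψ ⬝ᵥ u ≠ 0) (m : ℕ)
    (hz : ((tvSL u φ hf.2.2 1 * tvSL v ψ hg.2.2 1) ^ m) ^ 2 = 1) :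
    (tvSL u φ hf.2.2 1 * tvSL v ψ hg.2.2 1) ^ m = 1 := by
  obtain ⟨c1, c2⟩ := commute_pow_of_involutions (tvSL_sq hf.2.2 1) (tvSL_sq hg.2.2 1) m hz
  set z := (tvSL u φ hf.2.2 1 * tvSL v ψ hg.2.2 1) ^ m with hzdef
  have hZ : (z : Matrix ι ι k) = (tvm u φ 1 * tvm v ψ 1) ^ m := by
    rw [hzdef, Matrix.SpecialLinearGroup.coe_pow, Matrix.SpecialLinearGroup.coe_mul, tvSL_coe,
      tvSL_coe]
  have hZ2 : (z : Matrix ι ι k) * (z : Matrix ι ι k) = 1 := by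
    rw [← Matrix.SpecialLinearGroup.coe_mul, ← pow_two, hz, Matrix.SpecialLinearGroup.coe_one]
  have hc1 : (z : Matrix ι ι k) * tvm u φ 1 = tvm u φ 1 * (z : Matrix ι ι k) := by
    have := congrArg (fun x : Matrix.SpecialLinearGroup ι k => (x : Matrix ι ι k)) c1.eq
    simpa only [Matrix.SpecialLinearGroup.coe_mul, tvSL_coe] using this
  have hc2 : (z : Matrix ι ι k) * tvm v ψ 1 = tvm v ψ 1 * (z : Matrix ι ι k) := by
    have := congrArg (fun x : Matrix.SpecialLinearGroup ι k => (x : Matrix ι ι k)) c2.eq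
    simpa only [Matrix.SpecialLinearGroup.coe_mul, tvSL_coe] using this
  obtain ⟨l1, hl1⟩ := eigen_of_commute hα _ hc1
  obtain ⟨l2, hl2⟩ := eigen_of_commute hβ _ hc2
  have hu1 := eigen_eq_one hf.1 hZ2 hl1
  have hv1 := eigen_eq_one hg.1 hZ2 hl2
  have hone : (z : Matrix ι ι k) = 1 := by
    apply eq_one_of_fix hα hβ hf.2.2 hg.2.2 _ hu1 hv1
    intro w h1 h2
    rw [hZ]
    exact pow_fix_kernel m w h1 h2
  apply Subtype.ext
  rw [hone, Matrix.SpecialLinearGroup.coe_one]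

/-- the product of two "hyperbolic" transvections has odd order -/
theorem odd_orderOf_mul [CharP k 2] [Finite k] {u φ v ψ : ι → k} (hf : IsFlag u φ)
    (hg : IsFlag v ψ) (hα : φ ⬝ᵥ v ≠ 0) (hβ : ψ ⬝ᵥ u ≠ 0) :
    Odd (orderOf (tvSL u φ hf.2.2 1 * tvSL v ψ hg.2.2 1)) := by
  by_contra hodd
  rw [Nat.not_odd_iff_even] at hodd
  obtain ⟨m, hm⟩ := hodd
  have hpos : 0 < orderOf (tvSL u φ hf.2.2 1 * tvSL v ψ hg.2.2 1) := orderOf_pos _
  have hm0 : m ≠ 0 := by omega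
  have hlt : m < orderOf (tvSL u φ hf.2.2 1 * tvSL v ψ hg.2.2 1) := by omega
  have hz : ((tvSL u φ hf.2.2 1 * tvSL v ψ hg.2.2 1) ^ m) ^ 2 = 1 := by
    rw [← pow_mul, mul_two, ← hm, pow_orderOf_eq_one]
  exact pow_ne_one_of_lt_orderOf hm0 hlt (pow_eq_one_of_sq hf hg hα hβ m hz)

/-- the mixed case: the product has order four and its square is a transvection -/
theorem order_four_case [CharP k 2] {u φ v ψ : ι → k} (hf : IsFlag u φ) (hg : IsFlag v ψ)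
    (hα : φ ⬝ᵥ v = 0) (hβ : ψ ⬝ᵥ u ≠ 0) :
    orderOf (tvSL u φ hf.2.2 1 * tvSL v ψ hg.2.2 1) = 4 ∧
      (tvSL u φ hf.2.2 1 * tvSL v ψ hg.2.2 1) ^ 2 = tvSL v φ hα (ψ ⬝ᵥ u) := by
  have hsq : (tvSL u φ hf.2.2 1 * tvSL v ψ hg.2.2 1) ^ 2 = tvSL v φ hα (ψ ⬝ᵥ u) := by
    have h1 := tvSL_commutator hf.2.2 hg.2.2 hα 1 1
    rw [tvSL_inv_char_two, tvSL_inv_char_two, one_mul, one_mul, CharTwo.neg_eq] at h1
    rw [pow_two, ← h1]
    group
  refine ⟨?_, hsq⟩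
  have h4 : (4 : ℕ) = 2 ^ (1 + 1) := by norm_num
  rw [h4]
  have : Fact (Nat.Prime 2) := ⟨Nat.prime_two⟩
  apply orderOf_eq_prime_pow
  · rw [pow_one, hsq]
    intro h
    exact hβ ((tvSL_eq_one_iff hα hg.1 hf.2.1).1 h)
  · rw [pow_succ, pow_mul, pow_one, hsq, pow_two, tvSL_sq]


/-- the three cases for a pair of transvections in characteristic two -/
theorem tvElts_pair [CharP k 2] [Finite k] {i0 i1 i2 : ι} (h01 : i0 ≠ i1) (h02 : i0 ≠ i2)
    (h12 : i1 ≠ i2) {a b : Matrix.SpecialLinearGroup ι k} (ha : a ∈ tvElts k i0 i1)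
    (hb : b ∈ tvElts k i0 i1) :
    a * b = b * a ∨ Odd (orderOf (a * b)) ∨
      (orderOf (a * b) = 4 ∧ (a * b) ^ 2 ∈ tvElts k i0 i1) := by
  obtain ⟨u, φ, hf, rfl⟩ := exists_flag_of_mem_tvElts h01 ha
  obtain ⟨v, ψ, hg, rfl⟩ := exists_flag_of_mem_tvElts h01 hb
  by_cases hα : φ ⬝ᵥ v = 0
  · by_cases hβ : ψ ⬝ᵥ u = 0
    · exact Or.inl (tvSL_commute hf.2.2 hg.2.2 hα hβ 1 1)
    · right; right
      obtain ⟨h1, h2⟩ := order_four_case hf hg hα hβ
      refine ⟨h1, ?_⟩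
      rw [h2]
      exact tvSL_mem_tvElts h01 h02 h12 (u := v) (φ := φ) ⟨hg.1, hf.2.1, hα⟩ hβ
  · by_cases hβ : ψ ⬝ᵥ u = 0
    · right; right
      obtain ⟨h1, h2⟩ := order_four_case hg hf hβ hα
      have hsc : SemiconjBy (tvSL u φ hf.2.2 1) (tvSL v ψ hg.2.2 1 * tvSL u φ hf.2.2 1)
          (tvSL u φ hf.2.2 1 * tvSL v ψ hg.2.2 1) := by
        show _ * _ = _ * _
        rw [mul_assoc]
      refine ⟨by rw [← hsc.orderOf_eq, h1], ?_⟩
      have e : (tvSL u φ hf.2.2 1 * tvSL v ψ hg.2.2 1) ^ 2 =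
          tvSL u φ hf.2.2 1 * (tvSL v ψ hg.2.2 1 * tvSL u φ hf.2.2 1) ^ 2 *
            (tvSL u φ hf.2.2 1)⁻¹ := by
        rw [← conj_pow]
        congr 1
        group
      rw [e, h2]
      apply conj_mem_tvElts
      exact tvSL_mem_tvElts h01 h02 h12 (u := u) (φ := ψ) ⟨hf.1, hg.2.1, hβ⟩ hα
    · exact Or.inr (Or.inl (odd_orderOf_mul hf hg hα hβ))

/-- the transvections of `SL_ι(k)`, `k` finite of characteristic two, form a class of root
involutions -/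
theorem tvElts_rootInvolutionClass [CharP k 2] [Finite k] {i0 i1 i2 : ι} (h01 : i0 ≠ i1)
    (h02 : i0 ≠ i2) (h12 : i1 ≠ i2) : IsRootInvolutionClass (tvElts k i0 i1) := by
  refine ⟨⟨?_, tvElts_generate h01 h02 h12, fun d hd g => conj_mem_tvElts hd g,
    fun a ha b hb => tvElts_pair h01 h02 h12 ha hb⟩, ?_, fun a ha b hb => tvElts_conj h01 h02 h12 ha hb⟩
  · intro d hd
    obtain ⟨u, φ, hf, rfl⟩ := exists_flag_of_mem_tvElts h01 hd
    exact orderOf_tvSL hf one_ne_zero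
  · exact ⟨_, tvSL_mem_tvElts h01 h02 h12 (single_flag (k := k) h01) one_ne_zero⟩

theorem vec_add_self [CharP k 2] (x : ι → k) : x + x = 0 := by
  funext i
  exact CharTwo.add_self_eq_zero (x i)

/-- over the field with two elements the product of two hyperbolic transvections has order three -/
theorem cube_eq_one [CharP k 2] {u φ v ψ : ι → k} (hf : IsFlag u φ) (hg : IsFlag v ψ)
    (hα : φ ⬝ᵥ v = 1) (hβ : ψ ⬝ᵥ u = 1) :
    (tvSL u φ hf.2.2 1 * tvSL v ψ hg.2.2 1) ^ 3 = 1 := by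
  have huu : u + u = 0 := vec_add_self u
  have hXu : (tvm u φ 1 * tvm v ψ 1) *ᵥ u = v := by
    rw [← mulVec_mulVec, tvm_mulVec v ψ, hβ, mul_one, one_smul, tvm_mulVec, dotProduct_add, hf.2.2,
      hα, zero_add, mul_one, one_smul, add_comm u v, add_assoc, huu, add_zero]
  have hXv : (tvm u φ 1 * tvm v ψ 1) *ᵥ v = u + v := by
    rw [← mulVec_mulVec, tvm_mulVec v ψ, hg.2.2, mul_zero, zero_smul, add_zero, tvm_mulVec, hα,
      mul_one, one_smul, add_comm]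
  have h3 : ∀ w : ι → k, (tvm u φ 1 * tvm v ψ 1) ^ 3 *ᵥ w =
      (tvm u φ 1 * tvm v ψ 1) *ᵥ ((tvm u φ 1 * tvm v ψ 1) *ᵥ ((tvm u φ 1 * tvm v ψ 1) *ᵥ w)) := by
    intro w
    rw [pow_succ, pow_two, mulVec_mulVec, mulVec_mulVec]
  apply Subtype.ext
  rw [Matrix.SpecialLinearGroup.coe_pow, Matrix.SpecialLinearGroup.coe_mul, tvSL_coe, tvSL_coe,
    Matrix.SpecialLinearGroup.coe_one]
  have hα' : φ ⬝ᵥ v ≠ 0 := by rw [hα]; exact one_ne_zero
  have hβ' : ψ ⬝ᵥ u ≠ 0 := by rw [hβ]; exact one_ne_zero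
  apply eq_one_of_fix hα' hβ' hf.2.2 hg.2.2
  · rw [h3, hXu, hXv, mulVec_add, hXu, hXv, add_comm u v, ← add_assoc, vec_add_self,
      zero_add]
  · rw [h3, hXv, mulVec_add, hXu, hXv, add_comm u v, ← add_assoc, vec_add_self,
      zero_add, hXu]
  · intro w h1 h2
    exact pow_fix_kernel 3 w h1 h2

theorem eq_one_of_card_two [Fintype k] (hk : Fintype.card k = 2) {x : k} (hx : x ≠ 0) : x = 1 := by
  classical
  by_contra h1
  have h2 : ({0, 1, x} : Finset k).card ≤ Fintype.card k := Finset.card_le_univ _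
  have h3 : ({0, 1, x} : Finset k).card = 3 := by
    rw [Finset.card_insert_of_notMem, Finset.card_insert_of_notMem, Finset.card_singleton]
    · simpa using Ne.symm h1
    · simp only [Finset.mem_insert, Finset.mem_singleton, not_or]
      exact ⟨zero_ne_one, Ne.symm hx⟩
  omega

/-- over the field with two elements the transvections are `{3,4}⁺`-transpositions -/
theorem tvElts_threeFour [CharP k 2] [Fintype k] (hk : Fintype.card k = 2) {i0 i1 i2 : ι}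
    (h01 : i0 ≠ i1) (h02 : i0 ≠ i2) (h12 : i1 ≠ i2) :
    IsThreeFourPlusTranspositionSet (tvElts k i0 i1) := by
  refine ⟨(tvElts_rootInvolutionClass h01 h02 h12).1, ?_⟩
  intro a ha b hb hodd
  obtain ⟨u, φ, hf, rfl⟩ := exists_flag_of_mem_tvElts h01 ha
  obtain ⟨v, ψ, hg, rfl⟩ := exists_flag_of_mem_tvElts h01 hb
  by_cases hα : φ ⬝ᵥ v = 0
  · by_cases hβ : ψ ⬝ᵥ u = 0
    · left
      have hc := tvSL_commute hf.2.2 hg.2.2 hα hβ 1 1
      have h2 : (tvSL u φ hf.2.2 1 * tvSL v ψ hg.2.2 1) ^ 2 = 1 := by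
        rw [pow_two, mul_assoc, ← mul_assoc (tvSL v ψ hg.2.2 1), ← hc, mul_assoc, tvSL_sq, mul_one,
          tvSL_sq]
      have h3 := orderOf_dvd_of_pow_eq_one h2
      rcases (Nat.dvd_prime Nat.prime_two).1 h3 with h4 | h4
      · exact h4
      · rw [h4] at hodd
        exact absurd hodd (by decide)
    · exfalso
      rw [(order_four_case hf hg hα hβ).1] at hodd
      exact absurd hodd (by decide)
  · by_cases hβ : ψ ⬝ᵥ u = 0
    · exfalso
      have hsc : SemiconjBy (tvSL u φ hf.2.2 1) (tvSL v ψ hg.2.2 1 * tvSL u φ hf.2.2 1)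
          (tvSL u φ hf.2.2 1 * tvSL v ψ hg.2.2 1) := by
        show _ * _ = _ * _
        rw [mul_assoc]
      rw [← hsc.orderOf_eq, (order_four_case hg hf hβ hα).1] at hodd
      exact absurd hodd (by decide)
    · have h3 := orderOf_dvd_of_pow_eq_one
        (cube_eq_one hf hg (eq_one_of_card_two hk hα) (eq_one_of_card_two hk hβ))
      exact (Nat.dvd_prime Nat.prime_three).1 h3

end Cfsg.Agent.Helper94.Tv
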