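import Mathlib
import Cfsg.Agent.Lib.Helper92.U6Defs

/-!
# U6 server (helper92, S1684): piece TV1 `tv_mulVec`
-/

set_option autoImplicit false

namespace Cfsg.Agent.Helper94.U6

open Cfsg.Agent.Helper92.U6

theorem tv_mulVec (v x : Fin 6 → F) : (tv v).mulVec x = x + hf x v • v := by
  funext i
  simp only [tv, Matrix.add_mulVec, Matrix.one_mulVec, Pi.add_apply, Pi.smul_apply, smul_eq_mul]
  congr 1
  simp only [Matrix.mulVec, dotProduct, Matrix.vecMulVec_apply, hf, Cfsg.hermForm]
  rw [Finset.sum_mul]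
  apply Finset.sum_congr rfl
  intro j _
  ring

end Cfsg.Agent.Helper94.U6
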