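import Mathlib
import Cfsg.Prelude.Def_RootSubgroups

set_option autoImplicit false

namespace Cfsg.Agent.Helper94.Unip

variable {k : Type*} [Field k] {V : Type*} [AddCommGroup V] [Module k V]

local notation "GLV" => LinearMap.GeneralLinearGroup k V

/-- the action of an element of `GL(V)` on a vector -/
def ap (g : LinearMap.GeneralLinearGroup k V) (v : V) : V := (g : V →ₗ[k] V) v

theorem ap_mul (g h : LinearMap.GeneralLinearGroup k V) (v : V) : ap (g * h) v = ap g (ap h v) := by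
  unfold ap
  rw [Units.val_mul, Module.End.mul_apply]

theorem ap_one (v : V) : ap (1 : LinearMap.GeneralLinearGroup k V) v = v := by
  unfold ap
  rw [Units.val_one, Module.End.one_apply]

theorem ap_inv_ap (g : LinearMap.GeneralLinearGroup k V) (v : V) : ap g⁻¹ (ap g v) = v := by
  rw [← ap_mul, inv_mul_cancel, ap_one]

theorem ap_ap_inv (g : LinearMap.GeneralLinearGroup k V) (v : V) : ap g (ap g⁻¹ v) = v := by
  rw [← ap_mul, mul_inv_cancel, ap_one]

theorem ap_add (g : LinearMap.GeneralLinearGroup k V) (v w : V) : ap g (v + w) = ap g v + ap g w :=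
  map_add _ _ _

theorem ap_sub (g : LinearMap.GeneralLinearGroup k V) (v w : V) : ap g (v - w) = ap g v - ap g w :=
  map_sub _ _ _

theorem ap_neg (g : LinearMap.GeneralLinearGroup k V) (v : V) : ap g (-v) = -ap g v :=
  map_neg _ _

theorem ap_smul (g : LinearMap.GeneralLinearGroup k V) (c : k) (v : V) : ap g (c • v) = c • ap g v :=
  map_smul _ _ _

theorem ap_zero (g : LinearMap.GeneralLinearGroup k V) : ap g (0 : V) = 0 := map_zero _

/-- the setwise stabilizer of a subspace -/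
def stab (X : Submodule k V) : Subgroup (LinearMap.GeneralLinearGroup k V) where
  carrier := {g | (∀ x ∈ X, ap g x ∈ X) ∧ ∀ x ∈ X, ap g⁻¹ x ∈ X}
  mul_mem' := by
    rintro g h ⟨hg1, hg2⟩ ⟨hh1, hh2⟩
    refine ⟨fun x hx => ?_, fun x hx => ?_⟩
    · rw [ap_mul]; exact hg1 _ (hh1 _ hx)
    · rw [mul_inv_rev, ap_mul]; exact hh2 _ (hg2 _ hx)
  one_mem' := by
    refine ⟨fun x hx => ?_, fun x hx => ?_⟩
    · rwa [ap_one]
    · rwa [inv_one, ap_one]
  inv_mem' := by
    rintro g ⟨hg1, hg2⟩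
    refine ⟨hg2, fun x hx => ?_⟩
    rw [inv_inv]; exact hg1 x hx

theorem mem_stab {X : Submodule k V} {g : LinearMap.GeneralLinearGroup k V} :
    g ∈ stab X ↔ (∀ x ∈ X, ap g x ∈ X) ∧ ∀ x ∈ X, ap g⁻¹ x ∈ X := Iff.rfl

/-- the elements stabilizing `X` and acting trivially on `U` modulo `X` -/
def triv (X U : Submodule k V) : Subgroup (LinearMap.GeneralLinearGroup k V) where
  carrier := {g | g ∈ stab X ∧ ∀ u ∈ U, ap g u - u ∈ X}
  mul_mem' := by
    rintro g h ⟨hg1, hg2⟩ ⟨hh1, hh2⟩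
    refine ⟨(stab X).mul_mem hg1 hh1, fun u hu => ?_⟩
    have e : ap (g * h) u - u = ap g (ap h u - u) + (ap g u - u) := by
      rw [ap_mul, ap_sub]; abel
    rw [e]
    exact X.add_mem (hg1.1 _ (hh2 u hu)) (hg2 u hu)
  one_mem' := by
    refine ⟨(stab X).one_mem, fun u _ => ?_⟩
    rw [ap_one, sub_self]; exact X.zero_mem
  inv_mem' := by
    rintro g ⟨hg1, hg2⟩
    refine ⟨(stab X).inv_mem hg1, fun u hu => ?_⟩
    have e : ap g⁻¹ u - u = -ap g⁻¹ (ap g u - u) := by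
      rw [ap_sub, ap_inv_ap]; abel
    rw [e]
    exact X.neg_mem (hg1.2 _ (hg2 u hu))

theorem mem_triv {X U : Submodule k V} {g : LinearMap.GeneralLinearGroup k V} :
    g ∈ triv X U ↔ g ∈ stab X ∧ ∀ u ∈ U, ap g u - u ∈ X := Iff.rfl

theorem triv_le_stab (X U : Submodule k V) : triv X U ≤ stab X := fun _ h => h.1

theorem triv_anti {X U U' : Submodule k V} (h : U ≤ U') : triv X U' ≤ triv X U :=
  fun _ hg => ⟨hg.1, fun u hu => hg.2 u (h hu)⟩

theorem triv_sup (X U U' : Submodule k V) : triv X (U ⊔ U') = triv X U ⊓ triv X U' := by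
  apply le_antisymm
  · exact le_inf (triv_anti le_sup_left) (triv_anti le_sup_right)
  · rintro g ⟨h1, h2⟩
    refine ⟨h1.1, fun u hu => ?_⟩
    obtain ⟨a, ha, b, hb, rfl⟩ := Submodule.mem_sup.1 hu
    have e : ap g (a + b) - (a + b) = (ap g a - a) + (ap g b - b) := by rw [ap_add]; abel
    rw [e]
    exact X.add_mem (h1.2 a ha) (h2.2 b hb)

/-- elements of `triv X U` with `X ≤ U` stabilize `U` -/
theorem triv_le_stab_right {X U : Submodule k V} (hXU : X ≤ U) : triv X U ≤ stab U := by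
  intro g hg
  have hi := (triv X U).inv_mem hg
  refine ⟨fun u hu => ?_, fun u hu => ?_⟩
  · have := hXU (hg.2 u hu)
    have e : ap g u = (ap g u - u) + u := by abel
    rw [e]; exact U.add_mem this hu
  · have := hXU (hi.2 u hu)
    have e : ap g⁻¹ u = (ap g⁻¹ u - u) + u := by abel
    rw [e]; exact U.add_mem this hu

/-- the vectors of `Y` fixed by `K` modulo `X` -/
def fix (K : Subgroup (LinearMap.GeneralLinearGroup k V)) (X Y : Submodule k V) : Submodule k V where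
  carrier := {y | y ∈ Y ∧ ∀ g ∈ K, ap g y - y ∈ X}
  add_mem' := by
    rintro a b ⟨ha1, ha2⟩ ⟨hb1, hb2⟩
    refine ⟨Y.add_mem ha1 hb1, fun g hg => ?_⟩
    have e : ap g (a + b) - (a + b) = (ap g a - a) + (ap g b - b) := by rw [ap_add]; abel
    rw [e]; exact X.add_mem (ha2 g hg) (hb2 g hg)
  zero_mem' := by
    refine ⟨Y.zero_mem, fun g _ => ?_⟩
    rw [ap_zero, sub_self]; exact X.zero_mem
  smul_mem' := by
    rintro c a ⟨ha1, ha2⟩
    refine ⟨Y.smul_mem c ha1, fun g hg => ?_⟩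
    have e : ap g (c • a) - c • a = c • (ap g a - a) := by rw [ap_smul, smul_sub]
    rw [e]; exact X.smul_mem c (ha2 g hg)

theorem mem_fix {K : Subgroup (LinearMap.GeneralLinearGroup k V)} {X Y : Submodule k V} {y : V} :
    y ∈ fix K X Y ↔ y ∈ Y ∧ ∀ g ∈ K, ap g y - y ∈ X := Iff.rfl

theorem fix_le (K : Subgroup (LinearMap.GeneralLinearGroup k V)) (X Y : Submodule k V) :
    fix K X Y ≤ Y := fun _ h => h.1

theorem fix_anti {K K' : Subgroup (LinearMap.GeneralLinearGroup k V)} (h : K ≤ K')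
    (X Y : Submodule k V) : fix K' X Y ≤ fix K X Y :=
  fun _ hy => ⟨hy.1, fun g hg => hy.2 g (h hg)⟩

theorem le_fix {K : Subgroup (LinearMap.GeneralLinearGroup k V)} {X Y U : Submodule k V}
    (hUY : U ≤ Y) (hK : K ≤ triv X U) : U ≤ fix K X Y :=
  fun u hu => ⟨hUY hu, fun g hg => (hK hg).2 u hu⟩

theorem le_triv_fix {K : Subgroup (LinearMap.GeneralLinearGroup k V)} {X Y : Submodule k V}
    (hK : K ≤ stab X) : K ≤ triv X (fix K X Y) :=
  fun g hg => ⟨hK hg, fun _ hu => hu.2 g hg⟩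

theorem X_le_fix {K : Subgroup (LinearMap.GeneralLinearGroup k V)} {X Y : Submodule k V}
    (hXY : X ≤ Y) (hK : K ≤ stab X) : X ≤ fix K X Y := by
  intro x hx
  refine ⟨hXY hx, fun g hg => X.sub_mem ((hK hg).1 x hx) hx⟩


/-! ### unipotent action on a section -/

/-- the product of the endomorphisms `g - 1` -/
def dprod (l : List (LinearMap.GeneralLinearGroup k V)) : Module.End k V :=
  (l.map fun g : LinearMap.GeneralLinearGroup k V =>
    ((g : LinearMap.GeneralLinearGroup k V) : V →ₗ[k] V) - 1).prod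

theorem dprod_nil : dprod ([] : List (LinearMap.GeneralLinearGroup k V)) = 1 := rfl

theorem dprod_cons (g : LinearMap.GeneralLinearGroup k V)
    (l : List (LinearMap.GeneralLinearGroup k V)) :
    dprod (g :: l) = ((g : V →ₗ[k] V) - 1) * dprod l := by
  unfold dprod
  rw [List.map_cons, List.prod_cons]

theorem dprod_append (l₁ l₂ : List (LinearMap.GeneralLinearGroup k V)) :
    dprod (l₁ ++ l₂) = dprod l₁ * dprod l₂ := by
  unfold dprod
  rw [List.map_append, List.prod_append]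

theorem dprod_cons_apply (g : LinearMap.GeneralLinearGroup k V)
    (l : List (LinearMap.GeneralLinearGroup k V)) (v : V) :
    dprod (g :: l) v = ap g (dprod l v) - dprod l v := by
  rw [dprod_cons, Module.End.mul_apply, LinearMap.sub_apply, Module.End.one_apply]
  rfl

theorem dprod_mem {K : Subgroup (LinearMap.GeneralLinearGroup k V)} {Y : Submodule k V}
    (hK : K ≤ stab Y) (l : List (LinearMap.GeneralLinearGroup k V)) (hl : ∀ g ∈ l, g ∈ K) {y : V}
    (hy : y ∈ Y) : dprod l y ∈ Y := by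
  induction l with
  | nil => rw [dprod_nil, Module.End.one_apply]; exact hy
  | cons g l ih =>
    rw [dprod_cons_apply]
    have h1 := ih (fun x hx => hl x (List.mem_cons_of_mem _ hx))
    exact Y.sub_mem ((hK (hl g List.mem_cons_self)).1 _ h1) h1

/-- `K` acts unipotently on the section `Y / X` -/
def UnipOn (K : Subgroup (LinearMap.GeneralLinearGroup k V)) (X Y : Submodule k V) : Prop :=
  ∃ n : ℕ, ∀ l : List (LinearMap.GeneralLinearGroup k V), (∀ g ∈ l, g ∈ K) → l.length = n →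
    ∀ y ∈ Y, dprod l y ∈ X

theorem UnipOn.mono {K K' : Subgroup (LinearMap.GeneralLinearGroup k V)} {X Y : Submodule k V}
    (h : UnipOn K X Y) (hK : K' ≤ K) : UnipOn K' X Y := by
  obtain ⟨n, hn⟩ := h
  exact ⟨n, fun l hl hlen y hy => hn l (fun g hg => hK (hl g hg)) hlen y hy⟩

theorem UnipOn.mono_section {K : Subgroup (LinearMap.GeneralLinearGroup k V)}
    {X Y X' Y' : Submodule k V} (h : UnipOn K X Y) (hX : X ≤ X') (hY : Y' ≤ Y) :
    UnipOn K X' Y' := by
  obtain ⟨n, hn⟩ := h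
  exact ⟨n, fun l hl hlen y hy => hX (hn l hl hlen y (hY hy))⟩

theorem unipOn_of_le_triv {K : Subgroup (LinearMap.GeneralLinearGroup k V)} {X Y : Submodule k V}
    (h : K ≤ triv X Y) : UnipOn K X Y := by
  refine ⟨1, fun l hl hlen y hy => ?_⟩
  match l, hlen with
  | [g], _ =>
    rw [dprod_cons_apply, dprod_nil, Module.End.one_apply]
    exact (h (hl g List.mem_cons_self)).2 y hy

theorem unipOn_self (K : Subgroup (LinearMap.GeneralLinearGroup k V)) (X : Submodule k V) :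
    UnipOn K X X := by
  refine ⟨0, fun l _ hlen y hy => ?_⟩
  rw [List.length_eq_zero_iff] at hlen
  rw [hlen, dprod_nil, Module.End.one_apply]
  exact hy

theorem UnipOn.trans {K : Subgroup (LinearMap.GeneralLinearGroup k V)} {X Z Y : Submodule k V}
    (h1 : UnipOn K X Z) (h2 : UnipOn K Z Y) : UnipOn K X Y := by
  obtain ⟨n1, hn1⟩ := h1
  obtain ⟨n2, hn2⟩ := h2
  refine ⟨n1 + n2, fun l hl hlen y hy => ?_⟩
  have e : l = l.take n1 ++ l.drop n1 := (List.take_append_drop n1 l).symm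
  rw [e, dprod_append, Module.End.mul_apply]
  apply hn1 _ (fun g hg => hl g (List.mem_of_mem_take hg))
  · rw [List.length_take, hlen]; omega
  · apply hn2 _ (fun g hg => hl g (List.mem_of_mem_drop hg)) _ y hy
    rw [List.length_drop, hlen]; omega

/-- a unipotent group has fixed points on a non-trivial section -/
theorem exists_fixed {K : Subgroup (LinearMap.GeneralLinearGroup k V)} {X Y : Submodule k V}
    (h : UnipOn K X Y) (hK : K ≤ stab Y) (hYX : ¬ Y ≤ X) : ¬ fix K X Y ≤ X := by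
  classical
  have hmin : ∀ m, m < Nat.find h → ¬ _ := fun m hm => Nat.find_min h hm
  have hspec := Nat.find_spec h
  set n := Nat.find h with hn
  rcases Nat.eq_zero_or_pos n with h0 | hpos
  · exfalso
    apply hYX
    intro y hy
    have := hspec [] (by simp) (by rw [h0]; rfl) y hy
    rwa [dprod_nil, Module.End.one_apply] at this
  · have hlt : n - 1 < n := by omega
    have h2 := hmin _ hlt
    push Not at h2
    obtain ⟨l, hl, hlen, y, hy, hyX⟩ := h2
    intro hle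
    apply hyX
    apply hle
    refine ⟨dprod_mem hK l hl hy, fun g hg => ?_⟩
    rw [← dprod_cons_apply]
    apply hspec (g :: l) _ _ y hy
    · intro x hx
      rcases List.mem_cons.1 hx with rfl | hx
      · exact hg
      · exact hl x hx
    · rw [List.length_cons, hlen]; omega


/-! ### the filtration of a section by a group and the associated central series -/

theorem ap_conj (g h : LinearMap.GeneralLinearGroup k V) (v : V) :
    ap (g * h * g⁻¹) (ap g v) = ap g (ap h v) := by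
  rw [ap_mul, ap_mul, ap_inv_ap]

theorem ap_dprod (g : LinearMap.GeneralLinearGroup k V)
    (l : List (LinearMap.GeneralLinearGroup k V)) (y : V) :
    ap g (dprod l y) = dprod (l.map fun h => g * h * g⁻¹) (ap g y) := by
  induction l with
  | nil => simp only [List.map_nil, dprod_nil, Module.End.one_apply]
  | cons h l ih =>
    rw [List.map_cons, dprod_cons_apply, dprod_cons_apply, ap_sub, ← ih, ap_conj]

/-- the `i`-th term of the filtration of `Y / X` defined by `R` -/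
def filt (R : Subgroup (LinearMap.GeneralLinearGroup k V)) (X Y : Submodule k V) (i : ℕ) :
    Submodule k V :=
  X ⊔ Submodule.span k {v | ∃ l : List (LinearMap.GeneralLinearGroup k V), (∀ g ∈ l, g ∈ R) ∧
    l.length = i ∧ ∃ y ∈ Y, v = dprod l y}

theorem X_le_filt (R : Subgroup (LinearMap.GeneralLinearGroup k V)) (X Y : Submodule k V) (i : ℕ) :
    X ≤ filt R X Y i := le_sup_left

theorem filt_zero (R : Subgroup (LinearMap.GeneralLinearGroup k V)) {X Y : Submodule k V}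
    (hXY : X ≤ Y) : filt R X Y 0 = Y := by
  apply le_antisymm
  · apply sup_le hXY
    rw [Submodule.span_le]
    rintro v ⟨l, _, hlen, y, hy, rfl⟩
    rw [List.length_eq_zero_iff] at hlen
    rw [hlen, dprod_nil, Module.End.one_apply]
    exact hy
  · intro y hy
    apply Submodule.mem_sup_right
    apply Submodule.subset_span
    exact ⟨[], by simp, rfl, y, hy, by rw [dprod_nil, Module.End.one_apply]⟩

/-- an induction principle for the members of the filtration -/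
theorem filt_induction {R : Subgroup (LinearMap.GeneralLinearGroup k V)} {X Y : Submodule k V}
    {i : ℕ} {W : Submodule k V} (hX : X ≤ W)
    (hgen : ∀ l : List (LinearMap.GeneralLinearGroup k V), (∀ g ∈ l, g ∈ R) → l.length = i →
      ∀ y ∈ Y, dprod l y ∈ W) : filt R X Y i ≤ W := by
  apply sup_le hX
  rw [Submodule.span_le]
  rintro v ⟨l, hl, hlen, y, hy, rfl⟩
  exact hgen l hl hlen y hy

theorem dprod_mem_filt {R : Subgroup (LinearMap.GeneralLinearGroup k V)} (X : Submodule k V)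
    {Y : Submodule k V} {l : List (LinearMap.GeneralLinearGroup k V)} (hl : ∀ g ∈ l, g ∈ R) {y : V}
    (hy : y ∈ Y) : dprod l y ∈ filt R X Y l.length :=
  Submodule.mem_sup_right (Submodule.subset_span ⟨l, hl, rfl, y, hy, rfl⟩)

/-- the filtration is invariant under `R` -/
theorem ap_mem_filt {R : Subgroup (LinearMap.GeneralLinearGroup k V)} {X Y : Submodule k V}
    (hRX : R ≤ stab X) (hRY : R ≤ stab Y) {g : LinearMap.GeneralLinearGroup k V} (hg : g ∈ R)
    (i : ℕ) : ∀ m ∈ filt R X Y i, ap g m ∈ filt R X Y i := by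
  have key : filt R X Y i ≤ (filt R X Y i).comap (g : V →ₗ[k] V) := by
    apply filt_induction
    · intro x hx
      exact X_le_filt R X Y i ((hRX hg).1 x hx)
    · intro l hl hlen y hy
      show ap g (dprod l y) ∈ filt R X Y i
      rw [ap_dprod]
      have h1 : ∀ h ∈ l.map (fun h => g * h * g⁻¹), h ∈ R := by
        intro h hh
        obtain ⟨h', hh', rfl⟩ := List.mem_map.1 hh
        exact R.mul_mem (R.mul_mem hg (hl h' hh')) (R.inv_mem hg)
      have h2 := dprod_mem_filt (R := R) X h1 ((hRY hg).1 y hy)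
      rwa [List.length_map, hlen] at h2
  exact fun m hm => key hm

/-- `g - 1` raises the filtration degree, for `g ∈ R` -/
theorem sub_mem_filt_succ {R : Subgroup (LinearMap.GeneralLinearGroup k V)} {X Y : Submodule k V}
    (hRX : R ≤ stab X) {g : LinearMap.GeneralLinearGroup k V} (hg : g ∈ R) (i : ℕ) :
    ∀ m ∈ filt R X Y i, ap g m - m ∈ filt R X Y (i + 1) := by
  have key : filt R X Y i ≤ (filt R X Y (i + 1)).comap ((g : V →ₗ[k] V) - 1) := by
    apply filt_induction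
    · intro x hx
      rw [Submodule.mem_comap, LinearMap.sub_apply, Module.End.one_apply]
      exact X_le_filt R X Y _ (X.sub_mem ((hRX hg).1 x hx) hx)
    · intro l hl hlen y hy
      rw [Submodule.mem_comap]
      have h1 : ∀ h ∈ g :: l, h ∈ R := by
        intro h hh
        rcases List.mem_cons.1 hh with rfl | hh
        · exact hg
        · exact hl h hh
      have h2 := dprod_mem_filt (R := R) X h1 hy
      rw [List.length_cons, hlen, dprod_cons, Module.End.mul_apply] at h2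
      exact h2
  intro m hm
  have := key hm
  rw [Submodule.mem_comap, LinearMap.sub_apply, Module.End.one_apply] at this
  exact this

theorem filt_succ_le {R : Subgroup (LinearMap.GeneralLinearGroup k V)} {X Y : Submodule k V}
    (hRX : R ≤ stab X) (hRY : R ≤ stab Y) (i : ℕ) : filt R X Y (i + 1) ≤ filt R X Y i := by
  apply filt_induction (X_le_filt R X Y i)
  intro l hl hlen y hy
  match l, hlen with
  | g :: l', hlen' =>
    have hl' : ∀ h ∈ l', h ∈ R := fun h hh => hl h (List.mem_cons_of_mem _ hh)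
    have hg : g ∈ R := hl g List.mem_cons_self
    have h1 : dprod l' y ∈ filt R X Y i := by
      have := dprod_mem_filt (R := R) X hl' hy
      have e : l'.length = i := by simpa using hlen'
      rwa [e] at this
    rw [dprod_cons_apply]
    exact (filt R X Y i).sub_mem (ap_mem_filt hRX hRY hg i _ h1) h1

theorem filt_antitone {R : Subgroup (LinearMap.GeneralLinearGroup k V)} {X Y : Submodule k V}
    (hRX : R ≤ stab X) (hRY : R ≤ stab Y) {i j : ℕ} (hij : i ≤ j) :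
    filt R X Y j ≤ filt R X Y i := by
  induction hij with
  | refl => exact le_rfl
  | step _ ih => exact (filt_succ_le hRX hRY _).trans ih

theorem filt_eq_of_bound {R : Subgroup (LinearMap.GeneralLinearGroup k V)} {X Y : Submodule k V}
    {n : ℕ} (hn : ∀ l : List (LinearMap.GeneralLinearGroup k V), (∀ g ∈ l, g ∈ R) → l.length = n →
      ∀ y ∈ Y, dprod l y ∈ X) : filt R X Y n ≤ X :=
  filt_induction le_rfl hn


/-- `g` raises the filtration degree by `j` -/
def Deg (R : Subgroup (LinearMap.GeneralLinearGroup k V)) (X Y : Submodule k V) (j : ℕ)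
    (g : LinearMap.GeneralLinearGroup k V) : Prop :=
  ∀ i, ∀ m ∈ filt R X Y i, ap g m - m ∈ filt R X Y (i + j)

theorem Deg.ap_mem {R : Subgroup (LinearMap.GeneralLinearGroup k V)} {X Y : Submodule k V}
    (hRX : R ≤ stab X) (hRY : R ≤ stab Y) {j : ℕ} {g : LinearMap.GeneralLinearGroup k V}
    (hg : Deg R X Y j g) {i : ℕ} {m : V} (hm : m ∈ filt R X Y i) : ap g m ∈ filt R X Y i := by
  have e : ap g m = (ap g m - m) + m := by abel
  rw [e]
  exact (filt R X Y i).add_mem (filt_antitone hRX hRY (Nat.le_add_right i j) (hg i m hm)) hm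

theorem Deg.mul {R : Subgroup (LinearMap.GeneralLinearGroup k V)} {X Y : Submodule k V}
    (hRX : R ≤ stab X) (hRY : R ≤ stab Y) {j : ℕ} {g h : LinearMap.GeneralLinearGroup k V}
    (hg : Deg R X Y j g) (hh : Deg R X Y j h) : Deg R X Y j (g * h) := by
  intro i m hm
  have e : ap (g * h) m - m = ap g (ap h m - m) + (ap g m - m) := by
    rw [ap_mul, ap_sub]; abel
  rw [e]
  exact (filt R X Y (i + j)).add_mem (hg.ap_mem hRX hRY (hh i m hm)) (hg i m hm)

/-- the central series of the stabilizer of the filtration -/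
def cs (R : Subgroup (LinearMap.GeneralLinearGroup k V)) {X Y : Submodule k V}
    (hRX : R ≤ stab X) (hRY : R ≤ stab Y) (j : ℕ) :
    Subgroup (LinearMap.GeneralLinearGroup k V) where
  carrier := {g | g ∈ stab X ∧ Deg R X Y j g ∧ Deg R X Y j g⁻¹}
  mul_mem' := by
    rintro g h ⟨hg0, hg1, hg2⟩ ⟨hh0, hh1, hh2⟩
    refine ⟨(stab X).mul_mem hg0 hh0, hg1.mul hRX hRY hh1, ?_⟩
    rw [mul_inv_rev]
    exact hh2.mul hRX hRY hg2
  one_mem' := by
    have h1 : Deg R X Y j (1 : LinearMap.GeneralLinearGroup k V) := by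
      intro i m _
      rw [ap_one, sub_self]; exact Submodule.zero_mem _
    refine ⟨(stab X).one_mem, h1, ?_⟩
    rw [inv_one]; exact h1
  inv_mem' := by
    rintro g ⟨hg0, hg1, hg2⟩
    refine ⟨(stab X).inv_mem hg0, hg2, ?_⟩
    rw [inv_inv]; exact hg1

theorem mem_cs {R : Subgroup (LinearMap.GeneralLinearGroup k V)} {X Y : Submodule k V}
    {hRX : R ≤ stab X} {hRY : R ≤ stab Y} {j : ℕ} {g : LinearMap.GeneralLinearGroup k V} :
    g ∈ cs R hRX hRY j ↔ g ∈ stab X ∧ Deg R X Y j g ∧ Deg R X Y j g⁻¹ := Iff.rfl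

theorem le_cs_one {R : Subgroup (LinearMap.GeneralLinearGroup k V)} {X Y : Submodule k V}
    (hRX : R ≤ stab X) (hRY : R ≤ stab Y) : R ≤ cs R hRX hRY 1 := by
  intro g hg
  exact ⟨hRX hg, fun i m hm => sub_mem_filt_succ hRX hg i m hm,
    fun i m hm => sub_mem_filt_succ hRX (R.inv_mem hg) i m hm⟩

theorem cs_le_triv {R : Subgroup (LinearMap.GeneralLinearGroup k V)} {X Y : Submodule k V}
    (hRX : R ≤ stab X) (hRY : R ≤ stab Y) (hXY : X ≤ Y) {n : ℕ} (hn : filt R X Y n ≤ X) :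
    cs R hRX hRY n ≤ triv X Y := by
  rintro g ⟨hg0, hg1, _⟩
  refine ⟨hg0, fun y hy => ?_⟩
  have h0 : y ∈ filt R X Y 0 := by rw [filt_zero R hXY]; exact hy
  have := hg1 0 y h0
  rw [zero_add] at this
  exact hn this

/-- commutators add degrees -/
theorem comm_deg {R : Subgroup (LinearMap.GeneralLinearGroup k V)} {X Y : Submodule k V}
    (hRX : R ≤ stab X) (hRY : R ≤ stab Y) {a b : ℕ} {g h : LinearMap.GeneralLinearGroup k V}
    (hg : g ∈ cs R hRX hRY a) (hh : h ∈ cs R hRX hRY b) :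
    Deg R X Y (a + b) (g * h * g⁻¹ * h⁻¹) := by
  intro i m hm
  set z := ap g⁻¹ (ap h⁻¹ m) with hz
  have hzi : z ∈ filt R X Y i := hg.2.2.ap_mem hRX hRY (hh.2.2.ap_mem hRX hRY hm)
  have e1 : ap (g * h * g⁻¹ * h⁻¹) m = ap g (ap h z) := by
    rw [ap_mul, ap_mul, ap_mul]
  have e2 : m = ap h (ap g z) := by
    rw [hz, ap_ap_inv, ap_ap_inv]
  have ha' : ap h z - z ∈ filt R X Y (i + b) := hh.2.1 i z hzi
  have hb' : ap g z - z ∈ filt R X Y (i + a) := hg.2.1 i z hzi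
  have h1 : ap g (ap h z - z) - (ap h z - z) ∈ filt R X Y (i + b + a) := hg.2.1 _ _ ha'
  have h2 : ap h (ap g z - z) - (ap g z - z) ∈ filt R X Y (i + a + b) := hh.2.1 _ _ hb'
  have e3 : ap (g * h * g⁻¹ * h⁻¹) m - m =
      (ap g (ap h z - z) - (ap h z - z)) - (ap h (ap g z - z) - (ap g z - z)) := by
    rw [e1]
    conv_lhs => rw [e2]
    rw [ap_sub, ap_sub]
    abel
  rw [e3]
  have e4 : i + b + a = i + (a + b) := by omega
  have e5 : i + a + b = i + (a + b) := by omega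
  rw [e4] at h1
  rw [e5] at h2
  exact Submodule.sub_mem _ h1 h2

theorem comm_mem_cs {R : Subgroup (LinearMap.GeneralLinearGroup k V)} {X Y : Submodule k V}
    (hRX : R ≤ stab X) (hRY : R ≤ stab Y) {a b : ℕ} {g h : LinearMap.GeneralLinearGroup k V}
    (hg : g ∈ cs R hRX hRY a) (hh : h ∈ cs R hRX hRY b) :
    g * h * g⁻¹ * h⁻¹ ∈ cs R hRX hRY (a + b) := by
  refine ⟨?_, comm_deg hRX hRY hg hh, ?_⟩
  · exact (stab X).mul_mem ((stab X).mul_mem ((stab X).mul_mem hg.1 hh.1) ((stab X).inv_mem hg.1))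
      ((stab X).inv_mem hh.1)
  · have e : (g * h * g⁻¹ * h⁻¹)⁻¹ = h * g * h⁻¹ * g⁻¹ := by group
    rw [e, add_comm]
    exact comm_deg hRX hRY hh hg

theorem conj_mem_cs {R : Subgroup (LinearMap.GeneralLinearGroup k V)} {X Y : Submodule k V}
    (hRX : R ≤ stab X) (hRY : R ≤ stab Y) {a b : ℕ} {r g : LinearMap.GeneralLinearGroup k V}
    (hr : r ∈ cs R hRX hRY a) (hg : g ∈ cs R hRX hRY b) : r * g * r⁻¹ ∈ cs R hRX hRY b := by
  have key : ∀ g' : LinearMap.GeneralLinearGroup k V, Deg R X Y b g' →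
      Deg R X Y b (r * g' * r⁻¹) := by
    intro g' hg' i m hm
    have hz : ap r⁻¹ m ∈ filt R X Y i := hr.2.2.ap_mem hRX hRY hm
    have e : ap (r * g' * r⁻¹) m - m = ap r (ap g' (ap r⁻¹ m) - ap r⁻¹ m) := by
      rw [ap_mul, ap_mul, ap_sub, ap_ap_inv]
    rw [e]
    exact hr.2.1.ap_mem hRX hRY (hg' i _ hz)
  refine ⟨?_, key g hg.2.1, ?_⟩
  · exact (stab X).mul_mem ((stab X).mul_mem hr.1 hg.1) ((stab X).inv_mem hr.1)
  · have e : (r * g * r⁻¹)⁻¹ = r * g⁻¹ * r⁻¹ := by group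
    rw [e]
    exact key g⁻¹ hg.2.2


/-! ### the normalizer lemma -/

theorem exists_step {P : ℕ → Prop} {n : ℕ} (h1 : P 1) (hn : ¬ P n) (hn1 : 1 ≤ n) :
    ∃ j, P j ∧ ¬ P (j + 1) := by
  classical
  have hex : ∃ j, ¬ P (j + 1) := ⟨n - 1, by rwa [Nat.sub_add_cancel hn1]⟩
  have hspec := Nat.find_spec hex
  have hmin : ∀ m, m < Nat.find hex → ¬ ¬ P (m + 1) := fun m hm => Nat.find_min hex hm
  rcases Nat.eq_zero_or_pos (Nat.find hex) with h0 | hpos
  · rw [h0] at hspec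
    exact absurd h1 hspec
  · refine ⟨Nat.find hex, ?_, hspec⟩
    have := not_not.1 (hmin (Nat.find hex - 1) (by omega))
    rwa [Nat.sub_add_cancel hpos] at this

theorem mem_normalizer_of_conj {H : Subgroup (LinearMap.GeneralLinearGroup k V)}
    {S : Subgroup (LinearMap.GeneralLinearGroup k V)}
    (h : ∀ r ∈ S, ∀ p ∈ H, r * p * r⁻¹ ∈ H) :
    S ≤ Subgroup.normalizer (H : Set (LinearMap.GeneralLinearGroup k V)) := by
  intro r hr
  rw [Subgroup.mem_normalizer_iff]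
  intro p
  constructor
  · exact h r hr p
  · intro hp
    have := h r⁻¹ (S.inv_mem hr) _ hp
    rw [inv_inv] at this
    have e : r⁻¹ * (r * p * r⁻¹) * r = p := by group
    rwa [e] at this

/-- in a group acting unipotently on a section and generated by an invariant family, a proper
subfamily cut out by a triviality condition is normalized by a member outside it -/
theorem exists_normalizing {R : Subgroup (LinearMap.GeneralLinearGroup k V)}
    {X Y Z : Submodule k V} (hXY : X ≤ Y) (hRX : R ≤ stab X) (hRY : R ≤ stab Y)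
    (hU : UnipOn R X Y) (hZY : Z ≤ Y) (𝒜 : Set (Subgroup (LinearMap.GeneralLinearGroup k V)))
    (hR : R = sSup 𝒜) (hinv : ∀ A ∈ 𝒜, ∀ g ∈ R, Cfsg.conjBy A g ∈ 𝒜)
    (hne : ∃ A ∈ 𝒜, ¬ A ≤ triv X Z) :
    ∃ A ∈ 𝒜, ¬ A ≤ triv X Z ∧ A ≤ Subgroup.normalizer
      ((sSup {A ∈ 𝒜 | A ≤ triv X Z} : Subgroup (LinearMap.GeneralLinearGroup k V)) :
        Set (LinearMap.GeneralLinearGroup k V)) := by
  set D := sSup {A ∈ 𝒜 | A ≤ triv X Z} with hD
  have hDR : D ≤ R := by
    rw [hR]; exact sSup_le_sSup (fun A hA => hA.1)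
  have hDtriv : D ≤ triv X Z := sSup_le (fun A hA => hA.2)
  obtain ⟨n0, hn0⟩ := hU
  have hfilt0 : filt R X Y n0 ≤ X := filt_eq_of_bound hn0
  set n := n0 + 1 with hn
  have hfilt : filt R X Y n ≤ X := (filt_antitone hRX hRY (Nat.le_succ n0)).trans hfilt0
  let P : ℕ → Prop := fun j => ∃ A ∈ 𝒜, ¬ A ≤ triv X Z ∧ A ≤ D ⊔ cs R hRX hRY j
  have hP1 : P 1 := by
    obtain ⟨A, hA, hAt⟩ := hne
    refine ⟨A, hA, hAt, ?_⟩
    have : A ≤ R := by rw [hR]; exact le_sSup hA
    exact this.trans ((le_cs_one hRX hRY).trans le_sup_right)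
  have hPn : ¬ P n := by
    rintro ⟨A, _, hAt, hA⟩
    apply hAt
    refine hA.trans (sup_le hDtriv ?_)
    exact (cs_le_triv hRX hRY hXY hfilt).trans (triv_anti hZY)
  obtain ⟨j, ⟨A, hA, hAt, hAj⟩, hj1⟩ := exists_step hP1 hPn (by omega)
  refine ⟨A, hA, hAt, ?_⟩
  -- `D ⊔ cs j` normalizes `D ⊔ cs (j+1)`
  have hnorm : D ⊔ cs R hRX hRY j ≤ Subgroup.normalizer
      ((D ⊔ cs R hRX hRY (j + 1) : Subgroup (LinearMap.GeneralLinearGroup k V)) :
        Set (LinearMap.GeneralLinearGroup k V)) := by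
    apply sup_le
    · exact le_sup_left.trans Subgroup.le_normalizer
    · apply mem_normalizer_of_conj
      intro r hr
      have key : D ⊔ cs R hRX hRY (j + 1) ≤
          (D ⊔ cs R hRX hRY (j + 1)).comap (MulAut.conj r).toMonoidHom := by
        apply sup_le
        · intro d hd
          rw [Subgroup.mem_comap]
          show r * d * r⁻¹ ∈ _
          have e : r * d * r⁻¹ = (r * d * r⁻¹ * d⁻¹) * d := by group
          rw [e]
          apply Subgroup.mul_mem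
          · exact (le_sup_right : cs R hRX hRY (j + 1) ≤ _)
              (comm_mem_cs hRX hRY hr (le_cs_one hRX hRY (hDR hd)))
          · exact (le_sup_left : D ≤ _) hd
        · intro g hg
          rw [Subgroup.mem_comap]
          show r * g * r⁻¹ ∈ _
          exact (le_sup_right : cs R hRX hRY (j + 1) ≤ _) (conj_mem_cs hRX hRY hr hg)
      exact fun p hp => key hp
  have hAnorm : A ≤ Subgroup.normalizer
      ((D ⊔ cs R hRX hRY (j + 1) : Subgroup (LinearMap.GeneralLinearGroup k V)) :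
        Set (LinearMap.GeneralLinearGroup k V)) := hAj.trans hnorm
  have hAR : A ≤ R := by rw [hR]; exact le_sSup hA
  apply mem_normalizer_of_conj
  intro a ha
  have key : D ≤ D.comap (MulAut.conj a).toMonoidHom := by
    apply sSup_le
    rintro A' ⟨hA', hA't⟩
    rw [← Subgroup.map_le_iff_le_comap]
    have h1 : Cfsg.conjBy A' a ∈ 𝒜 := hinv A' hA' a (hAR ha)
    have h2 : Cfsg.conjBy A' a ≤ D ⊔ cs R hRX hRY (j + 1) := by
      rintro _ ⟨x, hx, rfl⟩
      have hx' : x ∈ D ⊔ cs R hRX hRY (j + 1) :=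
        (le_sup_left : D ≤ _)
          ((le_sSup (⟨hA', hA't⟩ : A' ∈ {A ∈ 𝒜 | A ≤ triv X Z}) : A' ≤ D) hx)
      have := (Subgroup.mem_normalizer_iff.1 (hAnorm ha) x).1 hx'
      exact this
    have h3 : Cfsg.conjBy A' a ≤ triv X Z := by
      by_contra hcon
      exact hj1 ⟨_, h1, hcon, h2⟩
    exact le_sSup (⟨h1, h3⟩ : Cfsg.conjBy A' a ∈ {A ∈ 𝒜 | A ≤ triv X Z})
  exact fun p hp => key hp


/-! ### families of subgroups -/

/-- the hypotheses on a family of subgroups acting on the section `Y / X` -/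
structure Fam (𝒦 : Set (Subgroup (LinearMap.GeneralLinearGroup k V))) (X Y : Submodule k V) :
    Prop where
  stabX : ∀ A ∈ 𝒦, A ≤ stab X
  stabY : ∀ A ∈ 𝒦, A ≤ stab Y
  inv : ∀ A ∈ 𝒦, ∀ g ∈ sSup 𝒦, Cfsg.conjBy A g ∈ 𝒦
  pair : ∀ A ∈ 𝒦, ∀ B ∈ 𝒦, UnipOn (A ⊔ B) X Y

/-- the members acting trivially on `U` modulo `X` -/
def sub (𝒦 : Set (Subgroup (LinearMap.GeneralLinearGroup k V))) (X U : Submodule k V) :
    Set (Subgroup (LinearMap.GeneralLinearGroup k V)) := {A ∈ 𝒦 | A ≤ triv X U}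

/-- the closure of a subspace -/
def cl (𝒦 : Set (Subgroup (LinearMap.GeneralLinearGroup k V))) (X Y U : Submodule k V) :
    Submodule k V := fix (sSup (sub 𝒦 X U)) X Y

section fam

variable {𝒦 : Set (Subgroup (LinearMap.GeneralLinearGroup k V))} {X Y : Submodule k V}

theorem Fam.sSup_le_stabX (F : Fam 𝒦 X Y) : sSup 𝒦 ≤ stab X := sSup_le F.stabX

theorem Fam.sSup_le_stabY (F : Fam 𝒦 X Y) : sSup 𝒦 ≤ stab Y := sSup_le F.stabY

theorem sub_subset (𝒦 : Set (Subgroup (LinearMap.GeneralLinearGroup k V))) (X U : Submodule k V) :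
    sub 𝒦 X U ⊆ 𝒦 := fun _ h => h.1

theorem sSup_sub_le (𝒦 : Set (Subgroup (LinearMap.GeneralLinearGroup k V))) (X U : Submodule k V) :
    sSup (sub 𝒦 X U) ≤ sSup 𝒦 := sSup_le_sSup (sub_subset 𝒦 X U)

theorem sSup_sub_le_triv (𝒦 : Set (Subgroup (LinearMap.GeneralLinearGroup k V)))
    (X U : Submodule k V) : sSup (sub 𝒦 X U) ≤ triv X U := sSup_le (fun _ h => h.2)

theorem sub_anti (𝒦 : Set (Subgroup (LinearMap.GeneralLinearGroup k V))) (X : Submodule k V)
    {U U' : Submodule k V} (h : U ≤ U') : sub 𝒦 X U' ⊆ sub 𝒦 X U :=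
  fun _ hA => ⟨hA.1, hA.2.trans (triv_anti h)⟩

theorem sub_sup (𝒦 : Set (Subgroup (LinearMap.GeneralLinearGroup k V))) (X U U' : Submodule k V) :
    sub 𝒦 X (U ⊔ U') = sub 𝒦 X U ∩ sub 𝒦 X U' := by
  ext A
  simp only [sub, Set.mem_setOf_eq, Set.mem_inter_iff, triv_sup, le_inf_iff]
  tauto

theorem cl_le (𝒦 : Set (Subgroup (LinearMap.GeneralLinearGroup k V))) (X Y U : Submodule k V) :
    cl 𝒦 X Y U ≤ Y := fix_le _ _ _

theorem le_cl (𝒦 : Set (Subgroup (LinearMap.GeneralLinearGroup k V))) (X : Submodule k V)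
    {Y U : Submodule k V} (hUY : U ≤ Y) : U ≤ cl 𝒦 X Y U :=
  le_fix hUY (sSup_sub_le_triv 𝒦 X U)

theorem cl_mono (𝒦 : Set (Subgroup (LinearMap.GeneralLinearGroup k V))) (X Y : Submodule k V)
    {U U' : Submodule k V} (h : U ≤ U') : cl 𝒦 X Y U ≤ cl 𝒦 X Y U' :=
  fix_anti (sSup_le_sSup (sub_anti 𝒦 X h)) X Y

theorem sub_cl (F : Fam 𝒦 X Y) {U : Submodule k V} (hUY : U ≤ Y) :
    sub 𝒦 X (cl 𝒦 X Y U) = sub 𝒦 X U := by
  apply Set.Subset.antisymm
  · exact sub_anti 𝒦 X (le_cl 𝒦 X hUY)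
  · intro A hA
    refine ⟨hA.1, ?_⟩
    have h1 : A ≤ sSup (sub 𝒦 X U) := le_sSup hA
    exact h1.trans (le_triv_fix ((sSup_sub_le 𝒦 X U).trans F.sSup_le_stabX))

theorem cl_cl (F : Fam 𝒦 X Y) {U : Submodule k V} (hUY : U ≤ Y) :
    cl 𝒦 X Y (cl 𝒦 X Y U) = cl 𝒦 X Y U := by
  unfold cl
  rw [show sub 𝒦 X (fix (sSup (sub 𝒦 X U)) X Y) = sub 𝒦 X U from sub_cl F hUY]

/-- the subfamily is again a family, on the section `Y / U` -/
theorem Fam.sub (F : Fam 𝒦 X Y) {U : Submodule k V} (hXU : X ≤ U) :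
    Fam (sub 𝒦 X U) U Y where
  stabX := fun A hA => hA.2.trans (triv_le_stab_right hXU)
  stabY := fun A hA => F.stabY A hA.1
  inv := by
    intro A hA g hg
    refine ⟨F.inv A hA.1 g (sSup_sub_le 𝒦 X U hg), ?_⟩
    rintro _ ⟨a, ha, rfl⟩
    have hg' := sSup_sub_le_triv 𝒦 X U hg
    exact (triv X U).mul_mem ((triv X U).mul_mem hg' (hA.2 ha)) ((triv X U).inv_mem hg')
  pair := fun A hA B hB => (F.pair A hA.1 B hB.1).mono_section hXU le_rfl

/-- the same family on the section `Y / U`, when everything is trivial on `U / X` -/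
theorem Fam.shift (F : Fam 𝒦 X Y) {U : Submodule k V} (hXU : X ≤ U)
    (h : ∀ A ∈ 𝒦, A ≤ triv X U) : Fam 𝒦 U Y where
  stabX := fun A hA => (h A hA).trans (triv_le_stab_right hXU)
  stabY := F.stabY
  inv := F.inv
  pair := fun A hA B hB => (F.pair A hA B hB).mono_section hXU le_rfl

theorem stab_fix_of_normalizer {T D : Subgroup (LinearMap.GeneralLinearGroup k V)}
    (hTX : T ≤ stab X) (hTY : T ≤ stab Y)
    (hTD : T ≤ Subgroup.normalizer (D : Set (LinearMap.GeneralLinearGroup k V))) :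
    T ≤ stab (fix D X Y) := by
  have key : ∀ t ∈ T, ∀ y ∈ fix D X Y, ap t y ∈ fix D X Y := by
    intro t ht y hy
    refine ⟨(hTY ht).1 y hy.1, fun d hd => ?_⟩
    have h1 : t⁻¹ * d * t ∈ D := by
      have := (Subgroup.mem_normalizer_iff.1 (hTD (T.inv_mem ht)) d).1 hd
      rwa [inv_inv] at this
    have e : ap d (ap t y) - ap t y = ap t (ap (t⁻¹ * d * t) y - y) := by
      rw [ap_sub, ap_mul, ap_mul, ap_ap_inv]
    rw [e]
    exact (hTX ht).1 _ (hy.2 _ h1)
  intro t ht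
  exact ⟨key t ht, key t⁻¹ (T.inv_mem ht)⟩

end fam


/-! ### closed subspaces and the main induction -/

section main

variable [FiniteDimensional k V]
variable {𝒦 : Set (Subgroup (LinearMap.GeneralLinearGroup k V))} {X Y : Submodule k V}

/-- `U` is closed: it is the fixed space modulo `X` of the members acting trivially on it -/
def Closed (𝒦 : Set (Subgroup (LinearMap.GeneralLinearGroup k V))) (X Y U : Submodule k V) :
    Prop := X < U ∧ U ≤ Y ∧ cl 𝒦 X Y U ≤ U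

/-- a minimal closed subspace -/
def MinClosed (𝒦 : Set (Subgroup (LinearMap.GeneralLinearGroup k V))) (X Y U : Submodule k V) :
    Prop := Closed 𝒦 X Y U ∧ ∀ U', Closed 𝒦 X Y U' → U' ≤ U → U' = U

theorem closed_cl (F : Fam 𝒦 X Y) {U : Submodule k V} (hXU : X < U) (hUY : U ≤ Y) :
    Closed 𝒦 X Y (cl 𝒦 X Y U) :=
  ⟨lt_of_lt_of_le hXU (le_cl 𝒦 X hUY), cl_le 𝒦 X Y U, (cl_cl F hUY).le⟩

theorem exists_minClosed_le : ∀ (n : ℕ) (U : Submodule k V), Module.finrank k U ≤ n →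
    Closed 𝒦 X Y U → ∃ U', MinClosed 𝒦 X Y U' ∧ U' ≤ U := by
  intro n
  induction n with
  | zero =>
    intro U hn hU
    exfalso
    have h1 : Module.finrank k U = 0 := by omega
    rw [Submodule.finrank_eq_zero] at h1
    rw [h1] at hU
    exact not_lt_bot hU.1
  | succ n ih =>
    intro U hn hU
    by_cases hmin : ∀ U', Closed 𝒦 X Y U' → U' ≤ U → U' = U
    · exact ⟨U, ⟨hU, hmin⟩, le_rfl⟩
    · push Not at hmin
      obtain ⟨U', hU', hle, hne⟩ := hmin
      have hlt : U' < U := lt_of_le_of_ne hle hne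
      have := Submodule.finrank_lt_finrank_of_lt hlt
      obtain ⟨U'', h1, h2⟩ := ih U' (by omega) hU'
      exact ⟨U'', h1, h2.trans hle⟩

/-- the induction hypothesis of the main theorem -/
def IH (X Y : Submodule k V) : Prop :=
  ∀ (U : Submodule k V) (𝒦' : Set (Subgroup (LinearMap.GeneralLinearGroup k V))), X < U → U ≤ Y →
    Fam 𝒦' U Y → UnipOn (sSup 𝒦') U Y

theorem unipOn_sSup_sub (F : Fam 𝒦 X Y) (ih : IH X Y) {U : Submodule k V} (hXU : X < U)
    (hUY : U ≤ Y) : UnipOn (sSup (sub 𝒦 X U)) X Y :=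
  (unipOn_of_le_triv (sSup_sub_le_triv 𝒦 X U)).trans (ih U _ hXU hUY (F.sub hXU.le))

theorem exists_not_le (F : Fam 𝒦 X Y) {X₁ X₂ : Submodule k V} (h1 : MinClosed 𝒦 X Y X₁)
    (h2 : MinClosed 𝒦 X Y X₂) (hne : X₁ ≠ X₂) : ∃ A ∈ sub 𝒦 X X₁, ¬ A ≤ triv X X₂ := by
  by_contra hcon
  push Not at hcon
  apply hne
  have hsub : sub 𝒦 X X₁ ⊆ sub 𝒦 X X₂ := fun A hA => ⟨hA.1, hcon A hA⟩
  have h3 : cl 𝒦 X Y X₂ ≤ cl 𝒦 X Y X₁ := fix_anti (sSup_le_sSup hsub) X Y
  have h4 : X₂ ≤ X₁ := (le_cl 𝒦 X h2.1.2.1).trans (h3.trans h1.1.2.2)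
  exact (h1.2 X₂ h2.1 h4).symm

theorem sep_sub_eq {X₁ X₂ : Submodule k V} :
    {A ∈ sub 𝒦 X X₁ | A ≤ triv X (X₁ ⊔ X₂)} = sub 𝒦 X (X₁ ⊔ X₂) := by
  ext A
  constructor
  · rintro ⟨⟨hA, _⟩, h⟩
    exact ⟨hA, h⟩
  · rintro ⟨hA, h⟩
    exact ⟨⟨hA, h.trans (triv_anti le_sup_left)⟩, h⟩

/-- one half of the Wielandt argument: a member of the first subfamily, not trivial on the sum,
normalizing the group generated by the common subfamily -/
theorem exists_A (F : Fam 𝒦 X Y) (hXY : X ≤ Y) (ih : IH X Y) {X₁ X₂ : Submodule k V}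
    (h1 : MinClosed 𝒦 X Y X₁) (h2 : MinClosed 𝒦 X Y X₂) (hne : X₁ ≠ X₂) :
    ∃ A ∈ sub 𝒦 X X₁, ¬ A ≤ triv X (X₁ ⊔ X₂) ∧
      A ≤ Subgroup.normalizer ((sSup (sub 𝒦 X (X₁ ⊔ X₂)) :
        Subgroup (LinearMap.GeneralLinearGroup k V)) : Set (LinearMap.GeneralLinearGroup k V)) := by
  obtain ⟨A, hA, hAt⟩ := exists_not_le F h1 h2 hne
  have hZY : X₁ ⊔ X₂ ≤ Y := sup_le h1.1.2.1 h2.1.2.1
  have hR : sSup (sub 𝒦 X X₁) ≤ sSup 𝒦 := sSup_sub_le 𝒦 X X₁
  have := exists_normalizing (R := sSup (sub 𝒦 X X₁)) (Z := X₁ ⊔ X₂) hXY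
    (hR.trans F.sSup_le_stabX) (hR.trans F.sSup_le_stabY)
    (unipOn_sSup_sub F ih h1.1.1 h1.1.2.1) hZY (sub 𝒦 X X₁) rfl (F.sub h1.1.1.le).inv
    ⟨A, hA, fun h => hAt (h.trans (triv_anti le_sup_right))⟩
  rw [sep_sub_eq] at this
  exact this

theorem wielandt_step (F : Fam 𝒦 X Y) (hXY : X ≤ Y) (ih : IH X Y) {X₁ X₂ : Submodule k V}
    (h1 : MinClosed 𝒦 X Y X₁) (h2 : MinClosed 𝒦 X Y X₂) (hne : X₁ ≠ X₂) :
    ∃ X₄, MinClosed 𝒦 X Y X₄ ∧
      Module.finrank k (cl 𝒦 X Y (X₁ ⊔ X₄)) < Module.finrank k (cl 𝒦 X Y (X₁ ⊔ X₂)) ∧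
      Module.finrank k (cl 𝒦 X Y (X₂ ⊔ X₄)) < Module.finrank k (cl 𝒦 X Y (X₁ ⊔ X₂)) := by
  obtain ⟨A₁, hA₁, hA₁t, hA₁n⟩ := exists_A F hXY ih h1 h2 hne
  obtain ⟨A₂, hA₂, hA₂t, hA₂n⟩ := exists_A F hXY ih h2 h1 (Ne.symm hne)
  rw [sup_comm X₂ X₁] at hA₂t hA₂n
  set Z := X₁ ⊔ X₂ with hZ
  set D := sSup (sub 𝒦 X Z) with hD
  have hZY : Z ≤ Y := sup_le h1.1.2.1 h2.1.2.1
  have hDK : D ≤ sSup 𝒦 := sSup_sub_le 𝒦 X Z
  have hDX : D ≤ stab X := hDK.trans F.sSup_le_stabX
  -- the group `T`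
  have hTX : A₁ ⊔ A₂ ≤ stab X := sup_le (F.stabX A₁ hA₁.1) (F.stabX A₂ hA₂.1)
  have hTY : A₁ ⊔ A₂ ≤ stab Y := sup_le (F.stabY A₁ hA₁.1) (F.stabY A₂ hA₂.1)
  have hTD : A₁ ⊔ A₂ ≤ Subgroup.normalizer (D : Set (LinearMap.GeneralLinearGroup k V)) :=
    sup_le hA₁n hA₂n
  have hTU : UnipOn (A₁ ⊔ A₂) X Y := F.pair A₁ hA₁.1 A₂ hA₂.1
  have hTZ : A₁ ⊔ A₂ ≤ stab (cl 𝒦 X Y Z) := stab_fix_of_normalizer hTX hTY hTD
  have hZbar : ¬ cl 𝒦 X Y Z ≤ X := by
    intro h
    have : X₁ ≤ X := (le_sup_left.trans (le_cl 𝒦 X hZY)).trans h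
    exact (not_le_of_gt h1.1.1) this
  have hXZbar : X ≤ cl 𝒦 X Y Z := (h1.1.1.le.trans le_sup_left).trans (le_cl 𝒦 X hZY)
  set E := fix (A₁ ⊔ A₂) X (cl 𝒦 X Y Z) with hE
  have hEX : ¬ E ≤ X := exists_fixed (hTU.mono_section le_rfl (cl_le 𝒦 X Y Z)) hTZ hZbar
  have hXE : X < E := lt_of_le_not_ge (X_le_fix hXZbar hTX) hEX
  have hEZ : E ≤ cl 𝒦 X Y Z := fix_le _ _ _
  have hEY : E ≤ Y := hEZ.trans (cl_le 𝒦 X Y Z)
  obtain ⟨X₄, h4, h4le⟩ := exists_minClosed_le (𝒦 := 𝒦) (X := X) (Y := Y) _ _ le_rfl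
    (closed_cl F hXE hEY)
  -- the subfamily of `X₄`
  have hsubE : sub 𝒦 X E ⊆ sub 𝒦 X X₄ := by
    rw [← sub_cl F hEY]
    exact sub_anti 𝒦 X h4le
  have hTE : A₁ ⊔ A₂ ≤ triv X E := le_triv_fix hTX
  have hA₁E : A₁ ∈ sub 𝒦 X E := ⟨hA₁.1, le_sup_left.trans hTE⟩
  have hA₂E : A₂ ∈ sub 𝒦 X E := ⟨hA₂.1, le_sup_right.trans hTE⟩
  have hZE : sub 𝒦 X Z ⊆ sub 𝒦 X E := by
    intro A hA
    refine ⟨hA.1, ?_⟩
    have h5 : A ≤ D := le_sSup hA
    exact (h5.trans (le_triv_fix hDX)).trans (triv_anti hEZ)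
  refine ⟨X₄, h4, ?_, ?_⟩
  · -- `cl (X₁ ⊔ X₄)` is strictly smaller
    have hD4 : D ≤ sSup (sub 𝒦 X (X₁ ⊔ X₄)) := by
      apply sSup_le_sSup
      intro A hA
      rw [sub_sup]
      exact ⟨sub_anti 𝒦 X le_sup_left hA, hsubE (hZE hA)⟩
    have hA4 : A₁ ≤ sSup (sub 𝒦 X (X₁ ⊔ X₄)) := by
      apply le_sSup
      rw [sub_sup]
      exact ⟨hA₁, hsubE hA₁E⟩
    have hle : cl 𝒦 X Y (X₁ ⊔ X₄) ≤ cl 𝒦 X Y Z := fix_anti hD4 X Y
    by_contra hcon
    push Not at hcon
    have heq := Submodule.eq_of_le_of_finrank_le hle hcon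
    apply hA₁t
    intro a ha
    refine ⟨F.stabX A₁ hA₁.1 ha, fun z hz => ?_⟩
    have hz' : z ∈ cl 𝒦 X Y (X₁ ⊔ X₄) := by rw [heq]; exact le_cl 𝒦 X hZY hz
    exact hz'.2 a (hA4 ha)
  · have hD4 : D ≤ sSup (sub 𝒦 X (X₂ ⊔ X₄)) := by
      apply sSup_le_sSup
      intro A hA
      rw [sub_sup]
      exact ⟨sub_anti 𝒦 X le_sup_right hA, hsubE (hZE hA)⟩
    have hA4 : A₂ ≤ sSup (sub 𝒦 X (X₂ ⊔ X₄)) := by
      apply le_sSup
      rw [sub_sup]
      exact ⟨hA₂, hsubE hA₂E⟩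
    have hle : cl 𝒦 X Y (X₂ ⊔ X₄) ≤ cl 𝒦 X Y Z := fix_anti hD4 X Y
    by_contra hcon
    push Not at hcon
    have heq := Submodule.eq_of_le_of_finrank_le hle hcon
    apply hA₂t
    intro a ha
    refine ⟨F.stabX A₂ hA₂.1 ha, fun z hz => ?_⟩
    have hz' : z ∈ cl 𝒦 X Y (X₂ ⊔ X₄) := by rw [heq]; exact le_cl 𝒦 X hZY hz
    exact hz'.2 a (hA4 ha)

/-- any two minimal closed subspaces coincide -/
theorem minClosed_unique (F : Fam 𝒦 X Y) (hXY : X ≤ Y) (ih : IH X Y) {X₁ X₂ : Submodule k V}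
    (h1 : MinClosed 𝒦 X Y X₁) (h2 : MinClosed 𝒦 X Y X₂) : X₁ = X₂ := by
  classical
  by_contra hne
  have hex : ∃ n : ℕ, ∃ X₁ X₂, MinClosed 𝒦 X Y X₁ ∧ MinClosed 𝒦 X Y X₂ ∧ X₁ ≠ X₂ ∧
      Module.finrank k (cl 𝒦 X Y (X₁ ⊔ X₂)) = n := ⟨_, X₁, X₂, h1, h2, hne, rfl⟩
  obtain ⟨Y₁, Y₂, g1, g2, gne, gn⟩ := Nat.find_spec hex
  have hmin : ∀ m, m < Nat.find hex → ¬ ∃ X₁ X₂, MinClosed 𝒦 X Y X₁ ∧ MinClosed 𝒦 X Y X₂ ∧
      X₁ ≠ X₂ ∧ Module.finrank k (cl 𝒦 X Y (X₁ ⊔ X₂)) = m := fun m hm => Nat.find_min hex hm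
  obtain ⟨X₄, h4, hlt1, hlt2⟩ := wielandt_step F hXY ih g1 g2 gne
  rw [gn] at hlt1 hlt2
  have e1 : Y₁ = X₄ := by
    by_contra hc
    exact hmin _ hlt1 ⟨Y₁, X₄, g1, h4, hc, rfl⟩
  have e2 : Y₂ = X₄ := by
    by_contra hc
    exact hmin _ hlt2 ⟨Y₂, X₄, g2, h4, hc, rfl⟩
  exact gne (e1.trans e2.symm)

/-- the main theorem, in relative form -/
theorem main_aux : ∀ (d : ℕ) (X Y : Submodule k V)
    (𝒦 : Set (Subgroup (LinearMap.GeneralLinearGroup k V))), X ≤ Y →
    Module.finrank k Y ≤ Module.finrank k X + d → Fam 𝒦 X Y → UnipOn (sSup 𝒦) X Y := by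
  intro d
  induction d with
  | zero =>
    intro X Y 𝒦 hXY hd _
    have : X = Y := Submodule.eq_of_le_of_finrank_le hXY (by omega)
    rw [this]
    exact unipOn_self _ _
  | succ d ih =>
    intro X Y 𝒦 hXY hd F
    by_cases hXYe : X = Y
    · rw [hXYe]; exact unipOn_self _ _
    have hlt : X < Y := lt_of_le_of_ne hXY hXYe
    have hIH : IH X Y := by
      intro U 𝒦' hXU hUY F'
      apply ih U Y 𝒦' hUY _ F'
      have := Submodule.finrank_lt_finrank_of_lt hXU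
      omega
    have hYX : ¬ Y ≤ X := not_le_of_gt hlt
    -- `Y` is closed
    have hYc : Closed 𝒦 X Y Y := ⟨hlt, le_rfl, cl_le 𝒦 X Y Y⟩
    obtain ⟨X₁, hX₁, _⟩ := exists_minClosed_le (𝒦 := 𝒦) (X := X) (Y := Y) _ _ le_rfl hYc
    have htriv : ∀ B ∈ 𝒦, B ≤ triv X X₁ := by
      intro B hB
      have hBU : UnipOn B X Y := by
        have := F.pair B hB B hB
        rwa [sup_idem] at this
      have hfix : ¬ fix B X Y ≤ X := exists_fixed hBU (F.stabY B hB) hYX
      have hXf : X < fix B X Y := lt_of_le_not_ge (X_le_fix hXY (F.stabX B hB)) hfix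
      have hBt : B ≤ triv X (fix B X Y) := le_triv_fix (F.stabX B hB)
      have hc : Closed 𝒦 X Y (fix B X Y) := by
        refine ⟨hXf, fix_le _ _ _, ?_⟩
        apply fix_anti _ X Y
        exact le_sSup (⟨hB, hBt⟩ : B ∈ sub 𝒦 X (fix B X Y))
      obtain ⟨X', hX', hle⟩ := exists_minClosed_le (𝒦 := 𝒦) (X := X) (Y := Y) _ _ le_rfl hc
      have : X' = X₁ := minClosed_unique F hXY hIH hX' hX₁
      rw [this] at hle
      exact hBt.trans (triv_anti hle)
    have h1 : UnipOn (sSup 𝒦) X X₁ := unipOn_of_le_triv (sSup_le htriv)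
    have h2 : UnipOn (sSup 𝒦) X₁ Y :=
      hIH X₁ 𝒦 hX₁.1.1 hX₁.1.2.1 (F.shift hX₁.1.1.le htriv)
    exact h1.trans h2

end main


/-! ### the bridge to the statement -/

section bridge

variable {M : Type*} [AddCommGroup M] [Module k M]

theorem prelude_prod_eq (l : List (LinearMap.GeneralLinearGroup k M)) :
    (l.map fun g => (g : M →ₗ[k] M) - 1).prod = dprod l := by
  unfold dprod
  congr 1
  induction l with
  | nil => rfl
  | cons g l ih =>
    simp only [List.bind_eq_flatMap, List.pure_def, List.flatMap_cons, List.map_cons,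
      List.singleton_append] at ih ⊢
    rw [ih]

theorem isUnipotentOn_iff (H : Subgroup (LinearMap.GeneralLinearGroup k M)) :
    Cfsg.IsUnipotentOn H ↔ UnipOn H ⊥ ⊤ := by
  constructor
  · rintro ⟨n, hn⟩
    refine ⟨n, fun l hl hlen y _ => ?_⟩
    have := hn l hl hlen
    rw [prelude_prod_eq] at this
    rw [this, LinearMap.zero_apply]
    exact Submodule.zero_mem _
  · rintro ⟨n, hn⟩
    refine ⟨n, fun l hl hlen => ?_⟩
    rw [prelude_prod_eq]
    apply LinearMap.ext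
    intro y
    have := hn l hl hlen y Submodule.mem_top
    rw [Submodule.mem_bot] at this
    rw [this, LinearMap.zero_apply]

theorem stab_bot : stab (⊥ : Submodule k M) = ⊤ := by
  rw [eq_top_iff]
  intro g _
  refine ⟨fun x hx => ?_, fun x hx => ?_⟩ <;>
  · rw [Submodule.mem_bot] at hx
    rw [hx, ap_zero]
    exact Submodule.zero_mem _

theorem stab_top : stab (⊤ : Submodule k M) = ⊤ := by
  rw [eq_top_iff]
  intro g _
  exact ⟨fun _ _ => Submodule.mem_top, fun _ _ => Submodule.mem_top⟩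

/-- the theorem: a conjugation-invariant family of subgroups any two of which generate a unipotent
group generates a unipotent normal subgroup -/
theorem unipotent_family [FiniteDimensional k M]
    {G : Subgroup (LinearMap.GeneralLinearGroup k M)}
    {W : Set (Subgroup (LinearMap.GeneralLinearGroup k M))} (hWG : ∀ A ∈ W, A ≤ G)
    (hWW : ∀ A ∈ W, ∀ B ∈ W, Cfsg.IsUnipotentOn (A ⊔ B))
    (hWconj : ∀ A ∈ W, ∀ g ∈ G, Cfsg.conjBy A g ∈ W) :
    Cfsg.IsUnipotentOn (⨆ A ∈ W, A) ∧ ∀ g ∈ G, Cfsg.conjBy (⨆ A ∈ W, A) g = ⨆ A ∈ W, A := by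
  rw [← sSup_eq_iSup]
  have hHG : sSup W ≤ G := sSup_le hWG
  constructor
  · rw [isUnipotentOn_iff]
    have F : Fam W (⊥ : Submodule k M) ⊤ := by
      refine ⟨fun A _ => ?_, fun A _ => ?_, fun A hA g hg => hWconj A hA g (hHG hg),
        fun A hA B hB => (isUnipotentOn_iff _).1 (hWW A hA B hB)⟩
      · rw [stab_bot]; exact le_top
      · rw [stab_top]; exact le_top
    exact main_aux (Module.finrank k (⊤ : Submodule k M)) ⊥ ⊤ W bot_le (by omega) F
  · have key : ∀ g ∈ G, Cfsg.conjBy (sSup W) g ≤ sSup W := by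
      intro g hg
      show Subgroup.map _ _ ≤ _
      rw [Subgroup.map_le_iff_le_comap]
      apply sSup_le
      intro A hA
      rw [← Subgroup.map_le_iff_le_comap]
      exact le_sSup (hWconj A hA g hg)
    intro g hg
    apply le_antisymm (key g hg)
    have h1 := key g⁻¹ (G.inv_mem hg)
    have h2 : Cfsg.conjBy (Cfsg.conjBy (sSup W) g⁻¹) g ≤ Cfsg.conjBy (sSup W) g :=
      Subgroup.map_mono h1
    refine le_trans ?_ h2
    intro x hx
    refine ⟨g⁻¹ * x * g, ⟨x, hx, ?_⟩, ?_⟩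
    · show g⁻¹ * x * g⁻¹⁻¹ = _
      rw [inv_inv]
    · show g * (g⁻¹ * x * g) * g⁻¹ = x
      group

end bridge

end Cfsg.Agent.Helper94.Unip
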