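import Mathlib

set_option autoImplicit false

/-!
# ZTI (C2) final_assembly (helper98 server, S4151)
-/

namespace Cfsg.Agent.Helper94.ZTI

universe u

/-- a subgroup all of whose elements conjugate `L` into `L` normalizes `L` -/
theorem c2_le_normalizer {G : Type u} [Group G] (S L : Subgroup G)
    (h : ∀ s ∈ S, ∀ x ∈ L, s * x * s⁻¹ ∈ L) : S ≤ Subgroup.normalizer (L : Set G) := by
  intro s hs
  rw [Subgroup.mem_normalizer_iff]
  intro x
  constructor
  · intro hx; exact h s hs x hx
  · intro hx
    have := h s⁻¹ (S.inv_mem hs) _ hx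
    have e : s⁻¹ * (s * x * s⁻¹) * s⁻¹⁻¹ = x := by group
    rw [e] at this
    exact this

/-- (C2) -/
theorem final_assembly {G : Type u} [Group G] [Finite G] (O H Q K : Subgroup G) (hO : O.Normal)
    (hQ : Q ≤ Subgroup.normalizer (H : Set G)) (htop : O ⊔ (Q ⊔ H) = ⊤) (hKH : K ≤ H)
    (hHK : H ≤ Subgroup.normalizer (K : Set G)) (hQK : Q ≤ Subgroup.normalizer (K : Set G))
    (hcomm : ∀ h ∈ H, ∀ q ∈ Q, h * q * h⁻¹ * q⁻¹ ∈ K)
    (hKC : K ⊓ (H ⊓ Subgroup.centralizer (Q : Set G)) = ⊥)
    (hsup : K ⊔ (H ⊓ Subgroup.centralizer (Q : Set G)) = H)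
    (hOH : (Nat.card O).Coprime (Nat.card H)) (hQH : (Nat.card Q).Coprime (Nat.card H))
    (hHall : (Nat.card ↥(H ⊓ Subgroup.centralizer (Q : Set G))).Coprime
      ((H ⊓ Subgroup.centralizer (Q : Set G)).relIndex H))
    (hC1 : ∀ A B : Subgroup G, B ≤ Subgroup.normalizer (A : Set G) →
      Nat.card (A ⊔ B : Subgroup G) ∣ Nat.card A * Nat.card B) :
    (Nat.card ↥(H ⊓ Subgroup.centralizer (Q : Set G))).Coprime
        (H ⊓ Subgroup.centralizer (Q : Set G)).index ∧
      ∃ M : Subgroup G, M.Normal ∧ M.IsComplement' (H ⊓ Subgroup.centralizer (Q : Set G)) := by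
  have := hO
  set C := H ⊓ Subgroup.centralizer (Q : Set G) with hCdef
  have hCH : C ≤ H := inf_le_left
  set L := K ⊔ Q with hLdef
  set M := O ⊔ L with hMdef
  -- `Q` and `H` normalize `L`
  have hQL : Q ≤ Subgroup.normalizer (L : Set G) := by
    have h1 : Q ≤ Subgroup.normalizer (K : Set G) ⊓ Subgroup.normalizer (Q : Set G) :=
      le_inf hQK Subgroup.le_normalizer
    exact h1.trans (Subgroup.normalizer_inf_normalizer_le_normalizer_sup K Q)
  have hHL : H ≤ Subgroup.normalizer (L : Set G) := by
    apply c2_le_normalizer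
    intro h hh x hx
    have hmap : L.map (MulAut.conj h).toMonoidHom ≤ L := by
      rw [hLdef, Subgroup.map_sup]
      apply sup_le
      · rintro y ⟨k, hk, rfl⟩
        apply Subgroup.mem_sup_left
        have := (Subgroup.mem_normalizer_iff.mp (hHK hh) k).mp hk
        simpa using this
      · rintro y ⟨q, hq, rfl⟩
        have e : (MulAut.conj h).toMonoidHom q = (h * q * h⁻¹ * q⁻¹) * q := by
          simp [MulAut.conj_apply]
        rw [e]
        exact Subgroup.mul_mem_sup (hcomm h hh q hq) hq
    have : (MulAut.conj h).toMonoidHom x ∈ L := hmap (Subgroup.mem_map_of_mem _ hx)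
    simpa [MulAut.conj_apply] using this
  -- `M` is normal
  have hOnorm : Subgroup.normalizer (O : Set G) = ⊤ := Subgroup.normalizer_eq_top_iff.mpr hO
  have hMnormal : M.Normal := by
    rw [← Subgroup.normalizer_eq_top_iff, eq_top_iff, ← htop]
    have hsupn : Subgroup.normalizer (O : Set G) ⊓ Subgroup.normalizer (L : Set G) ≤
        Subgroup.normalizer (M : Set G) := Subgroup.normalizer_inf_normalizer_le_normalizer_sup O L
    rw [hOnorm, top_inf_eq] at hsupn
    apply sup_le
    · exact (le_sup_left : O ≤ M).trans Subgroup.le_normalizer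
    · exact sup_le (hQL.trans hsupn) (hHL.trans hsupn)
  -- `M ⊔ C = ⊤`
  have hMC : M ⊔ C = ⊤ := by
    rw [eq_top_iff, ← htop]
    apply sup_le
    · exact (le_sup_left : O ≤ M).trans le_sup_left
    · apply sup_le
      · exact ((le_sup_right : Q ≤ L).trans (le_sup_right : L ≤ M)).trans le_sup_left
      · rw [← hsup]
        apply sup_le
        · exact ((le_sup_left : K ≤ L).trans (le_sup_right : L ≤ M)).trans le_sup_left
        · exact le_sup_right
  -- `|M|` divides `|O| * (|K| * |Q|)`
  have hMdvd : Nat.card M ∣ Nat.card O * (Nat.card K * Nat.card Q) := by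
    have h1 : Nat.card L ∣ Nat.card K * Nat.card Q := hC1 K Q hQK
    have h2 : Nat.card M ∣ Nat.card O * Nat.card L := hC1 O L (by rw [hOnorm]; exact le_top)
    exact h2.trans (Nat.mul_dvd_mul_left _ h1)
  -- `|K| * |C| = |H|`
  have hKCcard : Nat.card K * Nat.card C = Nat.card H := by
    have h1 : Nat.card H ∣ Nat.card K * Nat.card C := by
      have := hC1 K C (hCH.trans hHK)
      rwa [hsup] at this
    have hdisj : Disjoint K C := disjoint_iff.mpr hKC
    have hinj := Subgroup.mul_injective_of_disjoint hdisj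
    have h2 : Nat.card K * Nat.card C ≤ Nat.card H := by
      rw [← Nat.card_prod]
      let f : ↥K × ↥C → ↥H := fun g => ⟨(g.1 : G) * (g.2 : G), H.mul_mem (hKH g.1.2) (hCH g.2.2)⟩
      have hf : Function.Injective f := by
        intro a b hab
        apply hinj
        exact congrArg Subtype.val hab
      exact Nat.card_le_card_of_injective f hf
    exact le_antisymm h2 (Nat.le_of_dvd (Nat.mul_pos Nat.card_pos Nat.card_pos) h1)
  have hKrel : Nat.card K = C.relIndex H := by
    have h1 : Nat.card C * C.relIndex H = Nat.card H := by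
      have := Subgroup.relIndex_mul_relIndex (⊥ : Subgroup G) C H bot_le hCH
      rwa [Subgroup.relIndex_bot_left, Subgroup.relIndex_bot_left] at this
    have h2 : Nat.card C * Nat.card K = Nat.card C * C.relIndex H := by
      rw [h1, mul_comm]; exact hKCcard
    exact Nat.eq_of_mul_eq_mul_left Nat.card_pos h2
  -- coprimality
  have hCdvdH : Nat.card C ∣ Nat.card H := Subgroup.card_dvd_of_le hCH
  have hcopO : (Nat.card O).Coprime (Nat.card C) := Nat.Coprime.coprime_dvd_right hCdvdH hOH
  have hcopQ : (Nat.card Q).Coprime (Nat.card C) := Nat.Coprime.coprime_dvd_right hCdvdH hQH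
  have hcopK : (Nat.card K).Coprime (Nat.card C) := by rw [hKrel]; exact hHall.symm
  have hcopM : (Nat.card M).Coprime (Nat.card C) :=
    Nat.Coprime.coprime_dvd_left hMdvd (Nat.Coprime.mul_left hcopO (Nat.Coprime.mul_left hcopK hcopQ))
  have hcompl : M.IsComplement' C := by
    apply Subgroup.isComplement'_of_disjoint_and_mul_eq_univ
      (Subgroup.disjoint_of_coprime_natCard hcopM)
    rw [← Subgroup.normal_mul, hMC]
    rfl
  refine ⟨?_, M, hMnormal, hcompl⟩
  rw [hcompl.index_eq_card]
  exact hcopM.symm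

end Cfsg.Agent.Helper94.ZTI
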